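/-
P14: finite simple groups of order prime to 3.  Interface (see plans/P14.md).
-/
import Cfsg.Agent.P2.Main
import Cfsg.Agent.H7.SC4
import Cfsg.Agent.H2.Components

set_option autoImplicit false
set_option linter.unusedSectionVars false

namespace Cfsg.Agent.P14

open Subgroup Cfsg Cfsg.Agent Cfsg.Agent.FT
open scoped commutatorElement

universe u

/-- `L` is a Zassenhaus group of odd degree (a Suzuki group when `3 ∤ |L|`). -/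
def ZTG (L : Type u) [Group L] [Finite L] : Prop := ∃ (Q H : Subgroup L) (t : L), P2.ZT Q H t

/-- The theorem holds below order `n`. -/
def KH (n : ℕ) : Prop := ∀ (L : Type u) [Group L] [Finite L], Nat.card L < n →
  ¬ 3 ∣ Nat.card L → IsSimpleGroup L → ¬ IsMulCommutative L → ZTG L

theorem KH.mono {m n : ℕ} (h : KH.{u} n) (hm : m ≤ n) : KH.{u} m :=
  fun L _ _ a => h L (a.trans_le hm)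

variable {G : Type u} [Group G] [Finite G]

/-- `A` is strongly closed in `X`. -/
def SC (X A : Subgroup G) : Prop :=
  ∀ P ≤ X, IsPGroup 2 P → A ≤ P → ∀ a ∈ A, ∀ g ∈ X, g * a * g⁻¹ ∈ P → g * a * g⁻¹ ∈ A

/-- `K / Z(K)` is the Suzuki group over the field of order `2 ^ n`, `T` is a Sylow subgroup of `K`,
`Zh` the preimage of the centre of `T / Z(K)`, `r` a primitive prime divisor of `2 ^ (4 n) - 1`. -/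
structure SzT (K T Zh : Subgroup G) (n r : ℕ) : Prop where
  qs : IsQuasisimple K
  syl : IsSyl 2 T K
  odd : Odd n
  three : 3 ≤ n
  zh : ∀ x, x ∈ Zh ↔ x ∈ T ∧ x * x ∈ 𝐂(K)
  cen : ⁅T, Zh⁆ ≤ 𝐂(K)
  sq : ∀ x ∈ T, x * x ∈ Zh
  der : Zh ≤ ⁅T, T⁆ ⊔ (K ⊓ 𝐂(K))
  cardZ : 𝐂(K).relIndex Zh = 2 ^ n
  cardT : Zh.relIndex T = 2 ^ n
  cardK : 𝐂(K).relIndex K = (2 ^ n) ^ 2 * (2 ^ n - 1) * ((2 ^ n) ^ 2 + 1)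
  trZ : ∀ x ∈ Zh, x ∉ 𝐂(K) → ∀ y ∈ Zh, y ∉ 𝐂(K) →
    ∃ d ∈ K ⊓ 𝐍(T), Odd (orderOf d) ∧ (d * x * d⁻¹)⁻¹ * y ∈ 𝐂(K)
  trT : ∀ x ∈ T, x ∉ Zh → ∀ y ∈ T, y ∉ Zh →
    ∃ d ∈ K ⊓ 𝐍(T), Odd (orderOf d) ∧ (d * x * d⁻¹)⁻¹ * y ∈ Zh
  cent : ∀ s ∈ T, s ∉ 𝐂(K) → ∀ g ∈ K, ⁅g, s⁆ ∈ 𝐂(K) → g ∈ T
  ti : ∀ s ∈ T, s ∉ 𝐂(K) → ∀ g ∈ K, g * s * g⁻¹ ∈ T → g ∈ 𝐍(T)
  cp : ∀ X ≤ T, ∀ Y ≤ T, ⁅X, Y⁆ ≤ 𝐂(K) → T ≤ X ⊔ Y ⊔ 𝐂(K) → X ≤ Zh ∨ Y ≤ Zh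
  inner : ∀ x ∈ 𝐍(K), (∃ k : ℕ, x ^ 2 ^ k ∈ 𝐂(K)) → x ∈ K ⊔ 𝐂(K)
  oddAut : ∀ x ∈ 𝐍(K), Odd (orderOf x) → (∀ z ∈ Zh, ⁅x, z⁆ ∈ 𝐂(K)) → x ∈ 𝐂(K)
  ovr : ∀ X, T ≤ X → X ≤ K → X = K ∨ X ≤ 𝐍(T)
  prime : r.Prime
  ord : ∀ d : ℕ, 0 < d → r ∣ 2 ^ d - 1 → 4 * n ≤ d
  inv : ∀ s ∈ Zh, s ∉ 𝐂(K) → ∃ y ∈ K, y ∉ 𝐍(T) ∧ y ^ r ∈ 𝐂(K) ∧ s * y * s⁻¹ * y ∈ 𝐂(K)

/-- Chapter Z. -/
def ZStmt : Prop := ∀ (G : Type u) [Group G] [Finite G] (K T : Subgroup G), IsQuasisimple K →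
  IsPGroup 2 (K ⊓ 𝐂(K) : Subgroup G) → ¬ 3 ∣ 𝐨(K) → KH.{u} (𝐂(K).relIndex K + 1) →
  IsSyl 2 T K → ∃ Zh n r, SzT K T Zh n r

/-- Chapter N (no offenders). -/
def NStmt : Prop := ∀ (G : Type u) [Group G] [Finite G] (L V B : Subgroup G), ¬ 3 ∣ 𝐨(L) →
  KH.{u} (𝐂(V).relIndex L + 1) → H7.SC.Red L V → IsElementaryAbelian 2 V → L ≤ 𝐍(V) → B ≤ L →
  IsPGroup 2 B → H2.NF B V

/-- Chapter P (pushing up; `H7.SC.Ch.pu` without solvability). -/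
def PStmt : Prop := ∀ (G : Type u) [Group G] [Finite G] (S V : Subgroup G), ¬ 3 ∣ Nat.card G →
  KH.{u} (Nat.card G) → 𝐂(pCoreOf 2 (⊤ : Subgroup G)) ≤ pCoreOf 2 ⊤ → IsSyl 2 S ⊤ → V ≤ S →
  IsElementaryAbelian 2 V → S ≤ 𝐍(V) → H2.NF S V →
  (∀ Y : Subgroup G, Y ≠ ⊤ → S ≤ Y → Y ≤ 𝐍(V)) → 𝐍(H7.SC.jj S) ≤ 𝐍(V) → ⊤ ≤ 𝐍(V)

/-- Chapter A. -/
def AStmt : Prop := ∀ (G : Type u) [Group G] [Finite G], ¬ 3 ∣ Nat.card G → KH.{u} (Nat.card G) →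
  2 ∣ Nat.card G → ∃ A : Subgroup G, IsElementaryAbelian 2 A ∧ A ≠ ⊥ ∧ SC ⊤ A

/-- Output of chapter B, input of chapter C. -/
structure CHyp (A W : Subgroup G) : Prop where
  el : IsElementaryAbelian 2 A
  eight : 8 ≤ 𝐨(A)
  sc : SC ⊤ A
  odd : Odd 𝐨(W)
  nrm : 𝐍(A) ≤ 𝐍(W)
  ne : W ⊔ 𝐍(A) ≠ ⊤
  cent : ∀ a ∈ A, a ≠ 1 → 𝐂[a] ≤ W ⊔ 𝐍(A)

/-- Chapter B. -/
def BStmt : Prop := ∀ (G : Type u) [Group G] [Finite G], IsSimpleGroup G → ¬ IsMulCommutative G →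
  ¬ 3 ∣ Nat.card G → KH.{u} (Nat.card G) →
  ∀ A : Subgroup G, IsElementaryAbelian 2 A → A ≠ ⊥ → SC ⊤ A → ∃ A W : Subgroup G, CHyp A W

/-- Chapter C. -/
def CStmt : Prop := ∀ (G : Type u) [Group G] [Finite G], IsSimpleGroup G →
  ¬ 3 ∣ Nat.card G → KH.{u} (Nat.card G) → ∀ A W : Subgroup G, CHyp A W → ZTG G

end Cfsg.Agent.P14
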