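/-
P14, chapter A1: strongly closed central chains control fusion.
-/
import Cfsg.Agent.P14.Defs

set_option autoImplicit false
set_option linter.unusedSectionVars false

namespace Cfsg.Agent.P14

open Subgroup Cfsg Cfsg.Agent Cfsg.Agent.FT
open scoped commutatorElement

universe u

variable {G : Type u} [Group G] [Finite G]

/-- `B` is strongly closed in `S` with respect to `X`. -/
def SCl (X S B : Subgroup G) : Prop := ∀ b ∈ B, ∀ g ∈ X, g * b * g⁻¹ ∈ S → g * b * g⁻¹ ∈ B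

theorem SCl.mono {X Y S B : Subgroup G} (h : SCl X S B) (hY : Y ≤ X) : SCl Y S B :=
  fun b hb g hg => h b hb g (hY hg)

theorem SCl.inf {X S B : Subgroup G} (h : SCl X S B) {T : Subgroup G} (hT : T ≤ S) :
    SCl X T (B ⊓ T) := fun b hb g hg e => ⟨h b hb.1 g hg (hT e), e⟩

theorem SCl.mem_norm {X S B P : Subgroup G} (h : SCl X S B) (hP : P ≤ S) {g : G} (hg : g ∈ X)
    (hn : g ∈ 𝐍(P)) : g ∈ 𝐍(P ⊓ B) := mem_norm_of_conj_le fun x hx => by
  obtain ⟨y, hy, rfl⟩ := mem_conj'.1 hx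
  have := (mem_normalizer_iff.1 hn y).1 hy.1
  exact ⟨this, h y hy.2 g hg (hP this)⟩

theorem SCl.norm_le {X S B P : Subgroup G} (h : SCl X S B) (hP : P ≤ S) (hB : B ≤ P) :
    X ⊓ 𝐍(P) ≤ 𝐍(B) := fun _ hg => by
  have := h.mem_norm hP hg.1 hg.2
  rwa [inf_eq_right.2 hB] at this

theorem SC.scl {X A S : Subgroup G} (h : SC X A) (hS : S ≤ X) (hp : IsPGroup 2 S) (hA : A ≤ S) :
    SCl X S A := h S hS hp hA

theorem SCl.sc {X A S : Subgroup G} (h : SCl X S A) (hS : IsSyl 2 S X) (hA : A ≤ S) : SC X A := by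
  intro P hP hp hAP a ha g hg e
  obtain ⟨k, hk, h1⟩ := hS.exists_conj_le Nat.prime_two hp hP
  have h2 : k ∈ 𝐍(A) := mem_norm_of_conj_le fun x hx => by
    obtain ⟨y, hy, rfl⟩ := mem_conj'.1 hx
    exact h y hy k hk (h1 (conj_mem_conj (hAP hy) k))
  have h3 := h a ha (k * g) (mul_mem hk hg) (by
    have := h1 (conj_mem_conj e k)
    rwa [show k * (g * a * g⁻¹) * k⁻¹ = k * g * a * (k * g)⁻¹ by group] at this)
  rw [mem_normalizer_iff.1 h2]
  rwa [show k * (g * a * g⁻¹) * k⁻¹ = k * g * a * (k * g)⁻¹ by group]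

theorem SC.mono {X Y A : Subgroup G} (h : SC X A) (hY : Y ≤ X) : SC Y A :=
  fun P hP hp hA a ha g hg => h P (hP.trans hY) hp hA a ha g (hY hg)

theorem SC.norm_le {X A P : Subgroup G} (h : SC X A) (hP : P ≤ X) (hp : IsPGroup 2 P)
    (hA : A ≤ P) : X ⊓ 𝐍(P) ≤ 𝐍(A) := (h.scl hP hp hA).norm_le le_rfl hA

theorem SC.le_norm {X A P : Subgroup G} (h : SC X A) (hP : P ≤ X) (hp : IsPGroup 2 P)
    (hA : A ≤ P) : P ≤ 𝐍(A) := (le_inf hP (le_norm_self P)).trans (h.norm_le hP hp hA)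

/-- `h` acts on `T` as an element of `M`. -/
def RelM (M T : Subgroup G) (h : G) : Prop := ∃ m ∈ M, ∀ t ∈ T, h * t * h⁻¹ = m * t * m⁻¹

theorem RelM.mono {M T T' : Subgroup G} {h : G} (a : RelM M T h) (b : T' ≤ T) : RelM M T' h :=
  a.imp fun _ c => ⟨c.1, fun t ht => c.2 t (b ht)⟩

theorem RelM.trans {M T : Subgroup G} {h k : G} (a : RelM M T h) (b : RelM M (T ^ᵍ h) k) :
    RelM M T (k * h) := by
  obtain ⟨m, hm, a⟩ := a
  obtain ⟨m', hm', b⟩ := b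
  refine ⟨m' * m, mul_mem hm' hm, fun t ht => ?_⟩
  calc _ = k * (h * t * h⁻¹) * k⁻¹ := by group
    _ = m' * (h * t * h⁻¹) * m'⁻¹ := b _ (conj_mem_conj ht h)
    _ = _ := by rw [a t ht]; group

theorem RelM.inv {M T : Subgroup G} {h : G} (a : RelM M T h) : RelM M (T ^ᵍ h) h⁻¹ := by
  obtain ⟨m, hm, a⟩ := a
  refine ⟨m⁻¹, inv_mem hm, fun t ht => ?_⟩
  obtain ⟨s, hs, rfl⟩ := mem_conj'.1 ht
  conv_rhs => rw [a s hs]
  group

theorem RelM.mul_cent {M T : Subgroup G} {h c : G} (a : RelM M T h) (hn : h ∈ 𝐍(T))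
    (hc : c ∈ 𝐂(T)) : RelM M T (c * h) :=
  a.trans ⟨1, one_mem _, fun t ht => by
    rw [conj_eq_of_mem_norm hn] at ht
    rw [← hc t ht]; group⟩

/-- `M` controls fusion in `S` with respect to `X`. -/
def Ctrl (X S M : Subgroup G) : Prop := ∀ T ≤ S, ∀ g ∈ X, T ^ᵍ g ≤ S → RelM M T g

theorem Ctrl.elt {X S M : Subgroup G} (h : Ctrl X S M) {t g : G} (ht : t ∈ S) (hg : g ∈ X)
    (e : g * t * g⁻¹ ∈ S) : ∃ m ∈ M, g * t * g⁻¹ = m * t * m⁻¹ :=
  (h _ (zpowers_le.2 ht) g hg (by rw [← zpowers_conj]; exact zpowers_le.2 e)).imp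
    fun _ a => ⟨a.1, a.2 t (mem_zpowers t)⟩

theorem Ctrl.scl {X S M D : Subgroup G} (h : Ctrl X S M) (hD : D ≤ S) (h' : SCl M S D) :
    SCl X S D := fun d hd g hg e => by
  obtain ⟨m, hm, e'⟩ := h.elt (hD hd) hg e
  rw [e'] at e ⊢
  exact h' d hd m hm e

theorem exists_ext {X S : Subgroup G} (hS : IsSyl 2 S X) {Y T : Subgroup G} (hY : Y ≤ X)
    (hT : IsPGroup 2 T) (hTY : T ≤ Y) : ∃ g ∈ X, T ^ᵍ g ≤ S ∧ IsSyl 2 (S ⊓ Y ^ᵍ g) (Y ^ᵍ g) := by
  obtain ⟨P, h1, h2⟩ := exists_isSyl_ge Nat.prime_two hT hTY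
  obtain ⟨g, hg, h3⟩ := hS.exists_conj_le Nat.prime_two h1.pgrp (h1.le.trans hY)
  refine ⟨g, hg, (conj_mono h2 g).trans h3, ?_⟩
  rw [(h1.conj g).eq_of_le Nat.prime_two (le_inf h3 (conj_mono h1.le g)) inf_le_right
    (hS.pgrp.to_le inf_le_left)]
  exact h1.conj g

/-- Alperin's downward induction. -/
theorem alperin {X S M : Subgroup G} (hS : IsSyl 2 S X) (hM : X ⊓ 𝐍(S) ≤ M)
    (loc : ∀ T < S, IsSyl 2 (S ⊓ (X ⊓ 𝐍(T))) (X ⊓ 𝐍(T)) →
      (∀ T' ≤ S, 𝐨(T) < 𝐨(T') → ∀ g ∈ X, T' ^ᵍ g ≤ S → RelM M T' g) →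
      ∀ x ∈ X ⊓ 𝐍(T), RelM M T x) : Ctrl X S M := by
  have key : ∀ n, ∀ T ≤ S, 𝐨(S) - 𝐨(T) = n → ∀ g ∈ X, T ^ᵍ g ≤ S → RelM M T g := by
    intro n
    induction n using Nat.strong_induction_on with
    | h n ih =>
    intro T hT hn k hkX hk
    have ha : ∀ T' ≤ S, 𝐨(T) < 𝐨(T') → ∀ g ∈ X, T' ^ᵍ g ≤ S → RelM M T' g := fun T' a b =>
      ih _ (by have := card_le_of_le a; omega) T' a rfl
    by_cases h1 : T = S
    · exact ⟨k, hM ⟨hkX, mem_norm_of_conj_le (h1 ▸ hk)⟩, fun _ _ => rfl⟩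
    have key : ∀ g : G, T ^ᵍ g ≤ S → T ^ᵍ g < S := fun g hg => lt_of_le_of_ne hg fun e =>
      h1 (H1.eq_of_le_of_card_le hT (by rw [← e, card_conj]))
    have clt : ∀ {U : Subgroup G}, U < S → 𝐨(U) < 𝐨(S ⊓ 𝐍(U)) := fun hU => H1.card_lt_of_lt
      (lt_inf_norm_of_isNilpotent (isNilpotent_of_isPGroup Nat.prime_two hS.pgrp) hU)
    have h2 := lt_of_le_of_ne hT h1
    obtain ⟨g, gX, g1, g2⟩ := exists_ext hS (inf_le_left : X ⊓ 𝐍(T) ≤ X)
      (hS.pgrp.to_le inf_le_left) (inf_le_inf_right 𝐍(T) hS.le)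
    have g3 := (ha _ inf_le_left (clt h2) g gX g1).mono (le_inf hT (le_norm_self T))
    have g4 : T ^ᵍ g ≤ S := (conj_mono (le_inf hT (le_norm_self T)) g).trans g1
    rw [conj_inf, ← norm_conj, conj_eq_of_mem gX] at g2
    obtain ⟨x, x1, x2⟩ := g2.exists_conj_le Nat.prime_two
      (Q := (S ⊓ 𝐍(T ^ᵍ k)) ^ᵍ (g * k⁻¹)) ((hS.pgrp.to_le inf_le_left).map _) (by
        refine le_inf (conj_le_of_mem (inf_le_left.trans hS.le) (mul_mem gX (inv_mem hkX)))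
          ((conj_mono inf_le_right _).trans (le_of_eq ?_))
        rw [← norm_conj, conj_conj, inv_mul_cancel_right])
    rw [conj_conj] at x2
    have x3 := ((ha _ inf_le_left ((card_conj T k).ge.trans_lt (clt (key k hk))) _
      (mul_mem x1.1 (mul_mem gX (inv_mem hkX))) (x2.trans inf_le_left)).mono
      (le_inf hk (le_norm_self _))).inv
    have x4 := g3.trans (loc _ (key g g4) g2 (by rw [card_conj]; exact ha) x x1)
    rw [conj_conj, show x * (g * k⁻¹) * k = x * g by group] at x3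
    have := x4.trans x3
    rwa [show (x * (g * k⁻¹))⁻¹ * (x * g) = k by group] at this
  exact fun T hT => key _ T hT rfl

/-- `C` is the top of a chain of strongly closed subgroups of `R` with factors central in `R`. -/
inductive Cn (X S R : Subgroup G) : Subgroup G → Prop
  | bot : Cn X S R ⊥
  | step (C D : Subgroup G) : Cn X S R C → SCl X S D → D ≤ R → ⁅D, R⁆ ≤ C → Cn X S R D

theorem Cn.scl {X S R C : Subgroup G} (h : Cn X S R C) : SCl X S C := by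
  cases h with
  | bot => intro b hb g _ _; rw [mem_bot.1 hb]; simp
  | step _ _ _ h _ _ => exact h

theorem Cn.le {X S R C : Subgroup G} (h : Cn X S R C) : C ≤ R := by
  cases h with
  | bot => exact bot_le
  | step _ _ _ _ h _ => exact h

theorem Cn.mono {X Y S R C : Subgroup G} (h : Cn X S R C) (hY : Y ≤ X) : Cn Y S R C := by
  induction h with
  | bot => exact .bot
  | step C D _ a b c ih => exact .step C D ih (a.mono hY) b c

theorem Cn.sup {X S R C W : Subgroup G} (h : Cn X S R C) (hX : S ≤ X) (hR : R ≤ S)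
    (hW : W ≤ 𝐂(R)) : Cn X S (R ⊔ W) C := by
  induction h with
  | bot => exact .bot
  | step C D h a b c ih =>
    refine .step C D ih a (b.trans le_sup_left) (H1.commutator_sup_le ?_ ?_ c ?_)
    · exact (le_inf (hR.trans hX) (le_norm_self R)).trans (h.scl.norm_le hR h.le)
    · exact (hW.trans (cent_anti h.le)).trans (cent_le_norm C)
    · exact (comm_eq_bot_iff.2 (b.trans (cent_comm.1 hW))).le.trans bot_le

theorem Cn.of_comm {X S D : Subgroup G} (h : SCl X S D) (hD : D ≤ 𝐂(D)) : Cn X S D D :=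
  .step ⊥ D .bot h le_rfl (comm_eq_bot_iff.2 hD).le

theorem exists_stab {N K P C D : Subgroup G} (hK : K ⊲ N) (hC : N ≤ 𝐍(C)) (hD : N ≤ 𝐍(D))
    (hp : IsPGroup 2 D) (h1 : P ≤ K) (h2 : ⁅D, P⁆ ≤ C)
    (h3 : ∀ k ∈ K, Odd (orderOf k) → k ∈ 𝐂(C)) :
    ∃ K', K' ⊲ N ∧ P ≤ K' ∧ ∀ k ∈ K', Odd (orderOf k) → k ∈ 𝐂(D) := by
  refine ⟨K ⊓ H1.commStab D C, ⟨inf_le_left.trans hK.1, H1.le_normalizer_inf hK.2 fun g hg =>
    mem_norm_of_conj_le fun x hx => ?_⟩,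
    le_inf h1 (H1.le_commStab_iff.2 ⟨(h1.trans hK.1).trans hC, h2⟩), fun k hk ho => ?_⟩
  · obtain ⟨y, hy, rfl⟩ := mem_conj'.1 hx
    refine ⟨mul_mem (mul_mem (hC hg) hy.1) (inv_mem (hC hg)), fun d hd => ?_⟩
    have := (mem_normalizer_iff.1 (hC hg) _).1
      (hy.2 _ ((mem_normalizer_iff.1 (inv_mem (hD hg)) d).1 hd))
    convert this using 1
    simp only [commutatorElement_def]; group
  · have hn := hK.1 hk.1
    refine zpowers_le.1 (H1.le_centralizer_of_commutator_le (zpowers_le.2 (hD hn)) ?_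
      (H1.commutator_zpowers_le (hC hn) hk.2.2) (zpowers_le.2 (h3 k hk.1 ho)))
    exact (H1.coprime_card_of_isPGroup hp (by
      rw [Nat.card_zpowers]; exact Nat.coprime_two_right.2 ho))

theorem Cn.stab {X S R C P : Subgroup G} (h : Cn X S R C) (hS : IsSyl 2 S X) (hR : R ≤ S)
    (hP : P ≤ S) : ∃ K, K ⊲ X ⊓ 𝐍(P) ∧ R ⊓ 𝐍(P) ≤ K ∧ ∀ k ∈ K, Odd (orderOf k) → k ∈ 𝐂(P ⊓ C) := by
  induction h with
  | bot => exact ⟨_, ⟨le_rfl, le_norm_self _⟩, inf_le_inf_right _ (hR.trans hS.le),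
      fun k _ _ => by rw [inf_bot_eq, cent_bot]; exact mem_top k⟩
  | step C D h a _ c ih =>
    obtain ⟨K, k1, k2, k3⟩ := ih
    exact exists_stab k1 (fun g hg => h.scl.mem_norm hP hg.1 hg.2)
      (fun g hg => a.mem_norm hP hg.1 hg.2) (hS.pgrp.to_le (inf_le_left.trans hP)) k2
      (le_inf ((commutator_mono inf_le_left inf_le_right).trans (comm_le_left_iff.2 le_rfl))
        ((commutator_mono inf_le_right inf_le_left).trans c)) k3

theorem exists_odd_pow (k : G) : ∃ n : ℕ, Odd (orderOf (k ^ 2 ^ n)) := by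
  obtain ⟨n, m, hm, e⟩ := Nat.exists_eq_two_pow_mul_odd (orderOf_pos k).ne'
  refine ⟨n, hm.of_dvd_nat (orderOf_dvd_of_pow_eq_one ?_)⟩
  rw [← pow_mul, ← e, pow_orderOf_eq_one]

/-- The chain lemma. -/
theorem Cn.ctrl {X S B : Subgroup G} (h : Cn X S B B) (hS : IsSyl 2 S X) (hB : B ≤ S) :
    Ctrl X S (X ⊓ 𝐍(B)) := by
  refine alperin hS (le_inf inf_le_left (h.scl.norm_le le_rfl hB)) fun T hT hs ha x hx => ?_
  by_cases h1 : B ≤ T
  · exact ⟨x, ⟨hx.1, h.scl.norm_le hT.le h1 hx⟩, fun _ _ => rfl⟩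
  obtain ⟨K, k1, k2, k3⟩ := h.stab hS hB hT.le
  have hSB : S ≤ 𝐍(B) := (le_inf hS.le (le_norm_self S)).trans (h.scl.norm_le le_rfl hB)
  obtain ⟨K, k1, k2, k3⟩ := exists_stab (D := T) k1 (fun g hg => h.scl.mem_norm hT.le hg.1 hg.2)
    inf_le_right (hS.pgrp.to_le hT.le) k2
    (le_inf ((commutator_mono le_rfl inf_le_right).trans (comm_le_left_iff.2 le_rfl))
      ((commutator_mono (hT.le.trans hSB) inf_le_left).trans (comm_le_right_iff.2 le_rfl))) k3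
  have h2 := hs.inf_normal Nat.prime_two k1
  have h3 := H7.SC.le_sup_syl ((k1.1.trans inf_le_right).trans (H1.le_normalizer_centralizer le_rfl))
    h2 fun k hk => (exists_odd_pow k).imp fun n hn => k3 _ (pow_mem hk _) hn
  have h4 : ¬ S ⊓ (X ⊓ 𝐍(T)) ⊓ K ≤ T := fun h3 => by
    have h4 := lt_inf_norm_of_isNilpotent (isNilpotent_of_isPGroup Nat.prime_two
      (hS.pgrp.to_le (sup_le hB hT.le))) (right_lt_sup.2 h1)
    rw [sup_inf_of_le_right (hT.le.trans hSB) (le_norm_self T), sup_eq_right.2 (le_trans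
      (le_inf (le_inf (inf_le_left.trans hB) (inf_le_inf_right _ (hB.trans hS.le))) k2) h3)] at h4
    exact h4.false
  have h5 : S ⊓ (X ⊓ 𝐍(T)) ⊓ K ≤ S := inf_le_left.trans inf_le_left
  generalize S ⊓ (X ⊓ 𝐍(T)) ⊓ K = U at h2 h3 h4 h5
  have hx' := hx
  rw [← h2.frattini Nat.prime_two k1] at hx'
  obtain ⟨k, hk, y, hy, rfl⟩ := (mem_sup_of_norm (inf_le_left.trans k1.2)).1 hx'
  have hUT : U ≤ 𝐍(T) := h2.le.trans (k1.1.trans inf_le_right)
  have hk' := h3 hk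
  rw [sup_comm] at hk'
  obtain ⟨c, hc, s, hs', rfl⟩ :=
    (mem_sup_of_norm (hUT.trans (H1.le_normalizer_centralizer le_rfl))).1 hk'
  have h6 : U ⊔ T ≤ S := sup_le h5 hT.le
  have h7 : s * y ∈ 𝐍(T) := mul_mem (hUT hs') hy.1.2
  rw [mul_assoc]
  refine RelM.mul_cent ?_ h7 hc
  refine (ha _ h6 (H1.card_lt_of_lt (right_lt_sup.2 h4)) _
    (mul_mem (hS.le (h5 hs')) hy.1.1) ?_).mono le_sup_right
  rwa [conj_sup, conj_eq_of_mem_norm h7, conj_eq_of_mem_norm (mul_mem (le_norm_self U hs') hy.2)]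

theorem SCl.ctrl {X S D : Subgroup G} (h : SCl X S D) (hS : IsSyl 2 S X) (hD : D ≤ S)
    (hc : D ≤ 𝐂(D)) : Ctrl X S (X ⊓ 𝐍(D)) := (Cn.of_comm h hc).ctrl hS hD

/-- A controlling subgroup containing `S` is everything in a group of characteristic two. -/
theorem Ctrl.le_of_char {X S M Q : Subgroup G} (h : Ctrl X S M) (hSM : S ≤ M) (hQ : Q ≤ S)
    (hn : X ≤ 𝐍(Q)) (hM : M ≤ X) (hc : X ⊓ 𝐂(Q) ≤ S) : X ≤ M := fun x hx => by
  obtain ⟨m, hm, e⟩ := h Q hQ x hx (by rwa [conj_eq_of_mem_norm (hn hx)])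
  have : m⁻¹ * x ∈ S := hc ⟨X.mul_mem (X.inv_mem (hM hm)) hx, fun t ht => by
    calc t * (m⁻¹ * x) = m⁻¹ * (m * t * m⁻¹) * x := by group
      _ = m⁻¹ * x * t := by rw [← e t ht]; group⟩
  simpa using mul_mem hm (hSM this)

end Cfsg.Agent.P14
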