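/-
P14, chapter A2: fusion is controlled by a 2-constrained local subgroup.
-/
import Cfsg.Agent.P14.A1

set_option autoImplicit false
set_option linter.unusedSectionVars false

namespace Cfsg.Agent.P14

open Subgroup Cfsg Cfsg.Agent Cfsg.Agent.FT Cfsg.Agent.H7.SC
open scoped commutatorElement

universe u

variable {G : Type u} [Group G] [Finite G]

theorem SCl.of_norm {M S D : Subgroup G} (h : M ≤ 𝐍(D)) : SCl M S D :=
  fun d hd _ hg _ => (mem_normalizer_iff.1 (h hg) d).1 hd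

theorem SCl.conj {X S B : Subgroup G} (h : SCl X S B) (g : G) :
    SCl (X ^ᵍ g) (S ^ᵍ g) (B ^ᵍ g) := by
  rintro _ ⟨b, hb, rfl⟩ _ ⟨x, hx, rfl⟩ e
  have e1 : MulAut.conj g x * MulAut.conj g b * (MulAut.conj g x)⁻¹ = g * (x * b * x⁻¹) * g⁻¹ := by
    simp [mul_assoc]
  change MulAut.conj g x * MulAut.conj g b * (MulAut.conj g x)⁻¹ ∈ _ at e ⊢
  rw [e1, conj_mem_conj_iff] at e ⊢
  exact h b hb x hx e

theorem SCl.le_norm {X S B : Subgroup G} (h : SCl X S B) (hS : S ≤ X) (hB : B ≤ S) : S ≤ 𝐍(B) :=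
  (le_inf hS (le_norm_self S)).trans (h.norm_le le_rfl hB)

theorem SCl.sup {X S D D' : Subgroup G} (h : SCl X S D) (h' : SCl X S D') (hS : IsSyl 2 S X)
    (hD : D ≤ S) (hD' : D' ≤ S) (hc : D ≤ 𝐂(D)) (hc' : D' ≤ 𝐂(D')) : SCl X S (D ⊔ D') :=
  (h.ctrl hS hD hc).scl (sup_le hD hD') ((((h'.mono inf_le_left).ctrl
    (hS.of_le (le_inf hS.le (h.le_norm hS.le hD)) inf_le_left) hD' hc')).scl (sup_le hD hD')
    (SCl.of_norm (H1.le_normalizer_sup (inf_le_left.trans inf_le_right) inf_le_right)))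

theorem exists_scl_of_normal {X N T V : Subgroup G} (hN : N ⊲ X) (hT : IsSyl 2 T X)
    (hV : V ≤ T ⊓ N) (h0 : V ≠ ⊥) (hc : V ≤ 𝐂(V)) (hs : SCl N (T ⊓ N) V) :
    ∃ W ≤ T ⊓ N, W ≠ ⊥ ∧ W ≤ 𝐂(W) ∧ SCl X T W := by
  have hT0 := hT.inf_normal Nat.prime_two hN
  obtain ⟨P, hP⟩ : ∃ P : Subgroup G → Prop,
    P = fun D => D ≤ T ⊓ N ∧ D ≠ ⊥ ∧ D ≤ 𝐂(D) ∧ SCl N (T ⊓ N) D := ⟨_, rfl⟩
  have p1 : ∀ D, P D ↔ D ≤ T ⊓ N ∧ D ≠ ⊥ ∧ D ≤ 𝐂(D) ∧ SCl N (T ⊓ N) D := fun D => by rw [hP]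
  have p2 : ∀ y ∈ X ⊓ 𝐍(T ⊓ N), ∀ D, P D → P (D ^ᵍ y) := fun y hy D hD => by
    obtain ⟨a, b, c, d⟩ := (p1 D).1 hD
    have := d.conj y
    rw [conj_eq_of_mem_norm (hN.2 hy.1), conj_eq_of_mem_norm hy.2] at this
    exact (p1 _).2 ⟨conj_le_of_mem_norm a hy.2, fun e => b (conj_eq_bot_iff.1 e),
      conj_le_cent_iff.2 c, this⟩
  have p3 : ∀ D D', Minimal P D → Minimal P D' → D ≤ 𝐂(D') := fun D D' hD hD' => by
    obtain ⟨a, b, c, d⟩ := (p1 D).1 hD.1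
    obtain ⟨a', b', c', d'⟩ := (p1 D').1 hD'.1
    by_cases e : D ⊓ D' = ⊥
    · refine comm_eq_bot_iff.1 (le_bot_iff.1 (e ▸ le_inf (comm_le_left_iff.2 ?_)
        (comm_le_right_iff.2 ?_)))
      · exact a'.trans (d.le_norm inf_le_right a)
      · exact a.trans (d'.le_norm inf_le_right a')
    · have h1 : P (D ⊓ D') := (p1 _).2 ⟨inf_le_left.trans a, e,
        inf_le_left.trans (c.trans (cent_anti inf_le_left)),
        fun x hx g hg k => ⟨d x hx.1 g hg k, d' x hx.2 g hg k⟩⟩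
      exact (hD.2 h1 inf_le_left).trans (inf_le_right.trans c')
  obtain ⟨V0, -, hV0⟩ := exists_minimal_le_of_wellFoundedLT P V ((p1 V).2 ⟨hV, h0, hc, hs⟩)
  have u1 : sSup {D | Minimal P D} ≤ T ⊓ N := sSup_le fun D hD => ((p1 D).1 hD.1).1
  have u2 : sSup {D | Minimal P D} ≤ 𝐂(sSup {D | Minimal P D}) :=
    sSup_le fun D hD => cent_comm.1 (sSup_le fun D' hD' => p3 D' D hD' hD)
  have u3 : X ⊓ 𝐍(T ⊓ N) ≤ 𝐍(sSup {D | Minimal P D}) := fun y hy => mem_norm_of_conj_le (by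
    rw [conj_le_iff]
    refine sSup_le fun D hD => conj_le_iff.1 (le_sSup ⟨p2 y hy D hD.1, fun D' a b => ?_⟩)
    exact conj_le_iff.2 (hD.2 (p2 _ (inv_mem hy) D' a) (le_conj_iff.1 b)))
  obtain ⟨W, -, hW⟩ := exists_maximal_ge_of_wellFoundedGT
    (fun W => W ≤ sSup {D | Minimal P D} ∧ SCl N (T ⊓ N) W) ⊥
    ⟨bot_le, SCl.of_norm (le_top.trans (normalizer_eq_top ⊥).ge)⟩
  have u4 : SCl N (T ⊓ N) (sSup {D | Minimal P D}) := by
    rw [← le_antisymm hW.1.1 (sSup_le fun D hD => ?_)]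
    · exact hW.1.2
    obtain ⟨a, b, c, d⟩ := (p1 D).1 hD.1
    exact le_sup_right.trans (hW.2 ⟨sup_le hW.1.1 (le_sSup hD), hW.1.2.sup d hT0 (hW.1.1.trans u1) a
      (hW.1.1.trans (u2.trans (cent_anti hW.1.1))) c⟩ le_sup_left)
  refine ⟨_, u1, ne_bot_of_le_ne_bot ((p1 V0).1 hV0.1).2.1 (le_sSup hV0), u2, fun w hw g hg e => ?_⟩
  have hg' := hg
  rw [← hT0.frattini Nat.prime_two hN] at hg'
  obtain ⟨n, hn, y, hy, rfl⟩ := (mem_sup_of_norm (inf_le_left.trans hN.2)).1 hg'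
  have e1 := (mem_normalizer_iff.1 (hN.2 hg) w).1 (u1 hw).2
  rw [show n * y * w * (n * y)⁻¹ = n * (y * w * y⁻¹) * n⁻¹ by group] at e e1 ⊢
  exact u4 _ ((mem_normalizer_iff.1 (u3 hy) w).1 hw) n hn ⟨e, e1⟩

/-- Chapter A below order `n`. -/
def AH (n : ℕ) : Prop := ∀ (M : Type u) [Group M] [Finite M], Nat.card M < n → ¬ 3 ∣ Nat.card M →
  2 ∣ Nat.card M → ∃ A : Subgroup M, IsElementaryAbelian 2 A ∧ A ≠ ⊥ ∧ SC ⊤ A

theorem AH.rel {n : ℕ} (h : AH.{u} n) {N T : Subgroup G} (hn : 𝐨(N) < n) (h3 : ¬ 3 ∣ 𝐨(N))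
    (hT : IsSyl 2 T N) (h0 : T ≠ ⊥) : ∃ A ≤ T, A ≠ ⊥ ∧ A ≤ 𝐂(A) ∧ SCl N T A := by
  obtain ⟨A, a1, a2, a3⟩ := h N hn h3 (by
    by_contra c; exact h0 ((hT.eq_bot_iff Nat.prime_two).2 c))
  have a4 : IsElementaryAbelian 2 (A.map N.subtype) := H5.elemAb_map _ a1
  obtain ⟨g, hg, k⟩ := hT.exists_le_conj Nat.prime_two (elemAb_isPGroup a4) (map_subtype_le A)
  have k1 := hT.conj_of_mem_norm (le_norm_self N hg)
  have k2 : SCl N (T ^ᵍ g) (A.map N.subtype) := by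
    rintro _ ⟨a, ha, rfl⟩ x hx e
    exact ⟨_, a3 ((T ^ᵍ g).subgroupOf N) le_top k1.pgrp.comap_subtype (map_le_iff_le_comap.1 k) a ha
      ⟨x, hx⟩ (mem_top _) e, rfl⟩
  have k3 := k2.conj g⁻¹
  rw [conj_eq_of_mem (inv_mem hg), conj_conj_inv] at k3
  exact ⟨_, le_conj_iff.1 k, fun e => a2 ((map_eq_bot_iff_of_injective A N.subtype_injective).1
    (conj_eq_bot_iff.1 e)), conj_le_cent_iff.2 (isMulComm_iff_le_cent.1 a4.1), k3⟩

theorem AH.exists_cn {n : ℕ} (h : AH.{u} n) {X T : Subgroup G} (hn : 𝐨(X) < n) (h3 : ¬ 3 ∣ 𝐨(X))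
    (hT : IsSyl 2 T X) : ∃ B ≤ T, Cn X T B B ∧ T ⊓ 𝐂(B) ≤ B := by
  obtain ⟨B, -, ⟨hB, hc⟩, hmax⟩ := exists_maximal_ge_of_wellFoundedGT
    (fun B => B ≤ T ∧ Cn X T B B) ⊥ ⟨bot_le, .bot⟩
  refine ⟨B, hB, hc, ?_⟩
  by_contra hne
  have hTH : T ≤ X ⊓ 𝐍(B) := le_inf hT.le (hc.scl.le_norm hT.le hB)
  have hH := hT.of_le hTH inf_le_left
  have ctrl := hc.ctrl hT hB
  have hHX : X ⊓ 𝐍(B) ≤ X := inf_le_left
  have hHB : X ⊓ 𝐍(B) ≤ 𝐍(B) := inf_le_right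
  generalize X ⊓ 𝐍(B) = H at hTH hH ctrl hHX hHB
  have := H1.normal_subgroupOf_of_le hHB
  have hBH := hB.trans hTH
  have hC : H ⊓ 𝐂(B) ⊲ H :=
    ⟨inf_le_left, H1.le_normalizer_inf (le_norm_self H) (H1.le_normalizer_centralizer hHB)⟩
  have hN : H1.bar H B (H ⊓ 𝐂(B)) ⊲ ⊤ :=
    ⟨le_top, H1.bar_top (Y := H) (N := B) ▸ H1.bar_le_normalizer hC.2⟩
  have hS : IsSyl 2 (H1.bar H B T) ⊤ := H1.bar_top (Y := H) (N := B) ▸ hH.bar Nat.prime_two le_rfl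
  have hd : 𝐨(H1.bar H B (H ⊓ 𝐂(B))) ∣ 𝐨(X) :=
    (H1.card_bar_dvd _).trans (Subgroup.card_dvd_of_le (inf_le_left.trans hHX))
  obtain ⟨V, v1, v2, v3, v4⟩ := h.rel ((Nat.le_of_dvd Nat.card_pos hd).trans_lt hn)
    (fun e => h3 (e.trans hd)) (hS.inf_normal Nat.prime_two hN) fun e => hne (by
      rw [← H1.bar_eq_bot_iff (N := B) (inf_le_left.trans hTH), ← le_bot_iff, ← e]
      exact le_inf (H1.bar_mono inf_le_left) (H1.bar_mono (inf_le_inf_right _ hTH)))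
  obtain ⟨W, w1, w2, w3, w4⟩ := exists_scl_of_normal hN hS v1 v2 v3 v4
  have d1 : H1.unbar H B W ≤ T :=
    (H1.unbar_mono (w1.trans inf_le_left)).trans (H1.unbar_bar_of_le hB hTH).le
  have d2 : H1.unbar H B W ≤ (H ⊓ 𝐂(B)) ⊔ B :=
    (H1.unbar_mono (w1.trans inf_le_right)).trans (H1.unbar_bar hBH inf_le_left).le
  have d3 : B ≤ H1.unbar H B W := H1.le_unbar hBH W
  have d4 : SCl H T (H1.unbar H B W) := fun d hd g hg e => by
    obtain ⟨hd1, hd2⟩ := H1.mem_unbar.1 hd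
    have := w4 _ hd2 (H1.qmk H B ⟨g, hg⟩) (mem_top _) (by
      rw [← map_inv, ← map_mul, ← map_mul]; exact H1.qmk_mem_bar e)
    rw [← map_inv, ← map_mul, ← map_mul] at this
    exact H1.coe_mem_unbar.2 this
  have d5 : ⁅H1.unbar H B W, H1.unbar H B W⁆ ≤ B := by
    rw [← H1.bar_le_centralizer_iff (H1.unbar_le W) (H1.unbar_le W), H1.bar_unbar]
    exact w3
  have d6 : B ⊔ (H1.unbar H B W ⊓ (H ⊓ 𝐂(B))) = H1.unbar H B W := by
    rw [sup_comm, ← H1.dedekind_right (inf_le_left.trans hHB) d3, inf_eq_left.2 d2]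
  have d7 := hc.sup hT.le hB (W := H1.unbar H B W ⊓ (H ⊓ 𝐂(B))) (inf_le_right.trans inf_le_right)
  rw [d6] at d7
  have d8 := hmax ⟨d1, .step B _ d7 (ctrl.scl d1 d4) le_rfl d5⟩ d3
  exact w2 (by rw [← H1.bar_unbar W]; exact (H1.bar_eq_bot_iff (H1.unbar_le W)).2 d8)

/-- `X / O(X)` has characteristic two. -/
def Con (X : Subgroup G) : Prop :=
  𝐂(pCoreOf 2 (⊤ : Subgroup (X ⧸ (od X).subgroupOf X))) ≤ pCoreOf 2 ⊤

theorem con_of {H T B : Subgroup G} (hT : IsSyl 2 T H) (hB : B ≤ T) (hn : H ≤ 𝐍(B))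
    (hc : T ⊓ 𝐂(B) ≤ B) : Con H := by
  have hC : H ⊓ 𝐂(B) ⊲ H :=
    ⟨inf_le_left, H1.le_normalizer_inf (le_norm_self H) (H1.le_normalizer_centralizer hn)⟩
  have h1 := hT.inf_normal Nat.prime_two hC
  have h2 : T ⊓ (H ⊓ 𝐂(B)) ≤ B := (inf_le_inf_left _ inf_le_right).trans hc
  have h3 := (burnside_npc Nat.prime_two h1
    (inf_le_left.trans (inf_le_right.trans (cent_anti h2)))).sdProd Nat.prime_two h1
  have h4 : H ⊓ 𝐂(B) ≤ B ⊔ od H := by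
    rw [← h3.sup, sup_comm]
    exact sup_le_sup h2 (le_pPrimeCoreOf ⟨(od_le _).trans inf_le_left,
      hC.2.trans (H2.normalizer_le_normalizer_pPrimeCoreOf 2 _)⟩ (od_cop _))
  have hBH := hB.trans hT.le
  have h5 : br H B ≤ pCoreOf 2 ⊤ := le_pCoreOf
    ⟨le_top, H1.bar_top (Y := H) (N := od H) ▸ H1.bar_le_normalizer hn⟩
    (H1.isPGroup_bar (hT.pgrp.to_le hB))
  exact (cent_anti h5).trans ((cent_br (hT.pgrp.to_le hB) hBH).trans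
    (((H1.bar_le_bar_iff (od_le H) inf_le_left hBH).2 h4).trans h5))

theorem SCl.of_nm {X T D : Subgroup G} (h : NM X D) (hD : D ≤ X) (hT : IsPGroup 2 T)
    (hDT : D ≤ T) : SCl X T D := fun d hd g hg e => by
  rw [← inf_sup_od hD hT hDT]
  exact ⟨e, (mem_normalizer_iff.1 (h hg) d).1 (mem_sup_left hd)⟩

theorem Con.le_norm {X Y T D : Subgroup G} (h : Con X) (hT : IsSyl 2 T X) (hTY : T ≤ Y)
    (hY : Y ≤ X) (hD : D ≤ T) (hc : D ≤ 𝐂(D)) (hs : SCl Y T D) : br X Y ≤ 𝐍(br X D) := by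
  have hDX := hD.trans hT.le
  have h1 := isSyl_br hT
  have h2 : br X T ≤ br X Y := H1.bar_mono hTY
  have h3 : br X T ≤ 𝐍(br X D) := H1.bar_le_normalizer (hs.le_norm hTY hD)
  have h4 : SCl (br X Y) (br X T) (br X D) := by
    intro d' hd' g' hg' e
    obtain ⟨d, hd, rfl⟩ := H1.mem_bar.1 hd'
    obtain ⟨g, hg, rfl⟩ := H1.mem_bar.1 hg'
    rw [← map_inv, ← map_mul, ← map_mul] at e ⊢
    have e1 := (H1.qmk_mem_bar_iff (od_le X) hT.le).1 e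
    obtain ⟨k, hk, e2⟩ := (hT.of_le (le_inf hTY le_sup_left) (inf_le_left.trans hY)).exists_conj_le
      (M := Y ⊓ (T ⊔ od X)) Nat.prime_two (Q := zpowers ((g * d * g⁻¹ : X) : G))
      (((hT.pgrp.to_le hD).map (MulAut.conj (g : G)).toMonoidHom).to_le
        (zpowers_le.2 (conj_mem_conj hd _)))
      (zpowers_le.2 ⟨Y.mul_mem (Y.mul_mem hg (hTY (hD hd))) (Y.inv_mem hg), e1⟩)
    have e3 := e2 (conj_mem_conj (mem_zpowers _) k)
    have e4 := hs d hd (k * g) (mul_mem hk.1 hg) (by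
      convert e3 using 1; push_cast; group)
    have e5 : H1.qmk X (od X) ⟨k, hY hk.1⟩ ∈ br X T := (H1.qmk_mem_bar_iff (od_le X) hT.le).2 hk.2
    rw [mem_normalizer_iff.1 (h3 e5), ← map_inv, ← map_mul, ← map_mul]
    refine H1.qmk_mem_bar ?_
    convert e4 using 1; push_cast; group
  have h5 := h1.pCoreOf_le Nat.prime_two
  exact ((h4.ctrl (h1.of_le h2 le_top) (H1.bar_mono hD) ((H1.bar_le_centralizer_iff hDX hDX).2
    ((comm_eq_bot_iff.2 hc).le.trans bot_le))).le_of_char (le_inf h2 h3) h5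
    (le_top.trans (pCoreOf_normal 2 ⊤).2) inf_le_left (inf_le_right.trans (h.trans h5))).trans
    inf_le_right

end Cfsg.Agent.P14
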