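/-
P14, chapter A: a strongly closed elementary abelian 2-subgroup.
-/
import Cfsg.Agent.P14.A2

set_option autoImplicit false
set_option linter.unusedSectionVars false

namespace Cfsg.Agent.P14

open Subgroup Cfsg Cfsg.Agent Cfsg.Agent.FT Cfsg.Agent.H7.SC
open scoped commutatorElement

universe u

variable {G : Type u} [Group G] [Finite G]

theorem mon (ch : 𝐂(pCoreOf 2 (⊤ : Subgroup G)) ≤ pCoreOf 2 ⊤) {S L V : Subgroup G}
    (hS : IsSyl 2 S ⊤) (hSL : S ≤ L) (hV : IsElementaryAbelian 2 V) (h : Red L V) :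
    H2.nclIn ⊤ V ≤ pCoreOf 2 ⊤ ∧ IsElementaryAbelian 2 (H2.nclIn ⊤ V) ∧ Red ⊤ (H2.nclIn ⊤ V) := by
  have hR := pCoreOf_normal 2 (⊤ : Subgroup G)
  have h1 : pCoreOf 2 (⊤ : Subgroup G) ≤ 𝐂(V) :=
    h _ ⟨(hS.pCoreOf_le Nat.prime_two).trans hSL, le_top.trans hR.2⟩ fun k hk => by
      obtain ⟨n, hn⟩ := H2.isPGroup_pCoreOf 2 (⊤ : Subgroup G) ⟨k, hk⟩
      exact ⟨n, by rw [show k ^ 2 ^ n = 1 from congrArg Subtype.val hn]; exact one_mem _⟩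
  have h2 : V ≤ 𝐙(pCoreOf 2 (⊤ : Subgroup G)) :=
    le_inf ((cent_comm.1 h1).trans ch) (cent_comm.1 h1)
  have h3 : H2.nclIn ⊤ V ≤ omegaOne 2 𝐙(pCoreOf 2 (⊤ : Subgroup G)) :=
    H2.nclIn_le_of_normal (le_omegaOne_of_elemAb h2 hV)
      (hR.2.trans ((norm_le_norm_center _).trans (norm_le_norm_omegaOne _ 2)))
  refine ⟨h3.trans ((omegaOne_le _ _).trans inf_le_left),
    elemAb_of_le h3 (elemAb_omegaOne (isMulComm_center _)), fun K hK hk => ?_⟩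
  have hc : 𝐂(H2.nclIn ⊤ V) ≤ 𝐂(V) := cent_anti (H2.le_nclIn _ _)
  have h4 := h (K ⊓ L) (inf_normal hK le_top) fun k hk' => (hk k hk'.1).imp fun n hn => hc hn
  have h5 : S ⊓ K ≤ 𝐂(V) := le_trans (le_inf inf_le_right (inf_le_left.trans hSL)) h4
  have hn : ⊤ ≤ 𝐍(H2.nclIn ⊤ V) := H2.le_normalizer_nclIn _ _
  have h7 : K ≤ 𝐂(V) := (le_sup_syl (le_top.trans (H1.le_normalizer_centralizer hn))
    (hS.inf_normal Nat.prime_two hK) hk).trans (sup_le h5 hc)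
  rw [cent_comm]
  exact H2.nclIn_le_of_normal (cent_comm.1 h7) (H1.le_normalizer_centralizer hK.2)

theorem relIndex_le_card (K L : Subgroup G) : K.relIndex L ≤ 𝐨(L) :=
  Nat.le_of_dvd Nat.card_pos (relIndex_dvd_card K L)

theorem tf0 (hN : NStmt.{u}) (ch : 𝐂(pCoreOf 2 (⊤ : Subgroup G)) ≤ pCoreOf 2 ⊤)
    (h3 : ¬ 3 ∣ Nat.card G) (hk : KH.{u} (Nat.card G + 1)) {T : Subgroup G} (hT : IsSyl 2 T ⊤) :
    ⊤ ≤ 𝐂(oz T) ⊔ 𝐍(jj T) := by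
  obtain ⟨h1, h2, h3'⟩ := mon ch hT le_rfl (elemAb_oz T) (red_oz T)
  have hn : ⊤ ≤ 𝐍(H2.nclIn ⊤ (oz T)) := H2.le_normalizer_nclIn _ _
  have h4 := jj_le_cent (hN G ⊤ _ T (by rwa [card_top]) (hk.mono (Nat.succ_le_succ
    ((relIndex_le_card _ _).trans card_top.le))) h3' h2 hn le_top hT.pgrp)
    (h1.trans (hT.pCoreOf_le Nat.prime_two)) h2
  have h5 : 𝐂(H2.nclIn ⊤ (oz T)) ⊲ ⊤ := ⟨le_top, H1.le_normalizer_centralizer hn⟩
  rw [← (hT.inf_normal Nat.prime_two h5).frattini Nat.prime_two h5]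
  refine sup_le_sup (cent_anti (H2.le_nclIn _ _)) (inf_le_right.trans ?_)
  rw [jj, ← H5.thompsonSubgroupOf_eq_of_le inf_le_left (le_inf (H5.thompsonSubgroupOf_le T) h4)]
  exact H5.normalizer_le_normalizer_thompsonSubgroupOf _

/-- The hypothesis of the inductive step. -/
structure Lc (G : Type u) [Group G] : Prop where
  hN : NStmt.{u}
  hP : PStmt.{u}
  n3 : ¬ 3 ∣ Nat.card G
  kh : KH.{u} (Nat.card G)
  ah : AH.{u} (Nat.card G)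
  nrm : ∀ K : Subgroup G, IsPGroup 2 K → K ≠ ⊥ → 𝐍(K) ≠ ⊤

theorem card_lt_top {X : Subgroup G} (hX : X ≠ ⊤) : 𝐨(X) < Nat.card G :=
  (H1.card_lt_of_lt (lt_top_iff_ne_top.2 hX)).trans_eq card_top

theorem card_br_dvd (X : Subgroup G) : Nat.card (X ⧸ (od X).subgroupOf X) ∣ 𝐨(X) :=
  card_quotient_dvd_card _

namespace Lc

variable (hG : Lc G)
include hG

theorem n3' (X : Subgroup G) : ¬ 3 ∣ 𝐨(X) := fun e => hG.n3 (e.trans (card_subgroup_dvd_card X))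

theorem n3b (X : Subgroup G) : ¬ 3 ∣ Nat.card (X ⧸ (od X).subgroupOf X) :=
  fun e => hG.n3' X (e.trans (card_br_dvd X))

theorem khb {X : Subgroup G} (hX : X ≠ ⊤) : KH.{u} (Nat.card (X ⧸ (od X).subgroupOf X) + 1) :=
  hG.kh.mono ((Nat.le_of_dvd Nat.card_pos (card_br_dvd X)).trans_lt (card_lt_top hX))

theorem con {X T : Subgroup G} (hX : X ≠ ⊤) (hT : IsSyl 2 T X) :
    ∃ B ≤ T, Cn X T B B ∧ T ≤ X ⊓ 𝐍(B) ∧ Con (X ⊓ 𝐍(B)) := by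
  obtain ⟨B, h1, h2, h3⟩ := hG.ah.exists_cn (card_lt_top hX) (hG.n3' X) hT
  have h4 : T ≤ X ⊓ 𝐍(B) := le_inf hT.le (h2.scl.le_norm hT.le h1)
  exact ⟨B, h1, h2, h4, con_of (hT.of_le h4 inf_le_left) h1 inf_le_right h3⟩

theorem tf {X T : Subgroup G} (hX : X ≠ ⊤) (hc : Con X) (hT : IsSyl 2 T X) :
    ⊤ ≤ br X (X ⊓ 𝐍(oz T)) ⊔ br X (X ⊓ 𝐍(jj T)) := by
  have h1 := tf0 hG.hN hc (hG.n3b X) (hG.khb hX) (isSyl_br hT)
  have hJ : jj T ≤ T := H5.thompsonSubgroupOf_le T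
  rw [jj_br hT.pgrp hT.le, norm_br (hT.pgrp.to_le hJ) (hJ.trans hT.le)] at h1
  exact h1.trans (sup_le_sup_right ((cent_anti (br_oz_le hT.le)).trans
    ((cent_br (hT.pgrp.to_le (oz_le T)) ((oz_le T).trans hT.le)).trans
      (H1.bar_mono (inf_le_inf_left _ (cent_le_norm _))))) _)

variable {S V : Subgroup G} (h : VV S V)
include h

theorem nf : H2.NF S V :=
  hG.hN G 𝐍(V) V S (hG.n3' _) (hG.kh.mono ((relIndex_le_card _ _).trans_lt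
    (card_lt_top (hG.nrm V h.pg h.ne)))) h.red h.el le_rfl h.nrm h.syl.pgrp

omit hG in
theorem vc : V ≤ 𝐂(V) := isMulComm_iff_le_cent.1 h.el.1

omit hG in
theorem nm_of_red {X L : Subgroup G} (hX : Con X) (hL : L ≤ X) (hSL : S ≤ L) (hn : L ≤ 𝐍(V))
    (hr : Red L V) : NM X V := by
  have hSX := hSL.trans hL
  have hVX := h.le.trans hSX
  have hS := isSyl_br (h.syl.of_le hSX le_top)
  obtain ⟨h1, h2, h3⟩ := mon hX hS (H1.bar_mono hSL)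
    (elemAb_br hVX h.el) ((red_br_iff hL hVX h.pg hn).2 hr)
  have h4 := H2.le_normalizer_nclIn ⊤ (br X V)
  have h5 := H2.le_nclIn ⊤ (br X V)
  generalize H2.nclIn ⊤ (br X V) = U at h1 h2 h3 h4 h5
  have h6 : br X (S ⊓ H1.unbar X (od X) U) = U := by
    refine le_antisymm ((H1.bar_mono inf_le_right).trans (H1.bar_unbar U).le) fun u hu => ?_
    obtain ⟨y, hy, rfl⟩ := H1.mem_bar.1 (h1.trans (hS.pCoreOf_le Nat.prime_two) hu)
    exact H1.qmk_mem_bar ⟨hy, H1.coe_mem_unbar.2 hu⟩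
  have h7 : S ≤ 𝐍(S ⊓ H1.unbar X (od X) U) :=
    H1.le_normalizer_inf (le_norm_self S) (H1.le_normalizer_unbar hSX (le_top.trans h4))
  have h8 : V ≤ S ⊓ H1.unbar X (od X) U := le_inf h.le ((H1.bar_le_iff hVX).1 h5)
  have h9 : S ⊓ H1.unbar X (od X) U ≤ S := inf_le_left
  generalize S ⊓ H1.unbar X (od X) U = W at h6 h7 h8 h9
  have hW := h.syl.pgrp.to_le h9
  have hWX := h9.trans hSX
  have h10 : IsElementaryAbelian 2 W := by
    rw [← map_subgroupOf_eq_of_le hWX, isElemAb_map_iff X.subtype_injective]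
    exact H5.elemAb_of_map _ (ker_inf hW) le_rfl (by rw [← h6] at h2; exact h2)
  have h11 := h.max W (X ⊓ 𝐍(W)) (le_inf hSX h7) inf_le_right h10 (by
    rw [← red_br_iff inf_le_left hWX hW inf_le_right, ← norm_br hW hWX, h6, top_le_iff.1 h4]
    exact h3) h8
  rw [nm_iff hVX, ← h11, h6]
  exact h4

theorem scl_jj : SCl 𝐍(jj S) S V := by
  have h1 : 𝐍(V) ⊓ 𝐂(V) ⊲ 𝐍(V) :=
    ⟨inf_le_left, H1.le_normalizer_inf (le_norm_self _) (H1.le_normalizer_centralizer le_rfl)⟩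
  have h2 := (h.syl.of_le h.nrm le_top).inf_normal Nat.prime_two h1
  have hJ : jj S ≤ S := H5.thompsonSubgroupOf_le S
  have l1 : S ≤ 𝐍(V) ⊓ 𝐍(S ⊓ (𝐍(V) ⊓ 𝐂(V))) :=
    le_inf h.nrm (H1.le_normalizer_inf (le_norm_self S) (h.nrm.trans h1.2))
  have l2 := h.red.down inf_le_left le_rfl (h2.frattini Nat.prime_two h1).ge
  have l3 : 𝐍(V) ⊓ 𝐍(S ⊓ (𝐍(V) ⊓ 𝐂(V))) ≤ 𝐍(jj S) := by
    rw [jj, ← H5.thompsonSubgroupOf_eq_of_le (inf_le_left : S ⊓ (𝐍(V) ⊓ 𝐂(V)) ≤ S)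
      (le_inf hJ (le_inf (hJ.trans h.nrm) (jj_le_cent (hG.nf h) h.le h.el)))]
    exact inf_le_right.trans (H5.normalizer_le_normalizer_thompsonSubgroupOf _)
  have l4 : 𝐍(V) ⊓ 𝐍(S ⊓ (𝐍(V) ⊓ 𝐂(V))) ≤ 𝐍(V) := inf_le_left
  generalize 𝐍(V) ⊓ 𝐍(S ⊓ (𝐍(V) ⊓ 𝐂(V))) = L at l1 l2 l3 l4
  have hS := h.syl.of_le (l1.trans l3) le_top
  obtain ⟨B, b1, b2, b3, b4⟩ := hG.con (hG.nrm _ (h.syl.pgrp.to_le hJ)
    (H5.thompsonSubgroupOf_ne_bot h.syl.pgrp (ne_bot_of_le_ne_bot h.ne h.le))) hS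
  have l5 := (b2.mono l3).ctrl (h.syl.of_le l1 le_top) b1
  have l6 : L ≤ (L ⊓ 𝐂(V)) ⊔ (L ⊓ 𝐍(B)) := fun x hx => by
    obtain ⟨m, hm, e⟩ := l5 V h.le x hx (by rw [conj_eq_of_mem_norm (l4 hx)]; exact h.le)
    have : m⁻¹ * x ∈ L ⊓ 𝐂(V) := ⟨L.mul_mem (L.inv_mem hm.1) hx, fun t ht => by
      calc t * (m⁻¹ * x) = m⁻¹ * (m * t * m⁻¹) * x := by group
        _ = m⁻¹ * x * t := by rw [← e t ht]; group⟩
    simpa using mul_mem (mem_sup_right hm) (mem_sup_left this : _ ∈ _ ⊔ (L ⊓ 𝐍(B)))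
  exact (b2.ctrl hS b1).scl h.le (SCl.of_nm (nm_of_red h b4 (inf_le_inf_right _ l3)
    (le_inf l1 (b3.trans inf_le_right)) (inf_le_left.trans l4) (l2.down inf_le_left l4 l6))
    (h.le.trans b3) h.syl.pgrp h.le)

theorem top (X : Subgroup G) : X ≠ ⊤ → S ≤ X → SCl X S V := by
  induction X using H1.subgroup_strong_induction with
  | h X ih =>
  intro hX hSX
  have hS := h.syl.of_le hSX le_top
  have hVX := h.le.trans hSX
  have hJ : jj S ≤ S := H5.thompsonSubgroupOf_le S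
  obtain ⟨B, b1, b2, b3, b4⟩ := hG.con hX hS
  rcases (inf_le_left : X ⊓ 𝐍(B) ≤ X).lt_or_eq with c | c
  · exact (b2.ctrl hS b1).scl h.le (ih _ c (ne_top_of_lt c) b3)
  rw [c] at b4
  refine SCl.of_nm ((nm_iff hVX).2 (hG.hP _ _ _ (hG.n3b X) ((hG.khb hX).mono (Nat.le_succ _)) b4
    (isSyl_br hS) (H1.bar_mono h.le) (elemAb_br hVX h.el) (H1.bar_le_normalizer h.nrm)
    (nf_br hS.pgrp hSX h.le (hG.nf h)) (fun Y h1 h2 => ?_) ?_)) hVX hS.pgrp h.le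
  · have h3 := (H1.bar_le_iff hSX).1 h2
    have h4 : H1.unbar X (od X) Y < X := lt_of_le_of_ne (H1.unbar_le Y) fun e => h1 (by
      rw [← H1.bar_unbar Y, e, H1.bar_top])
    rw [← H1.bar_unbar Y]
    exact b4.le_norm hS h3 h4.le h.le (vc h) (ih _ h4 (ne_top_of_lt h4) h3)
  · have h1 : S ≤ 𝐍(jj S) :=
      (le_norm_self S).trans (H5.normalizer_le_normalizer_thompsonSubgroupOf S)
    rw [jj_br hS.pgrp hSX, norm_br (hS.pgrp.to_le hJ) (hJ.trans hSX)]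
    exact b4.le_norm hS (le_inf hSX h1) inf_le_left h.le (vc h) ((hG.scl_jj h).mono inf_le_right)

theorem norm_le : 𝐍(S) ≤ 𝐍(V) :=
  (le_inf le_rfl le_rfl).trans ((hG.top h _ (hG.nrm S h.syl.pgrp (ne_bot_of_le_ne_bot h.ne h.le))
    (le_norm_self S)).norm_le le_rfl h.le)

theorem fb {n : ℕ} (ha : ∀ T ≤ S, n < 𝐨(T) → ∀ g ∈ (⊤ : Subgroup G), T ^ᵍ g ≤ S → RelM 𝐍(V) T g)
    (m : ℕ) : ∀ X : Subgroup G, 𝐨(S) - 𝐨(S ⊓ X) = m → X ≠ ⊤ → IsSyl 2 (S ⊓ X) X →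
      n ≤ 𝐨(S ⊓ X) → SCl X (S ⊓ X) (V ⊓ (S ⊓ X)) := by
  induction m using Nat.strong_induction_on with
  | h m ih =>
  intro X hm hX hT hn
  by_cases h0 : S ⊓ X = ⊥
  · rw [h0, inf_bot_eq]
    exact SCl.of_norm (le_top.trans (normalizer_eq_top ⊥).ge)
  by_cases h1 : S ≤ X
  · exact (hG.top h X hX h1).inf inf_le_left
  have h2 : S ⊓ X < S := lt_of_le_of_ne inf_le_left fun e => h1 (inf_eq_left.1 e)
  have h3 := h.card_lt h2
  generalize S ⊓ X = T at hm hT hn h0 h2 h3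
  obtain ⟨B, b1, b2, b3, b4⟩ := hG.con hX hT
  have hH := hT.of_le b3 inf_le_left
  have hc : V ⊓ T ≤ 𝐂(V ⊓ T) := inf_le_left.trans ((vc h).trans (cent_anti inf_le_left))
  refine (b2.ctrl hT b1).scl inf_le_right ?_
  have hHX : X ⊓ 𝐍(B) ≠ ⊤ := ne_top_of_le_ne_top hX inf_le_left
  generalize X ⊓ 𝐍(B) = H at b3 b4 hH hHX
  have key : ∀ K ≤ T, K ≠ ⊥ → 𝐍(T) ≤ 𝐍(K) → br H (H ⊓ 𝐍(K)) ≤ 𝐍(br H (V ⊓ T)) := by
    intro K k1 k2 k3
    have k4 : T ≤ S ⊓ 𝐍(T) := le_inf h2.le (le_norm_self _)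
    obtain ⟨g, -, g1, g2⟩ := exists_ext h.syl le_top (h.syl.pgrp.to_le inf_le_left)
      (inf_le_right.trans k3 : S ⊓ 𝐍(T) ≤ 𝐍(K))
    have g3 : Rel V (S ⊓ 𝐍(T)) g := ha _ inf_le_left (by omega) g (mem_top g) g1
    have g4 : (S ⊓ 𝐍(T)) ^ᵍ g ≤ S ⊓ 𝐍(K) ^ᵍ g :=
      le_inf g1 (conj_mono (inf_le_right.trans k3) g)
    have g5 := (card_conj _ g).ge.trans (card_le_of_le g4)
    have g6 : 𝐨(S ⊓ 𝐍(K) ^ᵍ g) ≤ 𝐨(S) := card_le_of_le inf_le_left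
    have g7 := ih _ (by omega) _ rfl
      (fun e => hG.nrm K (hT.pgrp.to_le k1) k2 (conj_eq_top_iff.1 e)) g2 (by omega)
    refine b4.le_norm hH (le_inf b3 ((le_norm_self T).trans k3)) inf_le_left inf_le_right hc
      fun v hv x hx e => ⟨(g3.mem_iff (k4 e)).1 ?_, e⟩
    have := g7 _ ⟨(g3.mem_iff (k4 hv.2)).2 hv.1, g4 (conj_mem_conj (k4 hv.2) g)⟩ _
      (conj_mem_conj hx.2 g) (by
        convert g4 (conj_mem_conj (k4 e) g) using 1; group)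
    convert (mem_inf.1 this).1 using 1; group
  exact SCl.of_nm ((nm_iff (inf_le_right.trans b3)).2 ((hG.tf hHX b4 hH).trans (sup_le
    (key _ (oz_le _) (oz_ne_bot hT.pgrp h0) (norm_le_norm_oz _))
    (key _ (H5.thompsonSubgroupOf_le _) (H5.thompsonSubgroupOf_ne_bot hT.pgrp h0)
      (H5.normalizer_le_normalizer_thompsonSubgroupOf _))))) (inf_le_right.trans b3) hT.pgrp
    inf_le_right

theorem ctrl : Ctrl ⊤ S 𝐍(V) := by
  refine alperin h.syl (inf_le_right.trans (hG.norm_le h)) fun T hT hs ha x hx => ?_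
  by_cases h0 : T = ⊥
  · exact ⟨1, one_mem _, fun t ht => by rw [h0, mem_bot] at ht; simp [ht]⟩
  rw [top_inf_eq] at hs hx
  have k4 : T ≤ S ⊓ 𝐍(T) := le_inf hT.le (le_norm_self _)
  have h1 := hG.fb h ha _ _ rfl (hG.nrm T (h.syl.pgrp.to_le hT.le) h0) hs (card_le_of_le k4)
  obtain ⟨m, hm, e⟩ := h1.ctrl hs inf_le_right
    (inf_le_left.trans ((vc h).trans (cent_anti inf_le_left))) T k4 x hx
    (by rwa [conj_eq_of_mem_norm hx])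
  rw [← inf_assoc, inf_eq_left.2 h.le] at hm
  by_cases h2 : V ⊓ 𝐍(T) ≤ T
  · refine ⟨m, ?_, e⟩
    have h3 : V ≤ T := by
      by_contra h3
      have h4 := lt_inf_norm_of_isNilpotent (isNilpotent_of_isPGroup Nat.prime_two
        (h.syl.pgrp.to_le (sup_le h.le hT.le))) (right_lt_sup.2 h3)
      rw [sup_inf_of_le_right (hT.le.trans h.nrm) (le_norm_self T), sup_eq_right.2 h2] at h4
      exact h4.false
    have := hm.2
    rwa [inf_eq_left.2 (h3.trans (le_norm_self T))] at this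
  · have h3 : (V ⊓ 𝐍(T)) ⊔ T ≤ S := sup_le (inf_le_left.trans h.le) hT.le
    obtain ⟨m', hm', e'⟩ := ha _ h3 (H1.card_lt_of_lt (right_lt_sup.2 h2)) m (mem_top m) (by
      rwa [conj_sup, conj_eq_of_mem_norm hm.1, conj_eq_of_mem_norm hm.2])
    exact ⟨m', hm', fun t ht => (e t ht).trans (e' t (mem_sup_right ht))⟩

end Lc

theorem aStmt (hN : NStmt.{u}) (hP : PStmt.{u}) : AStmt.{u} := by
  suffices ∀ n, KH.{u} n → AH.{u} (n + 1) from fun G _ _ h3 hk h2 =>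
    this _ hk G (Nat.lt_succ_self _) h3 h2
  intro n
  induction n using Nat.strong_induction_on with
  | h n ih =>
  intro hk G _ _ hn h3 h2
  by_cases c : ∀ K : Subgroup G, IsPGroup 2 K → K ≠ ⊥ → 𝐍(K) ≠ ⊤
  · have hG : Lc G := ⟨hN, hP, h3, hk.mono (by omega), fun M _ _ a =>
      ih (Nat.card M) (by omega) (hk.mono (by omega)) M (Nat.lt_succ_self _), c⟩
    obtain ⟨S, hS⟩ := exists_isSyl Nat.prime_two (⊤ : Subgroup G)
    obtain ⟨V, h⟩ := exists_VV hS (hS.ne_bot Nat.prime_two (by rwa [card_top]))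
    exact ⟨V, h.el, h.ne, ((hG.ctrl h).scl h.le (SCl.of_norm le_rfl)).sc hS h.le⟩
  · push Not at c
    obtain ⟨K, k1, k2, k3⟩ := c
    exact ⟨oz K, elemAb_oz K, oz_ne_bot k1 k2, fun P _ _ _ a ha g _ _ =>
      (mem_normalizer_iff.1 (norm_le_norm_oz K (k3 ▸ mem_top g)) a).1 ha⟩

end Cfsg.Agent.P14
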