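/-
P14, chapter B: local theory (groups with trivial odd core).
-/
import Cfsg.Agent.P14.A1

set_option autoImplicit false
set_option linter.unusedSectionVars false

namespace Cfsg.Agent.P14

open Subgroup Cfsg Cfsg.Agent Cfsg.Agent.FT
open Cfsg.Agent.H2 (CompIn)
open Cfsg.Agent.H7.SC (od)
open scoped commutatorElement

universe u

variable {G : Type u} [Group G] [Finite G]

theorem cjm {K : Subgroup G} {x g : G} (hg : g ∈ 𝐍(K)) (hx : x ∈ K) : g * x * g⁻¹ ∈ K :=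
  (mem_normalizer_iff.1 hg x).1 hx

theorem cmr {K : Subgroup G} {x g : G} (hg : g ∈ 𝐍(K)) (hx : x ∈ K) : ⁅g, x⁆ ∈ K :=
  mul_mem (cjm hg hx) (inv_mem hx)

theorem cml {K : Subgroup G} {x g : G} (hg : g ∈ 𝐍(K)) (hx : x ∈ K) : ⁅x, g⁆ ∈ K := by
  simpa using inv_mem (cmr hg hx)

theorem pow_two_pow {P : Subgroup G} (hP : IsPGroup 2 P) {x : G} (hx : x ∈ P) :
    ∃ k : ℕ, x ^ 2 ^ k = 1 := (hP ⟨x, hx⟩).imp fun _ h => congrArg Subtype.val h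

theorem two_zp {x : G} {k : ℕ} (h : x ^ 2 ^ k = 1) : IsPGroup 2 (zpowers x) :=
  IsPGroup.of_card ((Nat.card_zpowers _).trans
    ((Nat.dvd_prime_pow Nat.prime_two).1 (orderOf_dvd_of_pow_eq_one h)).choose_spec.2)

theorem eq_one_of {x : G} {k : ℕ} (h : x ^ 2 ^ k = 1) (ho : Odd (orderOf x)) : x = 1 :=
  orderOf_eq_one_iff.1 (((Nat.coprime_two_right.2 ho).pow_right k).eq_one_of_dvd
    (orderOf_dvd_of_pow_eq_one h))

theorem odd_of_mem {D : Subgroup G} (h : Odd 𝐨(D)) {x : G} (hx : x ∈ D) : Odd (orderOf x) :=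
  h.of_dvd_nat (orderOf_dvd_card_of_mem hx)

theorem norm_cent {K : Subgroup G} : 𝐍(K) ≤ 𝐍(𝐂(K)) := H1.le_normalizer_centralizer le_rfl

theorem comp_conj {X K : Subgroup G} (hK : CompIn X K) {g : G} (hg : g ∈ X) : CompIn X (K ^ᵍ g) :=
  hK.conj_of_mem_normalizer (le_normalizer hg)

theorem comp_norm {X K : Subgroup G} (hK : CompIn X K) {g s : G} (hg : g ∈ X) (hs : s ∈ K)
    (h : g * s * g⁻¹ ∉ 𝐂(K)) : g ∈ 𝐍(K) := by
  by_contra hn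
  exact h ((comp_conj hK hg).le_centralizer_of_ne hK (fun e => hn (conj_eq_self_iff.1 e))
    (conj_mem_conj hs g))

theorem syl_comp {X S K : Subgroup G} (hS : IsSyl 2 S X) (hK : CompIn X K) : IsSyl 2 (S ⊓ K) K := by
  have h1 := (hS.inf_normal Nat.prime_two ⟨H2.layerOf_le X, H2.le_normalizer_layerOf X⟩).inf_normal
    Nat.prime_two ⟨hK.le_layerOf, hK.layerOf_le_normalizer⟩
  rwa [inf_assoc, inf_eq_right.2 hK.le_layerOf] at h1

namespace SzT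

variable {K T Zh : Subgroup G} {n r : ℕ} (h : SzT K T Zh n r)
include h

theorem le : T ≤ K := h.syl.le

theorem zle : Zh ≤ T := fun x hx => ((h.zh x).1 hx).1

theorem one_lt : 1 < 2 ^ n := Nat.one_lt_two_pow (by have := h.three; omega)

theorem exZ : ∃ s ∈ Zh, s ∉ 𝐂(K) := by
  by_contra hc
  push Not at hc
  exact h.one_lt.ne' (h.cardZ.symm.trans (relIndex_eq_one.2 hc))

theorem not_le : ¬ T ≤ Zh := fun e => h.one_lt.ne' (h.cardT.symm.trans (relIndex_eq_one.2 e))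

theorem cle : K ⊓ 𝐂(K) ≤ Zh := fun g hg => by
  obtain ⟨s, hs, hs'⟩ := h.exZ
  refine (h.zh g).2 ⟨h.cent s (h.zle hs) hs' g hg.1 ?_, mul_mem hg.2 hg.2⟩
  rw [commutatorElement_eq_one_iff_mul_comm.2 (hg.2 s (h.le (h.zle hs))).symm]
  exact one_mem _

theorem nZ {d : G} (h1 : d ∈ 𝐍(K)) (h2 : d ∈ 𝐍(T)) : d ∈ 𝐍(Zh) := mem_norm_of_conj_le fun x hx => by
  obtain ⟨y, hy, rfl⟩ := mem_conj'.1 hx
  refine (h.zh _).2 ⟨cjm h2 (h.zle hy), ?_⟩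
  rw [conj_mul]
  exact cjm (norm_cent h1) ((h.zh y).1 hy).2

theorem dec {x : G} {k : ℕ} (hx : x ^ 2 ^ k = 1) (h1 : x ∈ 𝐍(K)) (h2 : x ∈ 𝐍(T)) :
    ∃ s ∈ T, ∃ c ∈ 𝐂(K), s * c = x := by
  obtain ⟨s, hs, c, hc, rfl⟩ := (mem_sup_of_norm (cent_le_norm K)).1
    (h.inner x h1 ⟨k, hx ▸ one_mem _⟩)
  refine ⟨s, ?_, c, hc, rfl⟩
  have a1 : s ^ 2 ^ k ∈ 𝐂(K) := by
    rw [Commute.mul_pow (hc s hs), mul_eq_one_iff_eq_inv] at hx
    exact hx ▸ inv_mem (pow_mem hc _)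
  obtain ⟨j, hj⟩ := pow_two_pow h.syl.pgrp (h.zle (h.cle ⟨pow_mem hs _, a1⟩))
  rw [← pow_mul, ← pow_add] at hj
  refine zpowers_le.1 (h.syl.le_of_norm Nat.prime_two (two_zp hj) (zpowers_le.2 hs)
    (zpowers_le.2 ?_))
  simpa using mul_mem h2 (inv_mem (cent_le_norm T (cent_anti h.le hc)))

theorem dec2 {x : G} (hx : x * x = 1) (h1 : x ∈ 𝐍(K)) (h2 : x ∈ 𝐍(T)) :
    ∃ s ∈ Zh, ∃ c ∈ 𝐂(K), s * c = x := by
  obtain ⟨s, hs, c, hc, rfl⟩ := h.dec (k := 1) (by rw [pow_one, pow_two, hx]) h1 h2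
  refine ⟨s, (h.zh s).2 ⟨hs, ?_⟩, c, hc, rfl⟩
  rw [← pow_two, Commute.mul_pow (hc s (h.le hs)), mul_eq_one_iff_eq_inv] at hx
  rw [← pow_two, hx]
  exact inv_mem (pow_mem hc _)

theorem comm_mem {u s c : G} (hu : u ∈ T) (hs : s ∈ Zh) (hc : c ∈ 𝐂(K)) :
    ⁅u, s * c⁆ ∈ K ⊓ 𝐂(K) := by
  have : ⁅u, s * c⁆ = ⁅u, s⁆ := by
    have e := hc u (h.le hu)
    simp only [commutatorElement_def]
    calc u * (s * c) * u⁻¹ * (s * c)⁻¹ = u * s * (c * u⁻¹ * c⁻¹) * s⁻¹ := by group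
      _ = _ := by rw [← hc _ (inv_mem (h.le hu)), mul_inv_cancel_right]
  rw [this]
  exact ⟨cml (le_normalizer (h.le (h.zle hs))) (h.le hu), h.cen (commutator_mem_commutator hu hs)⟩

theorem der_cent {x : G} (hx : x * x = 1) (h1 : x ∈ 𝐍(K)) (h2 : x ∈ 𝐍(T)) : ⁅T, T⁆ ≤ 𝐂[x] := by
  obtain ⟨s, hs, c, hc, rfl⟩ := h.dec2 hx h1 h2
  have a1 : ⁅T, zpowers (s * c)⁆ ≤ 𝐂(K) :=
    H1.commutator_zpowers_le (norm_cent h1) fun g hg => (h.comm_mem hg hs hc).2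
  have a2 : ⁅⁅T, zpowers (s * c)⁆, T⁆ = ⊥ := comm_eq_bot_iff.2 (a1.trans (cent_anti h.le))
  rw [← cent_zpowers, ← comm_eq_bot_iff]
  exact commutator_commutator_eq_bot_of_rotate a2 (by rwa [commutator_comm (zpowers _)])

theorem zh_cent {x : G} (hx : x * x = 1) (h1 : x ∈ 𝐍(K)) (h2 : x ∈ 𝐍(T)) : Zh ≤ 𝐂[x] := by
  refine h.der.trans (sup_le (h.der_cent hx h1 h2) fun z hz => ?_)
  obtain ⟨s, hs, c, hc, rfl⟩ := h.dec2 hx h1 h2
  rw [mem_cent1_comm]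
  exact mul_mem (mem_cent1.2 (hz.2 s (h.le (h.zle hs))).symm) (mem_cent1.2 (hc z hz.1))

theorem ex_der : ∃ z ∈ ⁅T, T⁆, z ∉ 𝐂(K) := by
  by_contra hc
  push Not at hc
  obtain ⟨s, hs, hs'⟩ := h.exZ
  exact hs' ((h.der.trans (sup_le hc inf_le_right)) hs)

theorem odd_cent {x : G} (h1 : x ∈ 𝐍(K)) (ho : Odd (orderOf x))
    (h2 : ∀ z ∈ ⁅T, T⁆, ⁅x, z⁆ ∈ 𝐂(K)) : x ∈ 𝐂(K) := h.oddAut x h1 ho fun z hz => by
  obtain ⟨y, hy, c, hc, rfl⟩ := (mem_sup_of_norm (inf_le_right.trans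
    ((cent_anti ((der_le T).trans h.le)).trans (cent_le_norm _)))).1 (h.der hz)
  rw [show ⁅x, y * c⁆ = ⁅x, y⁆ * (y * ⁅x, c⁆ * y⁻¹) by simp only [commutatorElement_def]; group]
  exact mul_mem (h2 y hy) (cjm (norm_cent (le_normalizer (h.le (der_le T hy))))
    (cmr (norm_cent h1) hc.2))

end SzT

/-- The local situation. -/
structure Lo (X A : Subgroup G) : Prop where
  od : od X = ⊥
  el : IsElementaryAbelian 2 A
  le : A ≤ X
  sc : SC X A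
  sz : ∀ K T, CompIn X K → IsSyl 2 T K → ∃ Zh n r, SzT K T Zh n r

namespace Lo

variable {X A : Subgroup G} (h : Lo X A)
include h

theorem pg : IsPGroup 2 A := elemAb_isPGroup h.el

theorem sq {a : G} (ha : a ∈ A) : a * a = 1 := by rw [← pow_two]; exact h.el.2 a ha

theorem cc : A ≤ 𝐂(A) := isMulComm_iff_le_cent.1 h.el.1

theorem syl : ∃ S, IsSyl 2 S X ∧ A ≤ S := exists_isSyl_ge Nat.prime_two h.pg h.le

theorem nrm {S : Subgroup G} (hS : IsSyl 2 S X) (hA : A ≤ S) : S ≤ 𝐍(A) :=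
  h.sc.le_norm hS.le hS.pgrp hA

theorem fit : fittingOf X = pCoreOf 2 X := fittingOf_eq_pCoreOf Nat.prime_two h.od

theorem mem_fit {x : G} (hx : x ∈ X) (h1 : x ∈ 𝐂(pCoreOf 2 X))
    (h2 : ∀ K, CompIn X K → x ∈ 𝐂(K)) : x ∈ pCoreOf 2 X := by
  rw [← h.fit] at h1 ⊢
  refine H2.inf_centralizer_fstarOf_le_fittingOf X ⟨hx, ?_⟩
  rw [H2.fstarOf_eq, cent_sup, H2.layerOf_eq_sSup]
  exact ⟨mem_cent_iff_cent1.2 (sSup_le fun K hK => mem_cent_iff_cent1.1 (h2 K hK)), h1⟩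

theorem le_norm {K : Subgroup G} (hK : CompIn X K) : A ≤ 𝐍(K) := fun a ha => by
  by_contra hn
  obtain ⟨S, hS, hA⟩ := h.syl
  obtain ⟨Zh, n, r, z⟩ := h.sz K _ hK (syl_comp hS hK)
  refine z.not_le fun s hs => (z.zh s).2 ⟨hs, ?_⟩
  have a1 : a * s * a⁻¹ ∈ 𝐂(K) := by
    by_contra e
    exact hn (comp_norm hK (h.le ha) hs.2 e)
  have a2 := h.sq (cml (h.nrm hS hA hs.1) ha)
  rw [commutatorElement_def, ← pow_two, Commute.mul_pow (a1 _ (inv_mem hs.2)).symm, inv_pow,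
    mul_inv_eq_one] at a2
  rw [← pow_two, ← a2]
  exact pow_mem a1 2

theorem nT {S K : Subgroup G} (hA : A ≤ S) (hK : CompIn X K) : A ≤ 𝐍(S ⊓ K) :=
  H1.le_normalizer_inf (hA.trans (le_norm_self S)) (h.le_norm hK)

/-- Balance. -/
theorem bal {a : G} (ha : a ∈ A) {D : Subgroup G} (ho : Odd 𝐨(D)) (hD : D ≤ X ⊓ 𝐂[a])
    (hn : X ⊓ 𝐂[a] ≤ 𝐍(D)) : D = ⊥ := by
  obtain ⟨S, hS, hA⟩ := h.syl
  have hP := pCoreOf_normal 2 X
  have pP := H2.isPGroup_pCoreOf 2 X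
  have cop := H1.coprime_card_of_isPGroup pP (Nat.coprime_two_right.2 ho)
  have a1 : D ≤ 𝐂(pCoreOf 2 X) := H1.pxq_lemma (two_zp (k := 1) (h.el.2 a ha)) pP
    ((zpowers_le.2 (h.le ha)).trans hP.2) ((hD.trans inf_le_left).trans hP.2)
    (cent_comm.1 (by rw [cent_zpowers]; exact hD.trans inf_le_right)) cop (by
      rw [cent_zpowers]
      exact le_cent_of_norm_of_coprime ((inf_le_inf_right _ hP.1).trans hn)
        (H1.le_normalizer_inf ((hD.trans inf_le_left).trans hP.2)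
          ((hD.trans inf_le_right).trans (le_norm_self _)))
        (cop.coprime_dvd_right (FT.card_dvd_of_le inf_le_left)))
  refine eq_bot_iff.2 fun d hd => ?_
  suffices d ∈ pCoreOf 2 X from
    (H1.inf_eq_bot_of_coprime' cop).le ⟨hd, this⟩
  refine h.mem_fit (hD hd).1 (a1 hd) fun K hK => ?_
  obtain ⟨Zh, n, r, z⟩ := h.sz K _ hK (syl_comp hS hK)
  have b1 := z.der_cent (h.sq ha) (h.le_norm hK ha) (h.nT hA hK ha)
  have b2 : ⁅S ⊓ K, S ⊓ K⁆ ≤ S ⊓ K := der_le _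
  have b3 : ∀ y ∈ ⁅S ⊓ K, S ⊓ K⁆, ∀ d ∈ D, ⁅d, y⁆ ∈ D := fun y hy d hd =>
    cml (hn ⟨hK.le (b2 hy).2, b1 hy⟩) hd
  have b4 : D ≤ 𝐍(K) := fun d hd => by
    obtain ⟨y, hy, hy'⟩ := z.ex_der
    refine comp_norm hK (hD hd).1 (b2 hy).2 fun e => hy' ?_
    obtain ⟨k, hk⟩ := pow_two_pow hS.pgrp (b2 hy).1
    have := eq_one_of (k := k) (by
      rw [commutatorElement_def, Commute.mul_pow (e _ (inv_mem (b2 hy).2)).symm, conj_pow, inv_pow,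
        hk]; simp) (odd_of_mem ho (b3 y hy d hd))
    rw [commutatorElement_def, mul_inv_eq_one] at this
    exact this ▸ e
  refine z.odd_cent (b4 hd) (odd_of_mem ho hd) fun y hy => ?_
  have c1 : ⁅d, y⁆ ∈ D ⊓ K := ⟨b3 y hy d hd, cmr (b4 hd) (b2 hy).2⟩
  obtain ⟨s, hs, c, hc, e⟩ := z.dec2 (h.sq ha) (h.le_norm hK ha) (h.nT hA hK ha)
  by_cases h1 : s ∈ 𝐂(K)
  · have c2 : K ≤ 𝐍(D) := (le_inf hK.le (mem_cent_iff_cent1.1 (e ▸ mul_mem h1 hc))).trans hn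
    rcases (H2.isQuasisimple_subgroup_iff.1 hK.2).2.2 (D ⊓ K) inf_le_right
      (H1.le_normalizer_inf c2 (le_norm_self K)) with c3 | c3
    · obtain ⟨u, hu, hu'⟩ := z.exZ
      obtain ⟨k, hk⟩ := pow_two_pow hS.pgrp (z.zle hu).1
      exact absurd (eq_one_of hk (odd_of_mem ho (c3.ge (z.zle hu).2).1) ▸ one_mem _) hu'
    · exact c3 c1
  · have c2 := mem_cent1.1 (hD c1.1).2
    have c3 := z.cent s (z.zle hs) h1 _ c1.2 (by
      rw [commutatorElement_eq_one_iff_mul_comm.2 (by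
        rw [← e, mul_assoc, ← hc _ c1.2, ← mul_assoc, ← mul_assoc] at c2
        exact (mul_right_cancel c2).symm)]
      exact one_mem _)
    obtain ⟨k, hk⟩ := pow_two_pow hS.pgrp c3.1
    rw [eq_one_of hk (odd_of_mem ho c1.1)]
    exact one_mem _

/-- Generation by the normalizer of `A` and the components moved by `A`. -/
theorem gen {M : Subgroup G} (h1 : X ⊓ 𝐍(A) ≤ M) (h2 : ∀ K, CompIn X K → ¬ A ≤ 𝐂(K) → K ≤ M) :
    X ≤ M := by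
  obtain ⟨S, hS, hA⟩ := h.syl
  have hE : H2.layerOf X ⊲ X := ⟨H2.layerOf_le X, H2.le_normalizer_layerOf X⟩
  have hP := pCoreOf_normal 2 X
  rw [← (hS.inf_normal Nat.prime_two hE).frattini Nat.prime_two hE]
  refine sup_le ?_ ?_
  · rw [H2.layerOf_eq_sSup]
    refine sSup_le fun K hK => ?_
    by_cases e : A ≤ 𝐂(K)
    · exact (le_inf hK.le ((cent_comm.1 e).trans (cent_le_norm A))).trans h1
    · exact h2 K hK e
  have a1 : S ≤ X ⊓ 𝐍(S ⊓ H2.layerOf X) :=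
    le_inf hS.le (H1.le_normalizer_inf (le_norm_self S) (hS.le.trans hE.2))
  have a2 : pCoreOf 2 X ⊔ S ⊓ H2.layerOf X ≤ S := sup_le (hS.pCoreOf_le Nat.prime_two) inf_le_left
  refine le_trans (Ctrl.le_of_char (((h.sc.scl hS.le hS.pgrp hA).mono inf_le_left).ctrl
    (hS.of_le a1 inf_le_left) hA h.cc) (le_inf a1 (h.nrm hS hA)) a2
    (H1.le_normalizer_sup (inf_le_left.trans hP.2) inf_le_right) inf_le_left ?_)
    ((inf_le_inf_right _ inf_le_left).trans h1)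
  refine hS.le_of_le_norm Nat.prime_two (fun ⟨x, hx⟩ => ?_) (inf_le_left.trans inf_le_left)
    (H1.le_normalizer_inf (a1.trans (le_norm_self _)) (H1.le_normalizer_centralizer
      (H1.le_normalizer_sup (hS.le.trans hP.2) (a1.trans inf_le_right))))
  obtain ⟨k, hk⟩ := exists_odd_pow x
  refine ⟨k, Subtype.ext ?_⟩
  change x ^ 2 ^ k = 1
  have hy := pow_mem hx (2 ^ k)
  generalize x ^ 2 ^ k = y at hk hy
  have b1 := h.mem_fit hy.1.1 (cent_anti le_sup_left hy.2) fun K hK => by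
    obtain ⟨Zh, n, r, z⟩ := h.sz K _ hK (syl_comp hS hK)
    have b2 : y ∈ 𝐂(S ⊓ K) :=
      cent_anti ((inf_le_inf_left S hK.le_layerOf).trans le_sup_right) hy.2
    obtain ⟨u, hu, hu'⟩ := z.exZ
    refine z.oddAut y (comp_norm hK hy.1.1 (z.zle hu).2 ?_) hk fun v hv => ?_
    · rwa [← b2 u (z.zle hu), mul_inv_cancel_right]
    · rw [commutatorElement_eq_one_iff_mul_comm.2 (b2 v (z.zle hv)).symm]
      exact one_mem _
  obtain ⟨j, hj⟩ := pow_two_pow (H2.isPGroup_pCoreOf 2 X) b1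
  exact eq_one_of hj hk

theorem act_conj {K : Subgroup G} (hK : CompIn X K) (hA : ¬ A ≤ 𝐂(K)) {g : G} (hg : g ∈ X) :
    ¬ A ≤ 𝐂(K ^ᵍ g) := fun e => hA <| by
  have a1 : X ≤ 𝐍(sSup {J | CompIn X J ∧ A ≤ 𝐂(J)}) := by
    refine h.gen (H2.le_normalizer_sSup fun g hg J hJ => le_sSup ⟨comp_conj hJ.1 hg.1, ?_⟩)
      fun K hK hA => le_trans (cent_comm.1 (sSup_le fun J hJ => ?_)) (cent_le_norm _)
    · change A ≤ 𝐂(J ^ᵍ g)
      rw [← conj_eq_of_mem_norm hg.2]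
      exact conj_le_cent_iff.2 hJ.2
    · exact hJ.1.le_centralizer_of_ne hK fun e => hA (e ▸ hJ.2)
  have a2 := conj_le_of_mem_norm
    (le_sSup (s := {J | CompIn X J ∧ A ≤ 𝐂(J)}) ⟨comp_conj hK hg, e⟩) (inv_mem (a1 hg))
  rw [conj_conj_inv] at a2
  exact cent_comm.1 (a2.trans (sSup_le fun J hJ => cent_comm.1 hJ.2))

end Lo

end Cfsg.Agent.P14
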