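/-
P14, chapter B: blocks.
-/
import Cfsg.Agent.P14.B1
import Cfsg.Agent.H2.Extraspecial

set_option autoImplicit false
set_option linter.unusedSectionVars false

namespace Cfsg.Agent.P14

open Subgroup Cfsg Cfsg.Agent Cfsg.Agent.FT
open Cfsg.Agent.H2 (CompIn)
open scoped commutatorElement

universe u

variable {G : Type u} [Group G] [Finite G]

theorem exists_two {P D : Subgroup G} (hP : IsPGroup 2 P) (h : D < P) :
    ∃ B : Subgroup G, D ≤ B ∧ B ≤ P ∧ B.relIndex P = 2 := by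
  obtain ⟨k, hk⟩ := exists_card_eq_pow Nat.prime_two hP
  obtain ⟨n, hn⟩ := exists_card_eq_pow Nat.prime_two (hP.to_le h.le)
  have h1 : n < k := (Nat.pow_lt_pow_iff_right one_lt_two).1 (hk ▸ hn ▸ H1.card_lt_of_lt h)
  obtain ⟨k, rfl⟩ : ∃ j, k = j + 1 := ⟨k - 1, by omega⟩
  obtain ⟨K, h2, h3⟩ := Sylow.exists_subgroup_card_pow_prime_le 2 (m := k) (G := P)
    (hk ▸ pow_dvd_pow 2 k.le_succ) (D.subgroupOf P)
    ((Nat.card_congr (subgroupOfEquivOfLe h.le).toEquiv).trans hn) (by omega)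
  refine ⟨K.map P.subtype, (map_subgroupOf_eq_of_le h.le).ge.trans (map_mono h3),
    map_subtype_le K, ?_⟩
  have h4 := K.card_mul_index
  rw [h2, hk, pow_succ] at h4
  rw [relIndex, subgroupOf, comap_map_eq_self_of_injective P.subtype_injective]
  exact Nat.eq_of_mul_eq_mul_left (by positivity) h4

/-- The radical of an alternating form has even codimension. -/
theorem even_codim {T J : Subgroup G} (hT : IsPGroup 2 T) (hn : T ≤ 𝐍(J))
    (h2 : J.relIndex ⁅T, T⁆ ≤ 2) : ∃ m, (H1.commStab T J).relIndex T = 2 ^ (2 * m) := by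
  have := H1.normal_subgroupOf_of_le hn
  obtain ⟨m, hm⟩ := H2.exists_index_center_eq_of_card_commutator_le
    (hT.of_surjective _ (H1.qmk_surjective (Y := T) (N := J))) (by
      rw [_root_.commutator_def, ← H1.bar_top, ← H1.bar_commutator le_rfl le_rfl,
        H1.card_bar (der_le T)]
      exact h2)
  refine ⟨m, ?_⟩
  rw [← hm, ← index_comap_of_surjective _ (H1.qmk_surjective (Y := T) (N := J)), relIndex]
  congr 1
  ext x
  rw [mem_subgroupOf, mem_comap, ← centralizer_univ, ← coe_top, ← H1.bar_top,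
    H1.qmk_mem_centralizer_bar_iff le_rfl, H1.mem_commStab]
  exact ⟨fun h k hk => by simpa using inv_mem (h.2 k hk),
    fun h => ⟨hn x.2, fun k hk => by simpa using inv_mem (h k hk)⟩⟩

theorem SzT.der_le_zh {K T Zh : Subgroup G} {n r : ℕ} (h : SzT K T Zh n r) : ⁅T, T⁆ ≤ Zh :=
  commutator_le.2 fun x hx y hy => by
    have := mul_mem (mul_mem (h.sq _ (mul_mem hx hy))
      (h.sq _ (mul_mem (mul_mem (inv_mem hy) (inv_mem hx)) hy))) (inv_mem (h.sq y hy))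
    convert this using 1
    simp only [commutatorElement_def]; group

theorem SzT.eq_or {K T Zh C : Subgroup G} {n r : ℕ} (h : SzT K T Zh n r) (h1 : Zh ≤ C)
    (h3 : K ⊓ 𝐍(T) ≤ 𝐍(C)) : T ⊓ C ≤ Zh ∨ T ≤ C := by
  by_cases e : T ⊓ C ≤ Zh
  · exact Or.inl e
  obtain ⟨x, hx, hx'⟩ := SetLike.not_le_iff_exists.1 e
  refine Or.inr fun y hy => ?_
  by_cases e' : y ∈ Zh
  · exact h1 e'
  obtain ⟨d, hd, -, e⟩ := h.trT x hx.1 hx' y hy e'
  have := mul_mem (cjm (h3 hd) hx.2) (h1 e)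
  rwa [mul_inv_cancel_left] at this

/-- A block: `R = T W`, `A = T' × (A ∩ W)`. -/
structure Bk (R A T W : Subgroup G) : Prop where
  leT : T ≤ R
  leW : W ≤ R
  sup : R ≤ T ⊔ W
  com : T ≤ 𝐂(W)
  vle : ⁅T, T⁆ ≤ A
  disj : ⁅T, T⁆ ⊓ W = ⊥
  dec : A ≤ ⁅T, T⁆ ⊔ A ⊓ W
  big : 8 ≤ 𝐨(⁅T, T⁆)
  cp : ∀ X ≤ R, ∀ Y ≤ R, ⁅X, Y⁆ ≤ W → R ≤ X ⊔ Y ⊔ W → X ≤ A ⊔ W ∨ Y ≤ A ⊔ W

theorem Lo.bk {X A S K : Subgroup G} (h : Lo X A) (hS : IsSyl 2 S X) (hA : A ≤ S)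
    (nf : H2.NF S A) (hK : CompIn X K) (act : ¬ A ≤ 𝐂(K)) :
    Bk (S ⊓ 𝐂(A)) A (S ⊓ K) (S ⊓ 𝐂(A) ⊓ 𝐂(K)) := by
  obtain ⟨Zh, n, r, z⟩ := h.sz K _ hK (syl_comp hS hK)
  have nT := h.nT hA hK
  have nK := h.le_norm hK
  have TS : S ⊓ K ≤ S := inf_le_left
  have hT : ∀ x ∈ S, x ∈ K → x ∈ S ⊓ K := fun x a b => ⟨a, b⟩
  have nST : S ⊓ 𝐍(K) ≤ 𝐍(S ⊓ K) :=
    H1.le_normalizer_inf (inf_le_left.trans (le_norm_self S)) inf_le_right
  generalize S ⊓ K = T at z nT TS hT nST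
  have dec : ∀ a ∈ A, ∃ s ∈ Zh, ∃ c ∈ 𝐂(K), s * c = a := fun a ha =>
    z.dec2 (h.sq ha) (nK ha) (nT ha)
  have cj : ∀ d ∈ K, ∀ s, ∀ c ∈ 𝐂(K), d * (s * c) * d⁻¹ = d * s * d⁻¹ * c := fun d hd s c hc => by
    rw [mul_assoc (d * s), hc _ (inv_mem hd)]; group
  have a1 : K ⊓ 𝐍(T) ≤ 𝐍(A) := fun d hd => mem_norm_of_conj_le fun x hx => by
    obtain ⟨a, ha, rfl⟩ := mem_conj'.1 hx
    refine h.sc.scl hS.le hS.pgrp hA a ha d (hK.le hd.1) ?_
    obtain ⟨s, hs, c, hc, rfl⟩ := dec a ha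
    have := mul_mem (TS (cmr hd.2 (z.zle hs))) (hA ha)
    rwa [cj d hd.1 s c hc, ← inv_mul_cancel_left s c, ← mul_assoc]
  have a2 : Zh ≤ 𝐂(A) := cent_comm.1 fun a ha =>
    mem_cent_iff_cent1.2 (z.zh_cent (h.sq ha) (nK ha) (nT ha))
  have a3 : A ≤ Zh ⊔ 𝐂(K) := fun a ha => by
    obtain ⟨s, hs, c, hc, rfl⟩ := dec a ha
    exact mul_mem (mem_sup_left hs) (mem_sup_right hc)
  have nC : K ≤ 𝐍(𝐂(K)) := (le_norm_self K).trans norm_cent
  have a4 : T ≤ 𝐂(A) := by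
    refine (z.eq_or a2 (H1.le_normalizer_centralizer a1)).resolve_left fun e => ?_
    have b1 := nf T TS (z.der_le_zh.trans a2) fun x hx => a2 (by rw [pow_two]; exact z.sq x hx)
    have b2 : 𝐂(A).relIndex T = 2 ^ n := by
      rw [← inf_relIndex_left, le_antisymm e (le_inf z.zle a2), z.cardT]
    have b3 : 𝐂(T).relIndex A ≤ 2 ^ n := by
      refine (relIndex_le_of_le_left (cent_anti z.le) (H2.relIndex_pos _ _).ne').trans
        ((relIndex_le_of_le_right a3 (H2.relIndex_pos _ _).ne').trans ?_)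
      rw [H1.relIndex_sup_of_le_normalizer ((z.zle.trans z.le).trans nC), z.cardZ]
    have := z.one_lt
    rw [b2] at b1
    nlinarith
  have a5 : Zh ≤ A ⊔ 𝐂(K) := fun y hy => by
    by_cases e : y ∈ 𝐂(K)
    · exact mem_sup_right e
    obtain ⟨a, ha, ha'⟩ := SetLike.not_le_iff_exists.1 act
    obtain ⟨s, hs, c, hc, rfl⟩ := dec a ha
    obtain ⟨d, hd, -, e'⟩ := z.trZ s hs (fun e => ha' (mul_mem e hc)) y hy e
    have := mul_mem (mem_sup_left (T := 𝐂(K)) (cjm (a1 hd) ha))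
      (mem_sup_right (mul_mem (inv_mem hc) e'))
    rwa [cj d hd.1 s c hc, ← mul_assoc, mul_inv_cancel_right, mul_inv_cancel_left] at this
  have sT := z.syl.of_le (le_inf z.le (le_norm_self T)) (inf_le_left (b := 𝐍(T)))
  obtain ⟨D, d1, d2, -, d3⟩ := H1.exists_complement_of_coprime sT.le inf_le_right
    (H1.coprime_card_of_isPGroup sT.pgrp
      (Nat.coprime_two_right.2 (Nat.not_even_iff_odd.1 fun k => sT.ndvd k.two_dvd))).symm
  have cop : 𝐨(D).Coprime 𝐨(A) := H1.coprime_card_of_isPGroup h.pg (d3 ▸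
    Nat.coprime_two_right.2 (Nat.not_even_iff_odd.1 fun k => sT.ndvd k.two_dvd))
  have d4 := H1.centralizer_inf_commutator_eq_bot h.el.1 (d1.trans a1) cop
  have d5 := H1.commutator_sup_centralizer (d1.trans a1) cop
    (Or.inr (H1.isSolvable_of_isPGroup h.pg))
  have DK : D ≤ K := d1.trans inf_le_left
  have d6 : A ⊓ 𝐂(D) ≤ 𝐂(K) := fun a ha => by
    obtain ⟨s, hs, c, hc, rfl⟩ := dec a ha.1
    refine mul_mem ?_ hc
    by_contra e
    have : ¬ 𝐂(K).relIndex Zh ∣ 2 := fun e => by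
      have := Nat.le_of_dvd two_pos e
      have := Nat.pow_le_pow_right two_pos z.three
      have := z.cardZ
      omega
    refine this (relIndex_dvd_two_iff.2 ⟨s⁻¹, inv_mem hs, fun y hy => ?_⟩)
    by_cases e' : y ∈ 𝐂(K)
    · exact Or.inr e'
    obtain ⟨d, hd, -, e⟩ := z.trZ s hs e y hy e'
    have b1 : d ∈ 𝐂[s * c] := (d2.ge.trans (sup_le (mem_cent_iff_cent1.1 ha.2)
      (mem_cent_iff_cent1.1 (cent_comm.1 a4 ha.1)))) hd
    have b2 := mem_cent1_iff_conj.1 b1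
    rw [cj d hd.1 s c hc] at b2
    rw [mul_right_cancel b2] at e
    have := cjm (nC (z.le (z.zle hs))) e
    rw [mul_inv_cancel_left] at this
    exact Or.inl this
  have v1 : ⁅A, D⁆ ≤ A := comm_le_left_iff.2 (d1.trans a1)
  have v2 : ⁅A, D⁆ ≤ K := (commutator_mono nK DK).trans (comm_le_right_iff.2 le_rfl)
  have v3 : ⁅A, D⁆ ⊓ 𝐂(K) = ⊥ := eq_bot_iff.2 ((le_inf (inf_le_right.trans (cent_anti DK))
    inf_le_left).trans d4.le)
  have v4 : A ≤ ⁅A, D⁆ ⊔ A ⊓ 𝐂(K) := d5.ge.trans (sup_le_sup_left (le_inf inf_le_left d6) _)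
  have v5 : D ≤ 𝐍(⁅A, D⁆) := H1.le_normalizer_commutator_self
  have v6 : ⁅⁅A, D⁆, D⁆ ≤ ⁅A, D⁆ := commutator_mono v1 le_rfl
  generalize ⁅A, D⁆ = V at v1 v2 v3 v4 v5 v6
  have v7 : V ≤ Zh := fun v hv => (z.zh v).2 ⟨hT v (hA (v1 hv)) (v2 hv), by
    rw [h.sq (v1 hv)]; exact one_mem _⟩
  have v8 : Zh ≤ V ⊔ K ⊓ 𝐂(K) := by
    rw [inf_comm, ← sup_inf_of_le_left ((cent_anti v2).trans (cent_le_norm V)) v2]
    exact le_inf (a5.trans (sup_le (v4.trans (sup_le_sup_left inf_le_right _)) le_sup_right))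
      (z.zle.trans z.le)
  have v9 : Zh ≤ 𝐂(T) := v8.trans (sup_le (v1.trans (cent_comm.1 a4))
    (inf_le_right.trans (cent_anti z.le)))
  have w1 : ⁅T, T⁆ ≤ V := by
    by_contra e
    obtain ⟨J, j1, j2, j3⟩ := exists_two (z.syl.pgrp.to_le (sup_le z.der_le_zh v7 |>.trans z.zle))
      (right_lt_sup.2 e)
    have j4 : J ≤ Zh := j2.trans (sup_le z.der_le_zh v7)
    have j5 : T ≤ 𝐍(J) := (cent_comm.1 (j4.trans v9)).trans (cent_le_norm J)
    have j6 : D ≤ 𝐍(J) := by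
      refine comm_le_left_iff.1 (le_trans ?_ j1)
      rw [commutator_comm]
      refine (commutator_mono le_rfl (j4.trans v8)).trans (H1.commutator_sup_le (le_norm_self V)
        ((inf_le_right.trans (cent_anti v2)).trans (cent_le_norm V)) (commutator_comm V D ▸ v6) ?_)
      exact (comm_eq_bot_iff.2 (DK.trans (cent_comm.1 inf_le_right))).le.trans bot_le
    have j7 : K ⊓ 𝐍(T) ≤ 𝐍(J) := d2.ge.trans (sup_le j6 j5)
    obtain ⟨m, hm⟩ := even_codim z.syl.pgrp j5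
      (j3 ▸ relIndex_le_of_le_right le_sup_left (H2.relIndex_pos _ _).ne')
    have j8 : Zh ≤ H1.commStab T J := H1.le_commStab_iff.2 ⟨z.zle.trans j5,
      (comm_eq_bot_iff.2 (cent_comm.1 v9)).le.trans bot_le⟩
    rcases z.eq_or j8 (fun g hg => mem_norm_of_conj_le fun x hx => by
      obtain ⟨y, hy, rfl⟩ := mem_conj'.1 hx
      refine ⟨mul_mem (mul_mem (j7 hg) hy.1) (inv_mem (j7 hg)), fun u hu => ?_⟩
      have := cjm (j7 hg) (hy.2 _ (cjm (inv_mem hg.2) hu))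
      convert this using 1
      simp only [commutatorElement_def]; group) with e' | e'
    · rw [← inf_relIndex_left, le_antisymm e' (le_inf z.zle j8), z.cardT] at hm
      have := Nat.pow_right_injective le_rfl hm
      have := z.odd
      rw [Nat.odd_iff] at this
      omega
    · rw [relIndex_eq_one.2 (sup_le (H1.le_commStab_iff.1 e').2 j1)] at j3
      omega
  have nZ : K ⊓ 𝐂(K) ≤ 𝐍(⁅T, T⁆) :=
    inf_le_right.trans ((cent_anti ((der_le T).trans z.le)).trans (cent_le_norm _))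
  have w2 : V = ⁅T, T⁆ := le_antisymm (by
    have := sup_inf_of_le_left nZ w1
    rw [inf_eq_right.2 (v7.trans z.der), eq_bot_iff.2
      ((le_inf inf_le_right (inf_le_left.trans inf_le_right)).trans v3.le), sup_bot_eq] at this
    exact this.le) w1
  subst w2
  have AR : A ≤ S ⊓ 𝐂(A) := le_inf hA h.cc
  have r1 : ∀ x ∈ S ⊓ 𝐂(A), ∃ s ∈ T, ∃ c ∈ S ⊓ 𝐂(A) ⊓ 𝐂(K), s * c = x := fun x hx => by
    obtain ⟨u, hu, hu'⟩ := z.ex_der
    have b1 : x ∈ 𝐍(K) := comp_norm hK (hS.le hx.1) (v2 hu) (by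
      rwa [← hx.2 u (v1 hu), mul_inv_cancel_right])
    obtain ⟨k, hk⟩ := pow_two_pow hS.pgrp hx.1
    obtain ⟨s, hs, c, hc, rfl⟩ := z.dec hk b1 (nST ⟨hx.1, b1⟩)
    refine ⟨s, hs, c, ⟨?_, hc⟩, rfl⟩
    simpa using (S ⊓ 𝐂(A)).mul_mem (inv_mem (⟨TS hs, a4 hs⟩ : s ∈ S ⊓ 𝐂(A))) hx
  have TR : T ≤ S ⊓ 𝐂(A) := le_inf TS a4
  have r2 : S ⊓ 𝐂(A) ≤ T ⊔ S ⊓ 𝐂(A) ⊓ 𝐂(K) := fun x hx => by
    obtain ⟨s, hs, c, hc, rfl⟩ := r1 x hx
    exact mul_mem (mem_sup_left hs) (mem_sup_right hc)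
  have r3 : T ≤ 𝐂(S ⊓ 𝐂(A) ⊓ 𝐂(K)) := z.le.trans (cent_comm.1 inf_le_right)
  have r4 : S ⊓ 𝐂(A) ≤ 𝐍(S ⊓ 𝐂(A) ⊓ 𝐂(K)) :=
    r2.trans (sup_le (r3.trans (cent_le_norm _)) (le_norm_self _))
  refine ⟨TR, inf_le_left, r2, r3, v1, eq_bot_iff.2 ((inf_le_inf_left _ inf_le_right).trans v3.le),
    v4.trans (sup_le_sup_left (le_inf inf_le_left (inf_le_inf_right _ AR)) _), ?_,
    fun U hU Y hY e1 e2 => ?_⟩
  · refine (Nat.pow_le_pow_right two_pos z.three).trans (z.cardZ.ge.trans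
      ((relIndex_le_of_le_right (z.der.trans (sup_le_sup_left inf_le_right _))
        (H2.relIndex_pos _ _).ne').trans ?_))
    rw [H1.relIndex_sup_of_le_normalizer (v2.trans nC)]
    exact Nat.le_of_dvd Nat.card_pos (relIndex_dvd_card _ _)
  have WC : S ⊓ 𝐂(A) ⊓ 𝐂(K) ≤ 𝐂(K) := inf_le_right
  have WR : S ⊓ 𝐂(A) ⊓ 𝐂(K) ≤ S ⊓ 𝐂(A) := inf_le_left
  have dk : (A ⊔ 𝐂(K)) ⊓ (S ⊓ 𝐂(A)) = A ⊔ S ⊓ 𝐂(A) ⊓ 𝐂(K) := by
    rw [sup_comm, sup_inf_of_le_right (nK.trans norm_cent) AR, sup_comm, inf_comm]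
  generalize S ⊓ 𝐂(A) ⊓ 𝐂(K) = W at *
  generalize S ⊓ 𝐂(A) = R at *
  have k1 : ∀ U ≤ R, U ≤ T ⊓ (U ⊔ W) ⊔ W := fun U hU x hx => by
    obtain ⟨s, hs, c, hc, rfl⟩ := r1 x (hU hx)
    exact mul_mem (mem_sup_left ⟨hs, by
      simpa using mul_mem (mem_sup_left hx) (mem_sup_right (S := U) (inv_mem hc))⟩)
      (mem_sup_right hc)
  have k2 : ∀ U ≤ R, T ⊓ (U ⊔ W) ≤ Zh → U ≤ A ⊔ W := fun U hU e =>
    (k1 U hU).trans (sup_le (dk ▸ le_inf (e.trans a5) (inf_le_left.trans TR)) le_sup_right)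
  have k3 : ⁅U ⊔ W, Y ⊔ W⁆ ≤ W := by
    refine H1.commutator_sup_le (hY.trans r4) (le_norm_self W) ?_
      (comm_le_right_iff.2 ((sup_le hU WR).trans r4))
    rw [commutator_comm]
    exact H1.commutator_sup_le (hU.trans r4) (le_norm_self W) (commutator_comm U Y ▸ e1)
      (comm_le_right_iff.2 (hY.trans r4))
  exact (z.cp _ inf_le_left _ inf_le_left
    ((commutator_mono inf_le_right inf_le_right).trans (k3.trans WC))
    ((TR.trans e2).trans (sup_le (sup_le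
      ((k1 U hU).trans (sup_le_sup le_sup_left WC)) ((k1 Y hY).trans (sup_le_sup le_sup_right WC)))
      (WC.trans le_sup_right)))).imp (k2 U hU) (k2 Y hY)

end Cfsg.Agent.P14
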