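/-
P14, chapter B: the combinatorics of blocks.
-/
import Cfsg.Agent.P14.B2
import Cfsg.Agent.H7.SC5
import Cfsg.Agent.L.Invol

set_option autoImplicit false
set_option linter.unusedSectionVars false

namespace Cfsg.Agent.P14

open Subgroup Cfsg Cfsg.Agent Cfsg.Agent.FT
open scoped commutatorElement

universe u

variable {G : Type u} [Group G] [Finite G]

theorem bk_map {H : Type u} [Group H] [Finite H] {f : G →* H} (hf : Function.Injective f)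
    {R A T W : Subgroup G} : Bk (R.map f) (A.map f) (T.map f) (W.map f) ↔ Bk R A T W := by
  have e : ∀ {X Y : Subgroup G}, X.map f ≤ Y.map f ↔ X ≤ Y := map_le_map_iff_of_injective hf
  have e1 : T.map f ≤ 𝐂(W.map f) ↔ T ≤ 𝐂(W) := by
    rw [← comm_eq_bot_iff, ← comm_eq_bot_iff, ← map_commutator, map_eq_bot_iff_of_injective _ hf]
  have e2 : 𝐨(⁅T.map f, T.map f⁆) = 𝐨(⁅T, T⁆) := by
    rw [← map_commutator, card_map_of_injective hf]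
  have e3 : ⁅T.map f, T.map f⁆ ⊓ W.map f = ⊥ ↔ ⁅T, T⁆ ⊓ W = ⊥ := by
    rw [← map_commutator, ← map_inf _ _ _ hf, map_eq_bot_iff_of_injective _ hf]
  have e4 : A.map f ≤ ⁅T.map f, T.map f⁆ ⊔ A.map f ⊓ W.map f ↔ A ≤ ⁅T, T⁆ ⊔ A ⊓ W := by
    rw [← map_commutator, ← map_inf _ _ _ hf, ← Subgroup.map_sup, e]
  refine ⟨fun h => ⟨e.1 h.leT, e.1 h.leW, e.1 (Subgroup.map_sup T W f ▸ h.sup), e1.1 h.com,
    e.1 (map_commutator T T f ▸ h.vle), e3.1 h.disj, e4.1 h.dec, e2 ▸ h.big, fun X a Y b c d => ?_⟩,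
    fun h => ⟨e.2 h.leT, e.2 h.leW, Subgroup.map_sup T W f ▸ e.2 h.sup, e1.2 h.com,
    map_commutator T T f ▸ e.2 h.vle, e3.2 h.disj, e4.2 h.dec, e2 ▸ h.big, fun X a Y b c d => ?_⟩⟩
  · have := h.cp _ (e.2 a) _ (e.2 b) (map_commutator X Y f ▸ e.2 c)
      (by rw [← Subgroup.map_sup, ← Subgroup.map_sup]; exact e.2 d)
    rwa [← Subgroup.map_sup, e, e] at this
  obtain ⟨X, rfl⟩ : ∃ X', X = map f X' :=
    ⟨_, (map_comap_eq_self (a.trans (map_le_range f R))).symm⟩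
  obtain ⟨Y, rfl⟩ : ∃ Y', Y = map f Y' :=
    ⟨_, (map_comap_eq_self (b.trans (map_le_range f R))).symm⟩
  rw [← map_commutator, e] at c
  rw [← Subgroup.map_sup, ← Subgroup.map_sup, e] at d
  rw [← Subgroup.map_sup, e, e]
  exact h.cp _ (e.1 a) _ (e.1 b) c d

namespace Bk

variable {R A T W T' W' : Subgroup G} (b : Bk R A T W)
include b

theorem conj {g : G} (h1 : g ∈ 𝐍(R)) (h2 : g ∈ 𝐍(A)) : Bk R A (T ^ᵍ g) (W ^ᵍ g) := by
  have := (bk_map (conj_injective g)).2 b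
  rwa [conj_eq_of_mem_norm h1, conj_eq_of_mem_norm h2] at this

theorem ne : ⁅T, T⁆ ≠ ⊥ := fun e => by
  have := b.big
  rw [e, card_bot] at this
  omega

theorem not_le : ¬ ⁅T, T⁆ ≤ W := fun e => b.ne (inf_eq_left.2 e ▸ b.disj)

theorem der_le (hA : A ≤ R) (hc : R ≤ 𝐂(A)) {U : Subgroup G} (h : U ≤ A ⊔ W) : ⁅U, U⁆ ≤ W := by
  have a1 : A ≤ 𝐍(W) := (cent_comm.1 (b.leW.trans hc)).trans (cent_le_norm W)
  have a2 : ∀ Y ≤ R, ⁅Y, A⁆ ≤ W := fun Y hY =>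
    (comm_eq_bot_iff.2 (hY.trans hc)).le.trans bot_le
  refine (commutator_mono h h).trans (H1.commutator_sup_le a1 (le_norm_self W)
    (a2 _ (sup_le hA b.leW)) (comm_le_right_iff.2 (sup_le a1 (le_norm_self W))))

theorem v_le (b' : Bk R A T' W') (hc : R ≤ 𝐂(A)) (h : T ≤ 𝐂(W')) : ⁅T, T⁆ ≤ ⁅T', T'⁆ := by
  have a1 : R ≤ 𝐍(⁅T', T'⁆) := (hc.trans (cent_anti b'.vle)).trans (cent_le_norm _)
  refine (commutator_mono le_rfl (b.leT.trans b'.sup)).trans (H1.commutator_sup_le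
    (b'.leT.trans a1) (b'.leW.trans a1) ?_ ((comm_eq_bot_iff.2 h).le.trans bot_le))
  rw [commutator_comm]
  exact (commutator_mono le_rfl (b.leT.trans b'.sup)).trans (H1.commutator_sup_le
    (b'.leT.trans a1) (b'.leW.trans a1) le_rfl ((comm_eq_bot_iff.2 b'.com).le.trans bot_le))

theorem dich (b' : Bk R A T' W') (hA : A ≤ R) (hc : R ≤ 𝐂(A)) :
    ⁅T, T⁆ = ⁅T', T'⁆ ∨ ⁅T, T⁆ ≤ W' := by
  rcases b'.cp T b.leT W b.leW ((comm_eq_bot_iff.2 b.com).le.trans bot_le)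
    (b.sup.trans le_sup_left) with e | e
  · exact Or.inr (b'.der_le hA hc e)
  rcases b.cp T' b'.leT W' b'.leW ((comm_eq_bot_iff.2 b'.com).le.trans bot_le)
    (b'.sup.trans le_sup_left) with e' | e'
  · exact absurd (b'.der_le hA hc (e'.trans (sup_le le_sup_left e))) b'.not_le
  refine Or.inl (le_antisymm (b.v_le b' hc (le_trans ?_ (cent_anti e')))
    (b'.v_le b hc (le_trans ?_ (cent_anti e))))
  · exact cent_comm.1 (sup_le (cent_comm.1 (b.leT.trans hc)) (cent_comm.1 b.com))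
  · exact cent_comm.1 (sup_le (cent_comm.1 (b'.leT.trans hc)) (cent_comm.1 b'.com))

end Bk

/-- The global situation. -/
structure Gl (A S : Subgroup G) : Prop where
  z : ZStmt.{u}
  sim : IsSimpleGroup G
  nc : ¬ IsMulCommutative G
  n3 : ¬ 3 ∣ Nat.card G
  kh : KH.{u} (Nat.card G)
  el : IsElementaryAbelian 2 A
  ne : A ≠ ⊥
  sc : SC ⊤ A
  irr : ∀ U ≤ A, 𝐍(A) ≤ 𝐍(U) → U = ⊥ ∨ U = A
  nf : ∀ B ≤ 𝐍(A), IsPGroup 2 B → H2.NF B A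
  syl : IsSyl 2 S ⊤
  le : A ≤ S

/-- The derived groups of the blocks. -/
def VS (A S : Subgroup G) : Set (Subgroup G) := {V | ∃ T W, Bk (S ⊓ 𝐂(A)) A T W ∧ ⁅T, T⁆ = V}

theorem dih {t u : G} (ht : t * t = 1) (hu : u * u = 1) (k : ℕ) :
    ∃ x : G, t * (t * u) ^ k = x * t * x⁻¹ ∨ t * (t * u) ^ k = x * u * x⁻¹ := by
  obtain ⟨j, rfl | rfl⟩ := Nat.even_or_odd' k
  · refine ⟨((t * u) ^ j)⁻¹, Or.inl ?_⟩
    rw [inv_inv, ← L.invol_conj_pow ht hu, two_mul, pow_add, mul_assoc _ t t, ht]; group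
  · refine ⟨((t * u) ^ j)⁻¹, Or.inr ?_⟩
    rw [inv_inv, ← L.invol_conj_pow ht hu, show 2 * j + 1 = j + 1 + j by ring, pow_add, pow_succ]
    simp only [mul_assoc]

namespace Gl

variable {A S : Subgroup G} (h : Gl A S)
include h

theorem pg : IsPGroup 2 A := elemAb_isPGroup h.el

theorem sq {a : G} (ha : a ∈ A) : a * a = 1 := by rw [← pow_two]; exact h.el.2 a ha

theorem cc : A ≤ 𝐂(A) := isMulComm_iff_le_cent.1 h.el.1

theorem nrm : S ≤ 𝐍(A) := h.sc.le_norm le_top h.syl.pgrp h.le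

theorem scl : SCl ⊤ S A := h.sc.scl le_top h.syl.pgrp h.le

theorem elt {t g : G} (ht : t ∈ S) (e : g * t * g⁻¹ ∈ S) :
    ∃ m ∈ 𝐍(A), g * t * g⁻¹ = m * t * m⁻¹ :=
  ((h.scl.ctrl h.syl h.le h.cc).elt ht (mem_top g) e).imp fun _ a => ⟨a.1.2, a.2⟩

theorem norm_ne {U : Subgroup G} (h1 : U ≠ ⊥) (h2 : U ≠ ⊤) : 𝐍(U) ≠ ⊤ := fun e =>
  (h.sim.eq_bot_or_eq_top_of_normal U (normal_iff_top_le.2 e.ge)).elim h1 h2

theorem cent_ne {a : G} (h1 : a ≠ 1) : 𝐂[a] ≠ ⊤ := fun e =>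
  h.norm_ne (zpowers_ne_bot.2 h1) (fun e' => h.nc ⟨⟨fun x y => by
    obtain ⟨m, rfl⟩ := e'.ge (mem_top x)
    exact Commute.zpow_left (mem_cent1.1 (e.ge (mem_top y))) m⟩⟩)
    (top_le_iff.1 (e.ge.trans ((cent_zpowers a).ge.trans (cent_le_norm _))))

theorem sylR : IsSyl 2 (S ⊓ 𝐂(A)) 𝐂(A) :=
  (h.syl.of_le h.nrm le_top).inf_normal Nat.prime_two ⟨cent_le_norm A, norm_cent⟩

theorem leR : A ≤ S ⊓ 𝐂(A) := le_inf h.le h.cc

theorem vs_conj {V : Subgroup G} (hV : V ∈ VS A S) {g : G} (hg : g ∈ 𝐍(A)) : V ^ᵍ g ∈ VS A S := by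
  obtain ⟨T, W, b, rfl⟩ := hV
  rw [← h.sylR.frattini Nat.prime_two ⟨cent_le_norm A, norm_cent⟩] at hg
  obtain ⟨c, hc, m, hm, rfl⟩ := (mem_sup_of_norm (inf_le_left.trans norm_cent)).1 hg
  have b' := b.conj hm.2 hm.1
  refine ⟨_, _, b', ?_⟩
  rw [← conj_conj, conj_comm, conj_eq_of_mem_norm (cent_le_norm _ (cent_anti b'.vle hc))]

variable {T W T' W' : Subgroup G} (b : Bk (S ⊓ 𝐂(A)) A T W)
include b

theorem inf_eq : A ⊓ W = sSup {V | V ∈ VS A S ∧ V ≠ ⁅T, T⁆} := by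
  have a1 : ∀ {s : Set (Subgroup G)}, s ⊆ VS A S → sSup s ≤ A := fun hs =>
    sSup_le fun V hV => by obtain ⟨T, W, b, rfl⟩ := hs hV; exact b.vle
  have a2 := (h.irr _ (a1 le_rfl) (H2.le_normalizer_sSup fun g hg V hV =>
    le_sSup (h.vs_conj hV hg))).resolve_left fun e => b.ne (eq_bot_iff.2
      ((le_sSup (s := VS A S) ⟨T, W, b, rfl⟩).trans e.le))
  have a3 : sSup {V | V ∈ VS A S ∧ V ≠ ⁅T, T⁆} ≤ W := sSup_le fun V hV => by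
    obtain ⟨⟨T', W', b', rfl⟩, e⟩ := hV
    exact (b'.dich b h.leR inf_le_right).resolve_left e
  have a4 := a1 (s := {V | V ∈ VS A S ∧ V ≠ ⁅T, T⁆}) fun _ a => a.1
  refine le_antisymm ?_ (le_inf a4 a3)
  have a5 := sup_inf_of_le_right (A := ⁅T, T⁆)
    ((a4.trans h.cc).trans ((cent_anti b.vle).trans (cent_le_norm _))) a3
  rw [b.disj, bot_sup_eq] at a5
  refine (inf_le_inf_right W (a2.ge.trans (sSup_le fun V hV => ?_))).trans a5.le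
  by_cases e : V = ⁅T, T⁆
  · exact e.le.trans le_sup_left
  · exact (le_sSup (s := {V | V ∈ VS A S ∧ V ≠ ⁅T, T⁆}) ⟨hV, e⟩).trans le_sup_right

theorem inf_eq_inf (b' : Bk (S ⊓ 𝐂(A)) A T' W') (e : ⁅T, T⁆ = ⁅T', T'⁆) : A ⊓ W = A ⊓ W' := by
  rw [h.inf_eq b, h.inf_eq b', e]

theorem ex_other (h0 : A ⊓ W ≠ ⊥) :
    ∃ T' W', Bk (S ⊓ 𝐂(A)) A T' W' ∧ ⁅T', T'⁆ ≠ ⁅T, T⁆ := by
  by_contra e
  push Not at e
  refine h0 (eq_bot_iff.2 ((h.inf_eq b).le.trans (sSup_le fun V hV => ?_)))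
  obtain ⟨⟨T', W', b', rfl⟩, e'⟩ := hV
  exact absurd (e _ _ b') e'

theorem eight_le (h0 : A ⊓ W ≠ ⊥) : 8 ≤ 𝐨(A ⊓ W) := by
  obtain ⟨T', W', b', e⟩ := h.ex_other b h0
  exact b'.big.trans (card_le_of_le
    (le_inf b'.vle ((b'.dich b h.leR inf_le_right).resolve_left e)))

theorem not_one (h0 : A ⊓ W ≠ ⊥) :
    ¬ ∀ x ∈ A, x ≠ 1 → ∀ y ∈ A, y ≠ 1 → ∃ g ∈ 𝐍(A), g * x * g⁻¹ = y := fun e => by
  obtain ⟨T', W', b', e'⟩ := h.ex_other b h0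
  have a1 := (b'.dich b h.leR inf_le_right).resolve_left e'
  obtain ⟨⟨x, hx⟩, x1⟩ := ne_bot_iff_exists_ne_one.1 b.ne
  obtain ⟨⟨y, hy⟩, y1⟩ := ne_bot_iff_exists_ne_one.1 b'.ne
  have x2 : x ∉ W := fun a => x1 (Subtype.ext (b.disj.le ⟨hx, a⟩))
  obtain ⟨g, hg, a2⟩ := e x (b.vle hx) (fun a => x1 (Subtype.ext a)) (x * y)
    (mul_mem (b.vle hx) (b'.vle hy)) fun a => x2 (by
      rw [eq_inv_of_mul_eq_one_left a]; exact inv_mem (a1 hy))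
  obtain ⟨T3, W3, b3, e3⟩ := h.vs_conj ⟨T, W, b, rfl⟩ hg
  have a3 : x * y ∈ ⁅T3, T3⁆ := by rw [e3, ← a2]; exact conj_mem_conj hx g
  rcases b3.dich b h.leR inf_le_right with a4 | a4
  · exact y1 (Subtype.ext (b.disj.le ⟨(mul_mem_cancel_left hx).1 (a4 ▸ a3), a1 hy⟩))
  · exact x2 ((mul_mem_cancel_right (a1 hy)).1 (a4 a3))

theorem third (b' : Bk (S ⊓ 𝐂(A)) A T' W') (h0 : A ⊓ W ≠ ⊥) : A ⊓ W ⊓ W' ≠ ⊥ := by
  by_cases e : ⁅T, T⁆ = ⁅T', T'⁆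
  · rwa [inf_eq_left.2 ((h.inf_eq_inf b b' e).le.trans inf_le_right)]
  intro h1
  have a1 : ∀ V ∈ VS A S, V = ⁅T, T⁆ ∨ V = ⁅T', T'⁆ := by
    rintro _ ⟨T3, W3, b3, rfl⟩
    by_contra e3
    push Not at e3
    exact b3.ne (eq_bot_iff.2 ((le_inf (le_inf b3.vle
      ((b3.dich b h.leR inf_le_right).resolve_left e3.1))
      ((b3.dich b' h.leR inf_le_right).resolve_left e3.2)).trans h1.le))
  have a2 : ∀ x ∈ 𝐍(A), x ∉ 𝐍(A) ⊓ 𝐍(⁅T, T⁆) → ⁅T, T⁆ ^ᵍ x = ⁅T', T'⁆ := fun x hx hn =>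
    (a1 _ (h.vs_conj ⟨T, W, b, rfl⟩ hx)).resolve_left fun e => hn ⟨hx, conj_eq_self_iff.1 e⟩
  have a3 : ∀ x ∈ 𝐍(A), x ∉ 𝐍(A) ⊓ 𝐍(⁅T, T⁆) → ∀ y ∈ 𝐍(A), y ∉ 𝐍(A) ⊓ 𝐍(⁅T, T⁆) →
      x * y ∈ 𝐍(A) ⊓ 𝐍(⁅T, T⁆) := fun x hx x1 y hy y1 =>
    ⟨mul_mem hx hy, conj_eq_self_iff.1 (by
      rw [← conj_conj, a2 y hy y1]
      exact (a1 _ (h.vs_conj ⟨T', W', b', rfl⟩ hx)).resolve_right fun e' =>
        e (conj_inj.1 ((a2 x hx x1).trans e'.symm)))⟩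
  have a0 : 𝐍(A) ⊓ 𝐍(⁅T, T⁆) ≤ 𝐍(⁅T, T⁆) := inf_le_right
  have a1 : 𝐍(A) ⊓ 𝐍(⁅T, T⁆) ≤ 𝐍(A) := inf_le_left
  generalize 𝐍(A) ⊓ 𝐍(⁅T, T⁆) = M at a0 a1 a3
  have a4 : 𝐍(A) ≤ 𝐍(M) := fun m hm => mem_norm_of_conj_le fun x hx => by
    obtain ⟨y, hy, rfl⟩ := mem_conj'.1 hx
    by_cases e : m ∈ M
    · exact mul_mem (mul_mem e hy) (inv_mem e)
    · exact a3 _ (mul_mem hm (a1 hy)) (by rwa [mul_mem_cancel_right hy]) _ (inv_mem hm)
        (by rwa [inv_mem_iff])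
  have a5 := focal_le Nat.prime_two h.syl (K := M) fun x hx g _ hg => by
    obtain ⟨m, hm, e⟩ := h.elt hx hg
    rw [e]
    by_cases hx' : x ∈ M
    · exact mul_mem (inv_mem hx') (cjm (a4 hm) hx')
    · exact a3 _ (inv_mem (h.nrm hx)) (by simpa using hx') _ (e ▸ h.nrm hg)
        fun a => hx' ((mem_normalizer_iff.1 (a4 hm) x).2 a)
  rw [(h.sim.eq_bot_or_eq_top_of_normal ⁅(⊤ : Subgroup G), ⊤⁆ inferInstance).resolve_left
    fun e => h.nc ⟨⟨fun x y => (comm_eq_bot_iff.1 e (mem_top y) x trivial)⟩⟩, inf_top_eq] at a5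
  have a6 := H7.SC.le_of_syl_le a4 (h.syl.of_le h.nrm le_top) a5 fun k hk => ⟨1, by
    rw [pow_one, pow_two]
    by_cases e : k ∈ M
    · exact mul_mem e e
    · exact a3 k hk e k hk e⟩
  rcases h.irr _ b.vle (a6.trans a0) with a7 | a7
  · exact b.ne a7
  · exact h0 (a7 ▸ b.disj)

omit b

theorem mem_of_conj {M : Subgroup G} (h1 : 𝐍(A) ≤ M) (h2 : ∀ a ∈ A, a ≠ 1 → 𝐂[a] ≤ M) {a g : G}
    (ha : a ∈ A) (a1 : a ≠ 1) (hg : g * a * g⁻¹ ∈ M) : g ∈ M := by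
  obtain ⟨m, hm, e⟩ := (h.syl.of_le (h.nrm.trans h1) le_top).exists_conj_le Nat.prime_two
    (two_zp (k := 1) (x := g * a * g⁻¹) (by rw [conj_pow, pow_one, h.el.2 a ha]; group))
    (zpowers_le.2 hg)
  obtain ⟨n, hn, e'⟩ := h.elt (g := m * g) (h.le ha) (by
    have := e (conj_mem_conj (mem_zpowers _) m)
    convert this using 1; group)
  have : n⁻¹ * (m * g) ∈ M := h2 a ha a1 (mem_cent1_iff_conj.2 (by
    calc _ = n⁻¹ * (m * g * a * (m * g)⁻¹) * n := by group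
      _ = _ := by rw [e']; group))
  exact (mul_mem_cancel_left hm).1 ((mul_mem_cancel_left (inv_mem (h1 hn))).1 this)

theorem one_class {M : Subgroup G} (h0 : M ≠ ⊤) (h1 : 𝐍(A) ≤ M) (h2 : ∀ a ∈ A, a ≠ 1 → 𝐂[a] ≤ M) :
    ∀ x ∈ A, x ≠ 1 → ∀ y ∈ A, y ≠ 1 → ∃ g ∈ 𝐍(A), g * x * g⁻¹ = y := by
  intro a ha a1 y hy y1
  obtain ⟨g, -, hg⟩ := SetLike.not_le_iff_exists.1 (mt top_le_iff.1 h0)
  have u1 : g * y * g⁻¹ * (g * y * g⁻¹) = 1 := by rw [conj_mul, h.sq hy]; group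
  have u2 : g * y * g⁻¹ ∉ M := fun e => hg (h.mem_of_conj h1 h2 hy y1 e)
  rcases Nat.even_or_odd (orderOf (a * (g * y * g⁻¹))) with e | e
  · obtain ⟨k, k1, k2, k3, k4⟩ := L.exists_invol_commute_of_even (h.sq ha) u1 e
    have k5 : ∃ x : G, ∃ z ∈ A, a * (a * (g * y * g⁻¹)) ^ k = x * z * x⁻¹ := by
      obtain ⟨x, e | e⟩ := dih (h.sq ha) u1 k
      · exact ⟨x, a, ha, e⟩
      · exact ⟨x * g, y, hy, by rw [e]; group⟩
    generalize (a * (g * y * g⁻¹)) ^ k = c at *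
    obtain ⟨x, z, hz, k5⟩ := k5
    obtain ⟨w, -, hw⟩ := h.syl.exists_conj_le Nat.prime_two (Q := zpowers a ⊔ zpowers c)
      (elemAb_isPGroup (elemAb_sup (elemAb_zpowers (h.el.2 a ha)) (elemAb_zpowers (by rwa [pow_two]))
        (zpowers_le.2 (by rw [cent_zpowers]; exact mem_cent1.2 k3.symm)))) le_top
    have w1 := h.scl a ha w trivial (hw (conj_mem_conj (mem_sup_left (mem_zpowers a)) w))
    have w2 := h.scl z hz (w * x) trivial (by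
      have := hw (conj_mem_conj (mul_mem (mem_sup_left (mem_zpowers a))
        (mem_sup_right (mem_zpowers c))) w)
      rw [k5] at this
      convert this using 1; group)
    have w3 : w * c * w⁻¹ ∈ A := by
      have := mul_mem (inv_mem w1) w2
      rwa [show w * x * z * (w * x)⁻¹ = w * (x * z * x⁻¹) * w⁻¹ by group, ← k5, ← conj_mul,
        inv_mul_cancel_left] at this
    have w4 := h2 _ w3 (by simpa using k1)
    rw [cent1_conj, conj_le_iff, conj_eq_of_mem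
      (inv_mem (h.mem_of_conj h1 h2 ha a1 (h1 (le_normalizer w1))))] at w4
    exact absurd (w4 (mem_cent1.2 k4)) u2
  · obtain ⟨k, k1, k2⟩ := L.exists_invol_conj_of_odd (h.sq ha) u1 e
    generalize a * (a * (g * y * g⁻¹)) ^ k = c at *
    have : g⁻¹ * c * a * (g⁻¹ * c)⁻¹ = y := by
      rw [mul_inv_rev, inv_eq_of_mul_eq_one_right k1]
      calc _ = g⁻¹ * (c * a * c) * g := by group
        _ = _ := by rw [k2]; group
    obtain ⟨m, hm, e⟩ := h.elt (g := g⁻¹ * c) (h.le ha) (this ▸ h.le hy)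
    exact ⟨m, hm, e ▸ this⟩

end Gl

end Cfsg.Agent.P14
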