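/-
P14, chapter B: centralizers of elements of `A`.
-/
import Cfsg.Agent.P14.B3

set_option autoImplicit false
set_option linter.unusedSectionVars false

namespace Cfsg.Agent.P14

open Subgroup Cfsg Cfsg.Agent Cfsg.Agent.FT
open Cfsg.Agent.H2 (CompIn)
open Cfsg.Agent.H2.ZC (oc wc oc_le oc_cop le_norm_oc le_wc wc_le wc_mono wc_conj)
open Cfsg.Agent.H7.SC (od br od_le od_inf)
open scoped commutatorElement

universe u

variable {G : Type u} [Group G] [Finite G]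

theorem sz_of (hZ : ZStmt.{u}) {X : Subgroup G} (h0 : od X = ⊥) (h3 : ¬ 3 ∣ 𝐨(X))
    (kh : KH.{u} (𝐨(X) + 1)) (K T : Subgroup G) (hK : CompIn X K) (hT : IsSyl 2 T K) :
    ∃ Zh n r, SzT K T Zh n r :=
  hZ G K T hK.2 ((H2.isPGroup_pCoreOf 2 X).to_le (hK.inf_centralizer_le_fittingOf.trans
    (fittingOf_eq_pCoreOf Nat.prime_two h0).le)) (fun e => h3 (e.trans (FT.card_dvd_of_le hK.le)))
    (kh.mono (Nat.succ_le_succ ((Nat.le_of_dvd Nat.card_pos (relIndex_dvd_card _ _)).trans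
      (card_le_of_le hK.le)))) hT

theorem bk_pull {X R A : Subgroup G} (hR : IsPGroup 2 R) (hX : R ≤ X) (hA : A ≤ R)
    {T W : Subgroup (X ⧸ (od X).subgroupOf X)} (b : Bk (br X R) (br X A) T W) :
    ∃ T' W', Bk R A T' W' ∧ br X W' ≤ W ∧
      ∀ x : X, (x : G) ∈ R → H1.qmk X (od X) x ∈ W → (x : G) ∈ W' := by
  let φ : R →* X ⧸ (od X).subgroupOf X := (H1.qmk X (od X)).comp (inclusion hX)
  have hφ : Function.Injective φ := (injective_iff_map_eq_one φ).2 fun x hx =>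
    Subtype.ext ((od_inf hR).le ⟨(H1.qmk_eq_one_iff (y := inclusion hX x)).1 hx, x.2⟩)
  have e : ∀ U ≤ R, br X U = (U.subgroupOf R).map φ := fun U hU => by
    ext z
    exact ⟨fun ⟨y, hy, e⟩ => ⟨⟨y, hU hy⟩, hy, e⟩, fun ⟨y, hy, e⟩ => ⟨inclusion hX y, hy, e⟩⟩
  have e' : ∀ U ≤ br X R, (U.comap φ).map φ = U := fun U hU =>
    map_comap_eq_self (hU.trans ((e R le_rfl).le.trans (map_le_range _ _)))
  have b1 := b
  rw [← e' T b.leT, ← e' W b.leW, e R le_rfl, e A hA, bk_map hφ, ← bk_map R.subtype_injective,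
    map_subgroupOf_eq_of_le le_rfl, map_subgroupOf_eq_of_le hA] at b1
  refine ⟨_, _, b1, ?_, fun x hx hW => ⟨⟨x, hx⟩, hW, rfl⟩⟩
  rintro _ ⟨y, ⟨z, hz, e⟩, rfl⟩
  rwa [show y = inclusion hX z from Subtype.ext e.symm]

namespace Gl

variable {A S : Subgroup G} (h : Gl A S)
include h

theorem card_lt {X : Subgroup G} (hX : X ≠ ⊤) : 𝐨(X) + 1 ≤ Nat.card G :=
  (H1.card_lt_of_lt (lt_top_iff_ne_top.2 hX)).trans_eq card_top

theorem lo' {X : Subgroup G} (hX : X ≠ ⊤) (hA : A ≤ X) (h0 : od X = ⊥) : Lo X A :=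
  ⟨h0, h.el, hA, h.sc.mono le_top, sz_of h.z h0
    (fun e => h.n3 (e.trans (card_subgroup_dvd_card X))) (h.kh.mono (h.card_lt hX))⟩

theorem lo {X : Subgroup G} (hX : X ≠ ⊤) (hA : A ≤ X) : Lo ⊤ (br X A) := by
  have a1 : 𝐨((⊤ : Subgroup (X ⧸ (od X).subgroupOf X))) ∣ 𝐨(X) :=
    H1.bar_top (Y := X) (N := od X) ▸ H1.card_bar_dvd X
  refine ⟨H7.SC.od_br X, H7.SC.elemAb_br hA h.el, le_top, ?_, sz_of h.z (H7.SC.od_br X)
    (fun e => h.n3 ((e.trans a1).trans (card_subgroup_dvd_card X)))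
    (h.kh.mono ((Nat.succ_le_succ (Nat.le_of_dvd Nat.card_pos a1)).trans (h.card_lt hX)))⟩
  obtain ⟨P, hP, hAP⟩ := exists_isSyl_ge Nat.prime_two h.pg hA
  refine SCl.sc ?_ (H7.SC.isSyl_br hP) (H1.bar_mono hAP)
  rintro _ ⟨a, ha, rfl⟩ g - e
  obtain ⟨g, rfl⟩ := H1.qmk_surjective g
  rw [← map_inv, ← map_mul, ← map_mul] at e ⊢
  rw [H1.qmk_mem_bar_iff (od_le X) hP.le] at e
  rw [H1.qmk_mem_bar_iff (od_le X) hA]
  obtain ⟨k, hk, e'⟩ := (H7.SC.isSyl_sup_od hP.le hP.pgrp).exists_conj_le Nat.prime_two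
    (two_zp (k := 1) (x := (g : G) * a * (g : G)⁻¹) (by
      rw [conj_pow, pow_one, h.el.2 a ha]; group)) (zpowers_le.2 e)
  have a2 := h.sc P le_top hP.pgrp hAP a ha (k * g) trivial (by
    have := e' (conj_mem_conj (mem_zpowers _) k)
    convert this using 1; group)
  have a3 : P ⊔ od X ≤ 𝐍(A ⊔ od X) := sup_le (H1.le_normalizer_sup
    (h.sc.le_norm le_top hP.pgrp hAP) (hP.le.trans (H7.SC.le_norm_od X)))
    (le_sup_right.trans (le_norm_self _))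
  have := cjm (inv_mem (a3 hk)) (mem_sup_left a2)
  convert this using 1
  push_cast; group

theorem le_cent {a : G} (ha : a ∈ A) : A ≤ 𝐂[a] := h.cc.trans (cent_le_cent1 ha)

theorem sylX {a : G} (ha : a ∈ A) :
    ∃ P, IsSyl 2 P 𝐂[a] ∧ A ≤ P ∧ P ⊓ 𝐂(A) = S ⊓ 𝐂(A) ∧ H2.NF P A := by
  obtain ⟨P, hP, e⟩ := exists_isSyl_ge Nat.prime_two h.sylR.pgrp
    (inf_le_right.trans (cent_le_cent1 ha))
  exact ⟨P, hP, h.leR.trans e, h.sylR.eq_of_le Nat.prime_two (le_inf e inf_le_right) inf_le_right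
    (hP.pgrp.to_le inf_le_left), h.nf P (h.sc.le_norm le_top hP.pgrp (h.leR.trans e)) hP.pgrp⟩

theorem bal {a b : G} (ha : a ∈ A) (hb : b ∈ A) (b1 : b ≠ 1) : oc a ⊓ 𝐂[b] ≤ oc b := by
  have a1 := h.le_cent hb ha
  have a2 : 𝐂[H1.qmk 𝐂[b] (od 𝐂[b]) ⟨a, a1⟩] = 𝐂(br 𝐂[b] (zpowers a)) := by
    rw [br, H1.bar_zpowers ⟨a, a1⟩, cent_zpowers]
  refine (H1.bar_eq_bot_iff (N := od 𝐂[b]) inf_le_right).1 ((h.lo (h.cent_ne b1) (h.le_cent hb)).bal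
    (H1.qmk_mem_bar (y := ⟨a, a1⟩) ha) (D := br 𝐂[b] (oc a ⊓ 𝐂[b])) ?_ (le_inf le_top ?_) ?_)
  · exact (Nat.coprime_two_right.1 (oc_cop a)).of_dvd_nat
      ((H1.card_bar_dvd _).trans (FT.card_dvd_of_le inf_le_left))
  · rw [a2, H1.bar_le_centralizer_iff inf_le_right (zpowers_le.2 a1),
      comm_eq_bot_iff.2 (by rw [cent_zpowers]; exact inf_le_left.trans (oc_le a))]
    exact bot_le
  · rw [top_inf_eq, a2]
    refine (H7.SC.cent_br (h.pg.to_le (zpowers_le.2 ha)) (zpowers_le.2 a1)).trans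
      (H1.bar_le_normalizer ?_)
    rw [cent_zpowers]
    exact H1.le_normalizer_inf (inf_le_right.trans (le_norm_oc a))
      (inf_le_left.trans (le_norm_self _))

theorem cent_le {M : Subgroup G} {a : G} (ha : a ∈ A) (a1 : a ≠ 1) (h1 : 𝐍(A) ≤ M) (h2 : oc a ≤ M)
    (h3 : ∀ T W, Bk (S ⊓ 𝐂(A)) A T W → A ⊓ W ≠ ⊥ → 𝐂(A ⊓ W) ≤ M) : 𝐂[a] ≤ M := by
  have hA := h.le_cent ha
  have lo := h.lo (h.cent_ne a1) hA
  obtain ⟨P, hP, p1, p2, nf⟩ := h.sylX ha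
  have hR : S ⊓ 𝐂(A) ≤ 𝐂[a] := inf_le_right.trans (cent_le_cent1 ha)
  have p3 : br 𝐂[a] P ⊓ 𝐂(br 𝐂[a] A) = br 𝐂[a] (S ⊓ 𝐂(A)) := by
    rw [← p2]
    refine le_antisymm ?_ (le_inf (H1.bar_mono inf_le_left) ((H1.bar_le_centralizer_iff
      (inf_le_left.trans hP.le) hA).2 ((comm_eq_bot_iff.2 inf_le_right).le.trans bot_le)))
    rintro _ ⟨⟨y, hy, rfl⟩, e⟩
    refine H1.qmk_mem_bar ⟨hy, fun k hk => ?_⟩
    exact (commutatorElement_eq_one_iff_mul_comm.1 ((od_inf hP.pgrp).le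
      ⟨(H1.qmk_mem_centralizer_bar_iff hA).1 e k hk, cmr (le_normalizer hy) (p1 hk)⟩)).symm
  have := lo.gen (M := br 𝐂[a] (𝐂[a] ⊓ M)) (by
    rw [top_inf_eq, H7.SC.norm_br h.pg hA]
    exact H1.bar_mono (inf_le_inf_left _ h1)) fun K hK act => by
      have b := lo.bk (H7.SC.isSyl_br hP) (H1.bar_mono p1) (H7.SC.nf_br hP.pgrp hP.le p1 nf) hK act
      rw [p3] at b
      obtain ⟨T, W, b1, b2, b3⟩ := bk_pull h.sylR.pgrp hR h.leR b
      have b4 : a ∈ W := b3 ⟨a, hA ha⟩ (h.leR ha) ⟨H1.qmk_mem_bar (h.leR ha), fun k _ => by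
        obtain ⟨k, rfl⟩ := H1.qmk_surjective k
        rw [← map_mul, ← map_mul]
        exact congrArg _ (Subtype.ext (mem_cent1.1 k.2).symm)⟩
      refine (cent_comm.1 ((H1.bar_mono inf_le_right).trans (b2.trans inf_le_right))).trans
        ((H7.SC.cent_br (h.pg.to_le inf_le_left) (inf_le_left.trans hA)).trans
          (H1.bar_mono (inf_le_inf_left _ (h3 T W b1 fun e => a1 (e.le ⟨ha, b4⟩)))))
  rw [← H1.bar_top, H1.bar_le_bar_iff (od_le _) le_rfl inf_le_left] at this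
  exact this.trans (sup_le inf_le_right h2)

theorem e8 {E : Subgroup G} (hE : E ≤ A) (h3 : IsElem 2 3 E) :
    𝐨(wc E).Coprime 2 ∧ ∀ B ≤ E, ¬ IsCyclic B → wc E ≤ wc B := by
  obtain ⟨M, hM, h⟩ := H2.sig_complete ⟨h3.1, h3.2⟩ (θ := oc) ⟨fun a _ _ => oc_le a,
    fun a ha _ => hE.trans ((h.le_cent (hE ha)).trans (le_norm_oc a)), fun a _ _ => oc_cop a,
    fun a _ _ => feit_thompson _ (Nat.coprime_two_right.1 (oc_cop a)),
    fun a ha _ b hb b1 => h.bal (hE ha) (hE hb) b1⟩ fun a _ _ => oc_cop a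
  refine ⟨hM.cop.coprime_dvd_left (FT.card_dvd_of_le (wc_le h)), fun B hB hnc => ?_⟩
  refine (wc_le h).trans (H1.le_of_forall_centralizer_le (isMulComm_of_le hB h3.comm) hnc
    (hB.trans hM.inv) (H1.coprime_card_of_isPGroup (h3.pgrp.to_le hB) hM.cop).symm
    fun b hb h1 => (hM.le b (hB hb) h1).trans (le_wc hb h1))

theorem wc_eq {B : Subgroup G} (hB : B ≤ A) (hB2 : IsElem 2 2 B) : wc A = wc B := by
  refine le_antisymm (wc_le fun e he h1 => ?_) (wc_mono hB)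
  by_cases heB : e ∈ B
  · exact le_wc heB h1
  exact (le_wc (mem_sup_right (mem_zpowers e)) h1).trans
    ((h.e8 (sup_le hB (zpowers_le.2 he)) (H2.ZC.isElem_sup_zpowers hB2 heB (h.el.2 e he)
      (cent_anti hB (h.cc he)))).2 B le_sup_left (hB2.not_isCyclic Nat.prime_two le_rfl))

theorem eight : 8 ≤ 𝐨(A) := by
  obtain ⟨⟨z, hz⟩, h1⟩ := ne_bot_iff_exists_ne_one.1 (inf_center_ne_bot
    (isNilpotent_of_isPGroup Nat.prime_two h.syl.pgrp) ⟨h.le, h.nrm⟩ h.ne)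
  have h1' : z ≠ 1 := fun e => h1 (Subtype.ext e)
  by_contra h8
  have a1 : 𝐂[z].relIndex 𝐍(A) ≤ 𝐨(A) :=
    H2.relIndex_centralizer_le_card fun g hg => cmr hg hz.1
  have a2 : ¬ 2 ∣ 𝐂[z].relIndex 𝐍(A) := fun e => (h.syl.of_le h.nrm le_top).ndvd
    (e.trans (relIndex_dvd_of_le_left _ (mem_cent_iff_cent1.1 hz.2)))
  have a3 : ¬ 3 ∣ 𝐂[z].relIndex 𝐍(A) := fun e =>
    h.n3 ((e.trans (relIndex_dvd_card _ _)).trans (card_subgroup_dvd_card _))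
  obtain ⟨k, hk⟩ := exists_card_eq_pow Nat.prime_two h.pg
  have a4 : 𝐨(A) ≤ 2 ^ 2 := hk ▸ Nat.pow_le_pow_right two_pos (by
    by_contra e
    exact h8 (hk ▸ Nat.pow_le_pow_right two_pos (by omega : 3 ≤ k)))
  have a5 := H2.relIndex_pos 𝐂[z] 𝐍(A)
  have hc : 𝐍(A) ≤ 𝐂[z] := relIndex_eq_one.1 (by
    generalize 𝐂[z].relIndex 𝐍(A) = m at a1 a2 a3 a5
    have : m ≤ 4 := a1.trans a4
    interval_cases m <;> simp_all)
  obtain ⟨P, hP⟩ := h.syl.exists_sylow_top Nat.prime_two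
  have h2 := P1.zstar_sylow P (orderOf_eq_prime (h.el.2 z hz.1) h1') (hP.ge (h.le hz.1))
    fun g hg => by
      obtain ⟨m, hm, e⟩ := h.elt (h.le hz.1) (hP.le hg)
      rw [e]
      exact mem_cent1_iff_conj.1 (hc hm)
  rcases h.sim.eq_bot_or_eq_top_of_normal (pPrimeCore 2 G) inferInstance with h3 | h3
  · refine h.cent_ne h1' (top_le_iff.1 fun g _ => ?_)
    have := h2 g
    rw [h3, mem_bot, commutatorElement_eq_one_iff_mul_comm] at this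
    exact mem_cent1.2 this
  · have := H1.inf_eq_bot_of_coprime' (H1.coprime_card_of_isPGroup h.pg
      (L.coprime_card_pPrimeCore (G := G) 2))
    rw [h3, top_inf_eq] at this
    exact absurd this h.ne

theorem wc_cop : 𝐨(wc A).Coprime 2 := by
  have := h.eight
  obtain ⟨E, a1, a2⟩ := H7.SC.exists_isElem (k := 3) h.el (by omega)
  obtain ⟨B, b1, b2⟩ := a2.exists_le Nat.prime_two (k := 2) (by omega)
  rw [h.wc_eq (b1.trans a1) b2]
  exact (h.e8 a1 a2).1.coprime_dvd_left (FT.card_dvd_of_le (wc_mono b1))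

theorem ne_top : A ≠ ⊤ := fun e => h.nc ⟨⟨fun x y => h.cc (e.ge (mem_top y)) x (e.ge trivial)⟩⟩

theorem wc_ne : wc A ≠ ⊤ := fun e => h.ne (by
  have := H1.inf_eq_bot_of_coprime' (H1.coprime_card_of_isPGroup h.pg h.wc_cop)
  rwa [e, top_inf_eq] at this)

omit h in
theorem norm_wc (B : Subgroup G) : 𝐍(B) ≤ 𝐍(wc B) := fun g hg => conj_eq_self_iff.1 (by
  rw [← wc_conj, conj_eq_of_mem_norm hg])

section

variable (h0 : ∀ a ∈ A, a ≠ 1 → oc a = ⊥) {a : G} (ha : a ∈ A) (a1 : a ≠ 1) {K : Subgroup G}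
  (hK : CompIn 𝐂[a] K) (act : ¬ A ≤ 𝐂(K))
include h0 ha a1

theorem loc : Lo 𝐂[a] A := h.lo' (h.cent_ne a1) (h.le_cent ha) (h0 a ha a1)

include hK act

theorem blk : ∃ T ≤ K, Bk (S ⊓ 𝐂(A)) A T (S ⊓ 𝐂(A) ⊓ 𝐂(K)) := by
  obtain ⟨P, hP, p1, p2, nf⟩ := h.sylX ha
  exact ⟨_, inf_le_right, p2 ▸ (h.loc h0 ha a1).bk hP p1 nf hK act⟩

theorem n1 : 𝐂[a] ⊓ 𝐂(A ⊓ (S ⊓ 𝐂(A) ⊓ 𝐂(K))) ≤ 𝐍(K) := fun c hc => by
  by_contra e
  obtain ⟨T, hT, b⟩ := h.blk h0 ha a1 hK act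
  refine (h.loc h0 ha a1).act_conj hK act hc.1 (b.dec.trans (sup_le (((der_le T).trans hT).trans
    (hK.le_centralizer_of_ne (comp_conj hK hc.1) fun e' => e (conj_eq_self_iff.1 e'.symm))) ?_))
  rw [← conj_eq_of_mem_norm (cent_le_norm _ hc.2)]
  exact conj_le_cent_iff.2 (inf_le_right.trans inf_le_right)

theorem pump {c : G} (hc : c ∈ A) (c1 : c ≠ 1) (c2 : c ∈ 𝐂(K)) : CompIn 𝐂[c] K := by
  obtain ⟨T, hT, b⟩ := h.blk h0 ha a1 hK act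
  have qs := (H2.isQuasisimple_subgroup_iff.1 hK.2).2.2
  have k1 : K ≤ 𝐂[c] := mem_cent_iff_cent1.1 c2
  have k2 : ¬ ⁅T, T⁆ ≤ 𝐂(K) := fun e => b.not_le (le_inf (b.vle.trans h.leR) e)
  have k3 : ⁅T, T⁆ ≤ K := (der_le T).trans hT
  by_cases e : ∀ J, CompIn 𝐂[c] J → ⁅T, T⁆ ≤ 𝐂(J)
  · have d1 : ⁅T, T⁆ ≤ A ⊓ 𝐂(H2.layerOf 𝐂[c]) := le_inf b.vle (cent_comm.1 (by
      rw [H2.layerOf_eq_sSup]; exact sSup_le fun J hJ => cent_comm.1 (e J hJ)))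
    have d2 : 𝐂[c] ≤ 𝐍(A ⊓ 𝐂(H2.layerOf 𝐂[c])) := (h.loc h0 hc c1).gen
      (H1.le_normalizer_inf inf_le_right
        (inf_le_left.trans ((H2.le_normalizer_layerOf _).trans norm_cent)))
      fun J hJ _ => hJ.le_layerOf.trans ((cent_comm.1 inf_le_right).trans (cent_le_norm _))
    rcases qs _ inf_le_right (H1.le_normalizer_inf (k1.trans d2) (le_norm_self K)) with d3 | d3
    · exact absurd (h.cc.trans (cent_anti (d3.ge.trans (inf_le_left.trans inf_le_left)))) act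
    · exact absurd ((le_inf d1 k3).trans d3) k2
  push Not at e
  obtain ⟨J, hJ, e⟩ := e
  have j1 : ¬ A ≤ 𝐂(J) := fun e' => e (b.vle.trans e')
  obtain ⟨T', hT', b'⟩ := h.blk h0 hc c1 hJ j1
  have j2 := (b.dich b' h.leR inf_le_right).resolve_right fun e' => e (e'.trans inf_le_right)
  have j3 := h.inf_eq_inf b b' j2
  have j4 : J ≤ 𝐍(K) := le_trans (le_inf (mem_cent_iff_cent1.1
    (j3.le ⟨ha, h.leR ha, mem_cent_iff_cent1.2 hK.le⟩).2.2)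
    (cent_comm.1 (j3.le.trans (inf_le_right.trans inf_le_right)))) (h.n1 h0 ha a1 hK act)
  have j5 : K ≤ 𝐍(J) := le_trans (le_inf k1
    (cent_comm.1 (j3.ge.trans (inf_le_right.trans inf_le_right)))) (h.n1 h0 hc c1 hJ j1)
  have j6 : ⁅T, T⁆ ≤ K ⊓ J := le_inf k3 (j2.le.trans ((der_le T').trans hT'))
  have j7 := (qs _ inf_le_left (H1.le_normalizer_inf (le_norm_self K) j5)).resolve_right
    fun e' => k2 (j6.trans e')
  have j8 := ((H2.isQuasisimple_subgroup_iff.1 hJ.2).2.2 _ inf_le_right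
    (H1.le_normalizer_inf j4 (le_norm_self J))).resolve_right fun e' => e (j6.trans e')
  rwa [← j7, j8]

theorem comm {c : G} (hc : c ∈ A) (c1 : c ≠ 1) {J : Subgroup G} (hJ : CompIn 𝐂[c] J)
    (j1 : ¬ A ≤ 𝐂(J)) : J ≤ 𝐍(K) := by
  obtain ⟨T, -, b⟩ := h.blk h0 ha a1 hK act
  obtain ⟨T', -, b'⟩ := h.blk h0 hc c1 hJ j1
  obtain ⟨⟨x, hx⟩, x1⟩ := ne_bot_iff_exists_ne_one.1 (h.third b b' fun e =>
    a1 (e.le ⟨ha, h.leR ha, mem_cent_iff_cent1.2 hK.le⟩))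
  have x2 : x ≠ 1 := fun e => x1 (Subtype.ext e)
  by_cases e : J = K
  · exact e ▸ le_norm_self J
  exact ((h.pump h0 hc c1 hJ j1 hx.1.1 x2 hx.2.2).le_centralizer_of_ne
    (h.pump h0 ha a1 hK act hx.1.1 x2 hx.1.2.2) e).trans (cent_le_norm K)

end

theorem exM : ∃ M : Subgroup G, M ≠ ⊤ ∧ 𝐍(A) ≤ M ∧ ∀ a ∈ A, a ≠ 1 → 𝐂[a] ≤ M := by
  by_cases e : wc A = ⊥
  swap
  · refine ⟨_, h.norm_ne e h.wc_ne, norm_wc A, fun a ha a1 => h.cent_le ha a1 (norm_wc A)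
      ((le_wc ha a1).trans (le_norm_self _)) fun T W b h0 => ?_⟩
    have := h.eight_le b h0
    obtain ⟨B, b1, b2⟩ := H7.SC.exists_isElem (k := 2)
      (elemAb_of_le (inf_le_left : A ⊓ W ≤ A) h.el) (by omega)
    rw [h.wc_eq (b1.trans inf_le_left) b2]
    exact (cent_anti b1).trans ((cent_le_norm B).trans (norm_wc B))
  have h0 : ∀ a ∈ A, a ≠ 1 → oc a = ⊥ := fun a ha a1 => eq_bot_iff.2 ((le_wc ha a1).trans e.le)
  obtain ⟨s, hs⟩ : ∃ s : Set (Subgroup G),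
    ∀ K, K ∈ s ↔ ∃ a ∈ A, a ≠ 1 ∧ CompIn 𝐂[a] K ∧ ¬ A ≤ 𝐂(K) := ⟨{K | _}, fun _ => Iff.rfl⟩
  by_cases e' : ∃ K, K ∈ s
  swap
  · exact ⟨_, h.norm_ne h.ne h.ne_top, le_rfl, fun a ha a1 => (h.loc h0 ha a1).gen inf_le_right
      fun K hK act => absurd ⟨K, (hs K).2 ⟨a, ha, a1, hK, act⟩⟩ e'⟩
  obtain ⟨K, hK⟩ := e'
  obtain ⟨a, ha, a1, k1, k2⟩ := (hs K).1 hK
  have hn : 𝐍(A) ≤ 𝐍(sSup s) := H2.le_normalizer_sSup fun g hg J hJ => by
    obtain ⟨c, hc, c1, j1, j2⟩ := (hs J).1 hJ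
    refine le_sSup ((hs _).2 ⟨_, cjm hg hc, by simpa using c1, ?_, fun e => j2 ?_⟩)
    · rw [cent1_conj]; exact j1.conj g
    · rw [← conj_eq_of_mem_norm hg] at e
      exact conj_le_cent_iff.1 e
  have k3 : K ≠ ⊥ := H2.QS.ne_bot k1.2
  refine ⟨_, h.norm_ne (fun e => k3 (eq_bot_iff.2 ((le_sSup hK).trans e.le))) fun e => ?_, hn,
    fun c hc c1 => (h.loc h0 hc c1).gen (inf_le_right.trans hn) fun J hJ act =>
      (le_sSup ((hs J).2 ⟨c, hc, c1, hJ, act⟩)).trans (le_norm_self _)⟩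
  refine h.norm_ne k3 (fun e => h.cent_ne a1 (top_le_iff.1 (e.ge.trans k1.le)))
    (top_le_iff.1 (e.ge.trans (sSup_le fun J hJ => ?_)))
  obtain ⟨c, hc, c1, j1, j2⟩ := (hs J).1 hJ
  exact h.comm h0 ha a1 k1 k2 hc c1 j1 j2

theorem chyp : CHyp A (wc A) := by
  obtain ⟨M, m1, m2, m3⟩ := h.exM
  refine ⟨h.el, h.eight, h.sc, Nat.coprime_two_right.1 h.wc_cop, norm_wc A, fun e => ?_,
    fun a ha a1 => h.cent_le ha a1 le_sup_right ((le_wc ha a1).trans le_sup_left)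
      fun T W b h0 => absurd (h.one_class m1 m2 m3) (h.not_one b h0)⟩
  by_cases e' : wc A = ⊥
  · rw [e', bot_sup_eq] at e
    exact h.norm_ne h.ne h.ne_top e
  · exact h.norm_ne e' h.wc_ne (top_le_iff.1 (e.ge.trans (sup_le (le_norm_self _) (norm_wc A))))

end Gl

theorem bStmt (hZ : ZStmt.{u}) (hN : NStmt.{u}) : BStmt.{u} := by
  intro G _ _ sim nc n3 kh A0 e1 e2 e3
  obtain ⟨A, ⟨el, ne, sc⟩, hm⟩ := exists_minimal_of_wellFoundedLT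
    (fun A : Subgroup G => IsElementaryAbelian 2 A ∧ A ≠ ⊥ ∧ SC ⊤ A) ⟨A0, e1, e2, e3⟩
  obtain ⟨S, hS, hA⟩ := exists_isSyl_ge Nat.prime_two (elemAb_isPGroup el) le_top
  have cc := isMulComm_iff_le_cent.1 el.1
  have nrm := sc.le_norm le_top hS.pgrp hA
  have irr : ∀ U ≤ A, 𝐍(A) ≤ 𝐍(U) → U = ⊥ ∨ U = A := fun U hU hn => by
    refine or_iff_not_imp_left.2 fun e => le_antisymm hU (hm ⟨elemAb_of_le hU el, e,
      SCl.sc (((sc.scl le_top hS.pgrp hA).ctrl hS hA cc).scl (hU.trans hA) ?_) hS (hU.trans hA)⟩ hU)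
    exact fun b hb g hg _ => cjm (hn hg.2) hb
  refine ⟨A, _, Gl.chyp (S := S) ⟨hZ, sim, nc, n3, kh, el, ne, sc, irr, fun B hB hp => hN G 𝐍(A) A B
    (fun e => n3 (e.trans (card_subgroup_dvd_card _))) (kh.mono ?_) (fun K hK hk => ?_) el le_rfl
      hB hp, hS, hA⟩⟩
  · refine (Nat.succ_le_succ (Nat.le_of_dvd Nat.card_pos (relIndex_dvd_card _ _))).trans
      ((H1.card_lt_of_lt (lt_top_iff_ne_top.2 fun e => ?_)).trans_eq card_top)
    refine (sim.eq_bot_or_eq_top_of_normal A (normal_iff_top_le.2 e.ge)).elim ne fun e => ?_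
    exact nc ⟨⟨fun x y => cc (e.ge (mem_top y)) x (e.ge trivial)⟩⟩
  have a1 := H7.SC.le_sup_syl (hK.1.trans norm_cent)
    ((hS.of_le nrm le_top).inf_normal Nat.prime_two hK) hk
  refine cent_comm.1 (inf_eq_left.1 ((irr _ inf_le_left (H1.le_normalizer_inf le_rfl
    (hK.2.trans norm_cent))).resolve_left fun e => inf_center_ne_bot
      (isNilpotent_of_isPGroup Nat.prime_two hS.pgrp) ⟨hA, nrm⟩ ne (eq_bot_iff.2 (le_trans ?_ e.le))))
  exact le_inf inf_le_left (cent_comm.1 (a1.trans (sup_le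
    (inf_le_left.trans (cent_comm.1 inf_le_right)) (cent_anti inf_le_left))))

end Cfsg.Agent.P14
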