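/-
P14, chapter C: interface.  A class of involutions `In`, each fixing exactly one point.
This is the port of `P6/SE.lean` (all involutions are replaced by the class); see plans/P14C.md.
-/
import Cfsg.Agent.P14.Defs
import Cfsg.Agent.P6.Ind
import Cfsg.Agent.P1.C_1

set_option autoImplicit false
set_option linter.unusedSectionVars false

namespace Cfsg.Agent.P14.C

open Subgroup Cfsg Cfsg.Agent Cfsg.Agent.FT MulAction Cfsg.Agent.P6
open scoped commutatorElement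

export Cfsg.Agent.P6 (Inv)

universe u v

/-- A set of involutions closed under conjugation and commuting products, whose members
commute inside every 2-subgroup. -/
class ICl (G : Type u) [Group G] where
  carrier : Set G
  inv : ∀ {a : G}, a ∈ carrier → Inv a
  conj : ∀ {a : G}, a ∈ carrier → ∀ g : G, g * a * g⁻¹ ∈ carrier
  mul : ∀ {a b : G}, a ∈ carrier → b ∈ carrier → a ≠ b → a * b = b * a → a * b ∈ carrier
  two : ∀ {a b : G} {P : Subgroup G}, IsPGroup 2 P → a ∈ carrier → b ∈ carrier → a ∈ P → b ∈ P →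
    a * b = b * a

variable {G : Type u} [Group G] [ICl G] {Ω : Type v} [MulAction G Ω]

/-- `a` lies in the class. -/
structure In (a : G) : Prop extends Inv a where
  mem : a ∈ ICl.carrier

instance {a : G} : CoeOut (In a) (Inv a) := ⟨In.toInv⟩

/-- Every member of the class fixes exactly one point. -/
structure SE (G : Type u) (Ω : Type v) [Group G] [ICl G] [MulAction G Ω] : Prop where
  uniq : ∀ {a : G}, In a → ∀ {α β : Ω}, a • α = α → a • β = β → α = β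
  ex : ∀ {a : G}, In a → ∃ α : Ω, a • α = α

/-- The points fixed by some member of the class in `N`. -/
def Fx (Ω : Type v) [MulAction G Ω] (N : Subgroup G) : Set Ω :=
  {α | ∃ a ∈ N, In a ∧ a • α = α}

/-- `N` contains a four-group of the class. -/
def Rk2 (N : Subgroup G) : Prop :=
  ∃ a ∈ N, ∃ b ∈ N, In a ∧ In b ∧ a ≠ b ∧ a * b = b * a

/-- No element of order `r` of a point stabilizer is inverted by a member of the class in it. -/
def NW (G : Type u) (Ω : Type v) [Group G] [ICl G] [MulAction G Ω] (r : ℕ) : Prop :=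
  ∀ (x a : G) (α : Ω), orderOf x = r → In a → a • α = α → x • α = α → a * x * a ≠ x⁻¹

/-- The members of the class in a point stabilizer commute. -/
def IComm (G : Type u) (Ω : Type v) [Group G] [ICl G] [MulAction G Ω] : Prop :=
  ∀ (a b : G) (α : Ω), In a → In b → a • α = α → b • α = α → a * b = b * a

/-- The members of the class fixing `α`. -/
def Iv (G : Type u) [Group G] [ICl G] [MulAction G Ω] (α : Ω) : Set G := {a | In a ∧ a • α = α}

/-- The members of the class swapping `α` and `β`. -/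
def Jv (G : Type u) [Group G] [ICl G] [MulAction G Ω] (α β : Ω) : Set G :=
  {a | In a ∧ a • α = β}

/-- The kernel of the action of `N` on `Fx Ω N`. -/
def Ker (Ω : Type v) [MulAction G Ω] (N : Subgroup G) : Subgroup G where
  carrier := {x | x ∈ N ∧ ∀ δ ∈ Fx Ω N, x • δ = δ}
  one_mem' := ⟨one_mem N, fun δ _ => one_smul G δ⟩
  mul_mem' := fun ⟨h1, h2⟩ ⟨h3, h4⟩ =>
    ⟨mul_mem h1 h3, fun δ hδ => by rw [mul_smul, h4 δ hδ, h2 δ hδ]⟩
  inv_mem' := fun ⟨h1, h2⟩ => ⟨inv_mem h1, fun δ hδ => inv_smul_eq_iff.2 (h2 δ hδ).symm⟩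

/-- The Sylow 2-subgroup of `L` at the point `γ`. -/
structure BTp (Ω : Type v) [MulAction G Ω] (N L : Subgroup G) (n : ℕ) (γ : Ω) (T : Subgroup G) :
    Prop where
  syl : IsSyl 2 T L
  le : T ≤ stabilizer G γ
  card : 𝐨(T) = (2 ^ n) ^ 2
  norm : N ⊓ stabilizer G γ ≤ 𝐍((T ⊔ Od N : Subgroup G))
  tr : ∀ δ ∈ Fx Ω N, δ ≠ γ → ∀ ε ∈ Fx Ω N, ε ≠ γ → ∃ t ∈ T, t • δ = ε
  free : ∀ t ∈ T, ∀ δ ∈ Fx Ω N, δ ≠ γ → t • δ = δ → t = 1
  cardI : {t : G | t ∈ T ∧ t * t = 1}.ncard = 2 ^ n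
  cen : ∀ t ∈ T, t * t = 1 → t ∈ 𝐂(T)

/-- `L / O(N)` is the Suzuki group `Sz(2 ^ n)` acting on `Fx Ω N` in the natural way. -/
structure BTd (Ω : Type v) [MulAction G Ω] (N L : Subgroup G) (n : ℕ) : Prop where
  normal : L ⊲ N
  od : Od N ≤ L
  mem : ∀ a ∈ N, In a → a ∈ L
  inv : ∀ t ∈ L, Inv t → In t
  odd : Odd n
  three : 3 ≤ n
  card : (Fx Ω N).ncard = (2 ^ n) ^ 2 + 1
  fix3 : ∀ x ∈ L, ∀ α ∈ Fx Ω N, ∀ β ∈ Fx Ω N, ∀ γ ∈ Fx Ω N, α ≠ β → α ≠ γ → β ≠ γ →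
    x • α = α → x • β = β → x • γ = γ → x ∈ Od N
  pt : ∀ γ ∈ Fx Ω N, ∃ T, BTp Ω N L n γ T

/-- What the induction gives for a proper subgroup `N`. -/
def BT (Ω : Type v) [MulAction G Ω] (N : Subgroup G) : Prop := ∃ L n, BTd Ω N L n

/-- The structure of a point stabilizer `H`. -/
structure Pt (H A : Subgroup G) : Prop where
  el : IsElementaryAbelian 2 A
  eight : 8 ≤ 𝐨(A)
  mem : ∀ a ∈ A, a ≠ 1 → In a
  max : ∀ a : G, In a → a ∈ 𝐂(A) → a ∈ A
  le : A ≤ H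
  sup : H ≤ Od H ⊔ (H ⊓ 𝐍(A))

/-- The simple group of chapter C. -/
structure Min0 (G : Type u) (Ω : Type v) [Group G] [Finite G] [ICl G] [MulAction G Ω] : Prop
    extends SE G Ω where
  simple : IsSimpleGroup G
  three : ¬ 3 ∣ Nat.card G
  kh : KH.{u} (Nat.card G)
  two : Nontrivial Ω
  pt : ∀ α : Ω, ∃ A, Pt (stabilizer G α) A

/-- The same, with the structure of the proper subgroups. -/
structure Min (G : Type u) (Ω : Type v) [Group G] [Finite G] [ICl G] [MulAction G Ω] : Prop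
    extends Min0 G Ω where
  ih : ∀ N : Subgroup G, N ≠ ⊤ → Rk2 N → (Fx Ω N).Nontrivial → BT Ω N

/-- The hypothesis of the endgame. -/
structure Mc (G : Type u) (Ω : Type v) [Group G] [Finite G] [ICl G] [MulAction G Ω] : Prop
    extends Min G Ω where
  comm : IComm G Ω
  tr2 : ∀ α β γ : Ω, α ≠ β → α ≠ γ → ∃ g ∈ stabilizer G α, g • β = γ
  l1 : ∀ r : ℕ, r.Prime → r ≠ 2 → ∀ X : Subgroup G, IsPGroup r X → (Fx Ω 𝐂(X)).Nonempty →
    ∀ δ : Ω, X ≤ stabilizer G δ → δ ∈ Fx Ω 𝐂(X)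
  l2 : (∀ t : G, Inv t → In t) → ∀ r : ℕ, r.Prime → r ≠ 2 → ∀ X : Subgroup G, IsPGroup r X →
    Fx Ω 𝐂(X) = ∅ → ∀ δ ε ζ : Ω, X ≤ stabilizer G δ → X ≤ stabilizer G ε →
    X ≤ stabilizer G ζ → δ ≠ ε → δ ≠ ζ → ε = ζ

/-- Piece BT. -/
def BTStmt : Prop := ∀ (G : Type u) [Group G] [Finite G] [ICl G] (Ω : Type u) [MulAction G Ω],
  Min0 G Ω → ∀ N : Subgroup G, N ≠ ⊤ → Rk2 N → (Fx Ω N).Nontrivial → BT Ω N

/-- Piece B: a Sylow subgroup of a point stabilizer fixes no second point. -/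
def CaseBStmt : Prop := ∀ (G : Type u) [Group G] [Finite G] [ICl G] (Ω : Type u) [MulAction G Ω],
  Min G Ω → (∀ (α : Ω) (M : Subgroup G) (g : G), stabilizer G α ≤ M → g ∈ M → g • α ≠ α → M = ⊤) →
  ∀ p : ℕ, p.Prime → p ≠ 2 → ¬ NW G Ω p → (∀ j : ℕ, ¬ p ∣ (2 ^ j) ^ 2 + 1) →
  ∀ (R : Subgroup G) (α β : Ω), α ≠ β → R ≤ stabilizer G β → IsSyl p R (stabilizer G α) → False

/-- Piece E: the endgame. -/
def EndStmt : Prop := ∀ (G : Type u) [Group G] [Finite G] [ICl G] (Ω : Type u) [MulAction G Ω],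
  Mc G Ω → ZTG G

namespace In

variable {a b : G}

theorem of_mem (h : a ∈ ICl.carrier) : In a := ⟨ICl.inv h, h⟩

theorem conj (h : In a) (g : G) : In (g * a * g⁻¹) := of_mem (ICl.conj h.mem g)

theorem conj' (h : In a) (g : G) : In (g⁻¹ * a * g) := by simpa using h.conj g⁻¹

theorem conj_inv (h : In a) {v : G} (hv : Inv v) : In (v * a * v) := by
  simpa [hv.inv_eq] using h.conj v

theorem mul (h : In a) (hb : In b) (hne : a ≠ b) (hc : a * b = b * a) : In (a * b) :=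
  of_mem (ICl.mul h.mem hb.mem hne hc)

theorem comm_of_two (h : In a) (hb : In b) {P : Subgroup G} (hP : IsPGroup 2 P) (haP : a ∈ P)
    (hbP : b ∈ P) : a * b = b * a := ICl.two hP h.mem hb.mem haP hbP

/-- The reflections of the dihedral group generated by two members lie in the class. -/
theorem mul_pow (h : In a) (hb : In b) (k : ℕ) : In (a * (a * b) ^ k) := by
  rcases Nat.even_or_odd' k with ⟨j, rfl | rfl⟩
  · have h1 := L.invol_conj_pow h.sq hb.sq j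
    have : a * (a * b) ^ (2 * j) = ((a * b) ^ j)⁻¹ * a * (a * b) ^ j := by
      rw [← h1, two_mul, pow_add, mul_assoc (a * (a * b) ^ j) a, mul_assoc (a * (a * b) ^ j),
        h.sq, one_mul, mul_assoc]
    rw [this]; exact h.conj' _
  · have h1 := L.invol_conj_pow h.sq hb.sq j
    have : a * (a * b) ^ (2 * j + 1) = ((a * b) ^ j)⁻¹ * b * (a * b) ^ j := by
      rw [← h1, show 2 * j + 1 = j + 1 + j by ring, pow_add, pow_succ]
      simp only [mul_assoc]
    rw [this]; exact hb.conj' _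

/-- The central involution of a dihedral group generated by two members lies in the class. -/
theorem exists_central [Finite G] (h : In a) (hb : In b) (he : ¬ Odd (orderOf (a * b))) :
    ∃ c ∈ zpowers (a * b), In c ∧ c * a = a * c ∧ c * b = b * c := by
  obtain ⟨k, k1, -, k3, k4⟩ :=
    L.exists_invol_commute_of_even h.sq hb.sq (Nat.not_odd_iff_even.1 he)
  refine ⟨_, pow_mem (mem_zpowers _) k, ?_, k3, k4⟩
  have := h.mul (h.mul_pow hb k) (fun e => k1 (by simpa using e)) (by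
    rw [mul_assoc, k3.eq])
  rwa [h.mul_cancel_left] at this

/-- An element of odd order inverted by a member of the class. -/
theorem mul_of_inverts [Finite G] (h : In a) {k : G} (ho : Odd (orderOf k))
    (hi : a * k * a = k⁻¹) : In (a * k) := by
  have h1 : Inv (a * k) := ⟨fun e => by
    have e2 : k = a := by rw [eq_inv_of_mul_eq_one_right e, h.inv_eq]
    rw [e2, h.orderOf_eq] at ho
    exact absurd ho (by decide), by rw [← mul_assoc, hi, inv_mul_cancel]⟩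
  obtain ⟨y, -, e⟩ := exists_conj_of_odd h.toInv h1 (by rwa [h.mul_cancel_left])
  exact e ▸ h.conj y

end In

theorem NW.eq_one [Finite G] {r : ℕ} (hr : r.Prime) (h : NW G Ω r) {X : Subgroup G}
    (hX : IsPGroup r X) {x a : G} {α : Ω} (hx : x ∈ X) (ha : In a) (h1 : a • α = α)
    (h2 : x • α = α) (hi : a * x * a = x⁻¹) : x = 1 := by
  by_contra hne
  obtain ⟨y, hy, hp⟩ := exists_prime_pow_mem hne
  have hyX : y ∈ X := (zpowers_le.2 hx) hy
  exact h y a α (orderOf_eq_of_prime_of_mem hr hX hyX hp) ha h1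
    ((zpowers_le.2 (mem_stabilizer_iff.2 h2) : zpowers x ≤ stabilizer G α) hy)
    (inverts_of_mem_zpowers ha.sq hi hy)

/-- Under `NW r`, an involution fixing `α` and normalizing an `r`-subgroup fixing `α`
centralizes it. -/
theorem NW.mem_cent [Finite G] {r : ℕ} (hr : r.Prime) (h : NW G Ω r) {X : Subgroup G}
    (hX : IsPGroup r X) {a : G} {α : Ω} (hXα : X ≤ stabilizer G α) (ha : In a) (h1 : a • α = α)
    (hn : a ∈ 𝐍(X)) : a ∈ 𝐂(X) := by
  by_contra hc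
  obtain ⟨x, hx, hne, hi⟩ := exists_inverted ha.sq hn hc
  exact hne (h.eq_one hr hX hx ha h1 (hXα hx) hi)

theorem IComm.nw (h : IComm G Ω) {r : ℕ} (hr : r.Prime) (h2 : r ≠ 2) : NW G Ω r := by
  intro x a α hx ha h1 h3 hi
  have hb : In (x * a * x⁻¹) := ha.conj x
  have hc := h a (x * a * x⁻¹) α ha hb h1 (by
    rw [mul_smul, mul_smul, inv_smul_eq_iff.2 h3.symm, h1, h3])
  have e1 : a * (x * a * x⁻¹) = x⁻¹ * x⁻¹ := by
    calc a * (x * a * x⁻¹) = (a * x * a) * x⁻¹ := by group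
      _ = _ := by rw [hi]
  have e2 : x * a * x⁻¹ * a = x * x := by
    have : a * x⁻¹ * a = x := by
      have := congrArg (·⁻¹) hi
      simp only [mul_inv_rev, ha.inv_eq, inv_inv] at this
      rw [mul_assoc, this]
    calc x * a * x⁻¹ * a = x * (a * x⁻¹ * a) := by group
      _ = _ := by rw [this]
  have ho : Odd (orderOf x) := hx ▸ hr.odd_of_ne_two h2
  have h4 : x * x = (x * x)⁻¹ := by rw [mul_inv_rev, ← e1, hc, e2]
  have h5 : x * x = 1 := eq_one_of_eq_inv (by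
    rw [← pow_two]; exact ho.of_dvd_nat (orderOf_pow_dvd 2)) h4
  have h6 : x = 1 := eq_one_of_eq_inv ho (eq_inv_of_mul_eq_one_left h5)
  rw [h6, orderOf_one] at hx
  exact hr.one_lt.ne hx

theorem smul_mem_Fx {N : Subgroup G} {g : G} (hg : g ∈ 𝐍(N)) {α : Ω} (h : α ∈ Fx Ω N) :
    g • α ∈ Fx Ω N := by
  obtain ⟨a, ha, hi, e⟩ := h
  exact ⟨_, (mem_normalizer_iff.1 hg a).1 ha, hi.conj g, conj_fix e⟩

theorem smul_mem_Fx' {N : Subgroup G} {g : G} (hg : g ∈ N) {α : Ω} (h : α ∈ Fx Ω N) :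
    g • α ∈ Fx Ω N := smul_mem_Fx (le_norm_self N hg) h

theorem Fx_mono {N M : Subgroup G} (h : N ≤ M) : Fx Ω N ⊆ Fx Ω M :=
  fun _ ⟨a, ha, h2⟩ => ⟨a, h ha, h2⟩

theorem Rk2.mono {N M : Subgroup G} (h : Rk2 N) (hl : N ≤ M) : Rk2 M := by
  obtain ⟨a, ha, b, hb, h⟩ := h
  exact ⟨a, hl ha, b, hl hb, h⟩

theorem Rk2.conj {N : Subgroup G} (h : Rk2 N) (g : G) : Rk2 (N ^ᵍ g) := by
  obtain ⟨a, ha, b, hb, h1, h2, h3, h4⟩ := h
  refine ⟨_, conj_mem_conj ha g, _, conj_mem_conj hb g, h1.conj g, h2.conj g,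
    fun e => h3 (by simpa using e), ?_⟩
  calc g * a * g⁻¹ * (g * b * g⁻¹) = g * (a * b) * g⁻¹ := by group
    _ = g * (b * a) * g⁻¹ := by rw [h4]
    _ = _ := by group

theorem mem_Ker {N : Subgroup G} {x : G} : x ∈ Ker Ω N ↔ x ∈ N ∧ ∀ δ ∈ Fx Ω N, x • δ = δ := Iff.rfl

theorem norm_le_norm_Ker [Finite G] (N : Subgroup G) : 𝐍(N) ≤ 𝐍(Ker Ω N) := fun g hg =>
  mem_norm_of_conj_le fun x hx => by
    obtain ⟨y, hy, rfl⟩ := mem_conj'.1 hx
    refine ⟨(mem_normalizer_iff.1 hg y).1 hy.1, fun δ hδ => ?_⟩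
    rw [mul_smul, mul_smul, hy.2 _ (smul_mem_Fx (inv_mem hg) hδ), smul_inv_smul]

/-- Without four-groups, two members of the class have a product of odd order. -/
theorem odd_mul_of_not_rk2 [Finite G] {N : Subgroup G} (h : ¬ Rk2 N) {a b : G} (ha : a ∈ N)
    (hb : b ∈ N) (h1 : In a) (h2 : In b) : Odd (orderOf (a * b)) := by
  by_contra hn
  obtain ⟨c, hc, hi, k3, k4⟩ := h1.exists_central h2 hn
  have hz : c ∈ N := (zpowers_le.2 (mul_mem ha hb)) hc
  by_cases e : c = a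
  · by_cases e' : a = b
    · rw [e', h2.sq, zpowers_one_eq_bot, mem_bot] at hc; exact hi.ne hc
    · exact h ⟨a, ha, b, hb, h1, h2, e', by rw [e] at k4; exact k4⟩
  · exact h ⟨_, hz, a, ha, hi, h1, e, k3⟩

theorem mem_Od_iff [Finite G] {N : Subgroup G} {x : N} : (x : G) ∈ Od N ↔ x ∈ pPrimeCore 2 N :=
  ⟨fun ⟨y, hy, e⟩ => (Subtype.ext e : y = x) ▸ hy, fun h => ⟨x, h, rfl⟩⟩

/-- The `Z*`-theorem: without four-groups the members of the class are central modulo `O(N)`. -/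
theorem comm_mem_Od [Finite G] {N : Subgroup G} (h : ¬ Rk2 N) {a g : G} (ha : a ∈ N) (hi : In a)
    (hg : g ∈ N) : ⁅g, a⁆ ∈ Od N := by
  have h1 := P1.zstar_odd (G := N) (t := ⟨a, ha⟩) (by rw [← orderOf_coe]; exact hi.orderOf_eq)
    (fun x => by
      rw [← orderOf_coe]
      exact odd_mul_of_not_rk2 h ha (mul_mem (mul_mem x.2 ha) (inv_mem x.2)) hi (hi.conj x))
    ⟨g, hg⟩
  rw [← commutatorElement_inv]
  exact inv_mem (mem_Od_iff.2 h1)

namespace SE

variable [Finite G] (h : SE G Ω)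
include h

theorem not_mem_St2 {α β : Ω} (hne : α ≠ β) {a : G} (ha : In a) : a ∉ St2 G α β :=
  fun hm => hne (h.uniq ha hm.1 hm.2)

/-- A product of two members of the class that fixes two points has odd order. -/
theorem odd_of_mem_St2 {α β : Ω} (hne : α ≠ β) {u v : G} (hu : In u) (hv : In v)
    (hm : u * v ∈ St2 G α β) : Odd (orderOf (u * v)) := by
  by_contra hn
  obtain ⟨c, hc, hi, -⟩ := hu.exists_central hv hn
  exact h.not_mem_St2 hne hi ((zpowers_le.2 hm) hc)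

theorem fix_of_commute {a g : G} {α : Ω} (ha : In a) (e : a • α = α) (hc : a * g = g * a) :
    g • α = α :=
  h.uniq ha (by rw [← mul_smul, hc, mul_smul, e]) e

theorem cent1_le {a : G} {α : Ω} (ha : In a) (e : a • α = α) : 𝐂[a] ≤ stabilizer G α :=
  fun _ hg => h.fix_of_commute ha e (mem_cent1.1 hg)

/-- `F₁(X) ⊆ F(X)`. -/
theorem le_stab_of_mem_Fx {X : Subgroup G} {α : Ω} (hα : α ∈ Fx Ω 𝐂(X)) :
    X ≤ stabilizer G α := by
  obtain ⟨a, ha, hi, e⟩ := hα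
  exact fun x hx => h.fix_of_commute hi e (mem_cent.1 ha x hx).symm

theorem smul_eq_of_conj {a g : G} {α β : Ω} (ha : In a) (e : a • α = α)
    (e' : (g * a * g⁻¹) • β = β) : g • α = β :=
  h.uniq (ha.conj g) (conj_fix e) e'

theorem odd_mul {a b : G} {α β : Ω} (ha : In a) (hb : In b) (ea : a • α = α) (eb : b • β = β)
    (hne : α ≠ β) : Odd (orderOf (a * b)) := by
  by_contra hn
  obtain ⟨c, -, k2, k3, k4⟩ := ha.exists_central hb hn
  exact hne (h.uniq k2 (h.fix_of_commute ha ea k3.symm) (h.fix_of_commute hb eb k4.symm))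

theorem exists_swap {a b : G} {α β : Ω} (ha : In a) (hb : In b) (ea : a • α = α)
    (eb : b • β = β) (hne : α ≠ β) : ∃ v : G, In v ∧ v * a * v = b ∧ v • α = β ∧
      ∀ N : Subgroup G, a ∈ N → b ∈ N → v ∈ N := by
  obtain ⟨k, k1, k2⟩ := L.exists_invol_conj_of_odd ha.sq hb.sq (h.odd_mul ha hb ea eb hne)
  have hv : In (a * (a * b) ^ k) := ha.mul_pow hb k
  refine ⟨_, hv, k2, h.smul_eq_of_conj ha ea (by rw [hv.inv_eq, k2, eb]),
    fun N h1 h2 => mul_mem h1 (pow_mem (mul_mem h1 h2) k)⟩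

/-- The Latin square property. -/
theorem swap_unique {a v w : G} {α β : Ω} (ha : In a) (ea : a • α = α) (hne : α ≠ β)
    (hv : In v) (ev : v • α = β) (hw : In w) (ew : w • α = β) (e : v * a * v = w * a * w) :
    v = w := by
  have hb : In (v * a * v) := ha.conj_inv hv
  have eb : (v * a * v) • β = β := by rw [mul_smul, mul_smul, hv.smul_eq ev, ea, ev]
  obtain ⟨z, hz, z1, z2, z3⟩ := h.exists_swap ha hb ea eb hne
  have key : ∀ t : G, In t → t • α = β → t * a * t = z * a * z → t = z := by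
    intro t ht et e2
    have d1 : t * z ∈ St2 G α β :=
      ⟨show (t * z) • α = α by rw [mul_smul, z2, ht.smul_eq et],
       show (t * z) • β = β by rw [mul_smul, hz.smul_eq z2, et]⟩
    have c1 : a ∈ 𝐂[t * z] := mem_cent1.2 (by
      calc t * z * a = t * (z * a * z) * z := by
            rw [mul_assoc t (z * a * z), hz.mul_cancel_right, mul_assoc]
        _ = t * (t * a * t) * z := by rw [e2]
        _ = a * (t * z) := by rw [← mul_assoc, ← mul_assoc, ht.sq, one_mul, mul_assoc])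
    have c2 : v * a * v ∈ 𝐂[t * z] := mem_cent1.2 (by
      rw [← z1]
      calc t * z * (z * a * z) = t * (z * z) * a * z := by group
        _ = t * a * z := by rw [hz.sq, mul_one]
        _ = t * a * t * (t * z) := by rw [mul_assoc (t * a), ht.mul_cancel_left]
        _ = _ := by rw [e2])
    have c3 := mem_cent1.1 (z3 _ c1 c2)
    have d2 : t * z = (t * z)⁻¹ := by
      rw [mul_inv_rev, hz.inv_eq, ht.inv_eq]
      calc t * z = z * (z * (t * z)) := (hz.mul_cancel_left _).symm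
        _ = z * (t * z * z) := by rw [c3]
        _ = z * t := by rw [hz.mul_cancel_right]
    have d3 := eq_one_of_eq_inv (h.odd_of_mem_St2 hne ht hz d1) d2
    rw [eq_inv_of_mul_eq_one_left d3, hz.inv_eq]
  rw [key v hv ev z1.symm, key w hw ew (e.symm.trans z1.symm)]

/-- All involutions of `N` are conjugate in `N` once `N` moves the point. -/
theorem exists_conj_St2 {N : Subgroup G} {a a' : G} {α β : Ω} (ha : In a) (ha' : In a')
    (ea : a • α = α) (ea' : a' • α = α) (hne : α ≠ β) (haN : a ∈ N) (haN' : a' ∈ N)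
    (hβ : β ∈ Fx Ω N) : ∃ d ∈ N ⊓ St2 G α β, d * a * d⁻¹ = a' := by
  obtain ⟨b, hbN, hb, eb⟩ := hβ
  obtain ⟨v, hv, v1, v2, v3⟩ := h.exists_swap ha hb ea eb hne
  obtain ⟨w, hw, w1, w2, w3⟩ := h.exists_swap ha' hb ea' eb hne
  refine ⟨w * v, ⟨mul_mem (w3 N haN' hbN) (v3 N haN hbN), ?_, ?_⟩, ?_⟩
  · show (w * v) • α = α
    rw [mul_smul, v2, hw.smul_eq w2]
  · show (w * v) • β = β
    rw [mul_smul, hv.smul_eq v2, w2]
  · rw [mul_inv_rev, hv.inv_eq, hw.inv_eq]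
    calc w * v * a * (v * w) = w * (v * a * v) * w := by group
      _ = w * (w * a' * w) * w := by rw [v1, w1]
      _ = a' := by rw [mul_assoc w a', hw.mul_cancel_left, hw.mul_cancel_right]

theorem exists_swap_Fx {N : Subgroup G} {α β : Ω} (hα : α ∈ Fx Ω N) (hβ : β ∈ Fx Ω N)
    (hne : α ≠ β) : ∃ v ∈ N, In v ∧ v • α = β := by
  obtain ⟨a, haN, ha, ea⟩ := hα
  obtain ⟨b, hbN, hb, eb⟩ := hβ
  obtain ⟨v, hv, -, v2, v3⟩ := h.exists_swap ha hb ea eb hne
  exact ⟨v, v3 N haN hbN, hv, v2⟩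

theorem exists_smul_Fx {N : Subgroup G} {α β : Ω} (hα : α ∈ Fx Ω N) (hβ : β ∈ Fx Ω N) :
    ∃ g ∈ N, g • α = β := by
  by_cases e : α = β
  · exact ⟨1, one_mem N, by rw [one_smul, e]⟩
  · obtain ⟨v, h1, -, h2⟩ := h.exists_swap_Fx hα hβ e
    exact ⟨v, h1, h2⟩

theorem exists_conj {N : Subgroup G} (hN : (Fx Ω N).Nontrivial) {a b : G} (ha : In a)
    (hb : In b) (haN : a ∈ N) (hbN : b ∈ N) : ∃ g ∈ N, g * a * g⁻¹ = b := by
  obtain ⟨α, ea⟩ := h.ex ha
  obtain ⟨β, eb⟩ := h.ex hb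
  by_cases e : α = β
  · subst e
    obtain ⟨γ, hγ, hne⟩ := hN.exists_ne α
    obtain ⟨d, hd, h1⟩ := h.exists_conj_St2 ha hb ea eb hne.symm haN hbN hγ
    exact ⟨d, hd.1, h1⟩
  · obtain ⟨v, hv, v1, -, v3⟩ := h.exists_swap ha hb ea eb e
    exact ⟨v, v3 N haN hbN, by rw [hv.inv_eq, v1]⟩

/-- For `u ∈ J`, the set `K` of elements of `D` inverted by `u` is sharply transitive on
`I_α`: existence. -/
theorem exists_K {u a a' : G} {α β : Ω} (hu : In u) (eu : u • α = β) (hne : α ≠ β)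
    (ha : In a) (ha' : In a') (ea : a • α = α) (ea' : a' • α = α) :
    ∃ k ∈ St2 G α β, Odd (orderOf k) ∧ u * k * u = k⁻¹ ∧ k * a * k⁻¹ = a' ∧
      ∀ N : Subgroup G, a ∈ N → a' ∈ N → u ∈ N → k ∈ N := by
  have hb : In (u * a' * u) := ha'.conj_inv hu
  have eb : (u * a' * u) • β = β := by rw [mul_smul, mul_smul, hu.smul_eq eu, ea', eu]
  obtain ⟨v, hv, v1, v2, v3⟩ := h.exists_swap ha hb ea eb hne
  have d1 : u * v ∈ St2 G α β :=
    ⟨show (u * v) • α = α by rw [mul_smul, v2, hu.smul_eq eu],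
     show (u * v) • β = β by rw [mul_smul, hv.smul_eq v2, eu]⟩
  refine ⟨u * v, d1, h.odd_of_mem_St2 hne hu hv d1, ?_, ?_, fun N h1 h2 h3 =>
    mul_mem h3 (v3 N h1 (mul_mem (mul_mem h3 h2) h3))⟩
  · rw [hu.mul_cancel_left, mul_inv_rev, hu.inv_eq, hv.inv_eq]
  · rw [mul_inv_rev, hv.inv_eq, hu.inv_eq]
    calc u * v * a * (v * u) = u * (v * a * v) * u := by group
      _ = a' := by rw [v1, mul_assoc u a', hu.mul_cancel_left, hu.mul_cancel_right]

omit h in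
theorem inv_mul_K {u k : G} {α β : Ω} (hu : In u) (eu : u • α = β)
    (hk : k ∈ St2 G α β) (ho : Odd (orderOf k)) (hi : u * k * u = k⁻¹) :
    In (u * k) ∧ (u * k) • α = β :=
  ⟨hu.mul_of_inverts ho hi, by rw [mul_smul, hk.1, eu]⟩

/-- Uniqueness in `exists_K`. -/
theorem K_unique {u a k l : G} {α β : Ω} (hu : In u) (eu : u • α = β) (hne : α ≠ β)
    (ha : In a) (ea : a • α = α) (hk : k ∈ St2 G α β) (hko : Odd (orderOf k))
    (hki : u * k * u = k⁻¹) (hl : l ∈ St2 G α β) (hlo : Odd (orderOf l)) (hli : u * l * u = l⁻¹)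
    (e : k * a * k⁻¹ = l * a * l⁻¹) : k = l := by
  obtain ⟨k1, k2⟩ := inv_mul_K hu eu hk hko hki
  obtain ⟨l1, l2⟩ := inv_mul_K hu eu hl hlo hli
  refine mul_left_cancel (a := u) (h.swap_unique ha ea hne k1 k2 l1 l2 ?_)
  calc u * k * a * (u * k) = u * k * a * (u * k)⁻¹ := by rw [k1.inv_eq]
    _ = u * (k * a * k⁻¹) * u⁻¹ := by group
    _ = u * l * a * (u * l)⁻¹ := by rw [e]; group
    _ = _ := by rw [l1.inv_eq]

/-- A nontrivial element of `K` centralizes no member of the class fixing `α`. -/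
theorem K_eq_one {u a k : G} {α β : Ω} (hu : In u) (eu : u • α = β) (hne : α ≠ β)
    (ha : In a) (ea : a • α = α) (hk : k ∈ St2 G α β) (hko : Odd (orderOf k))
    (hki : u * k * u = k⁻¹) (hc : k * a = a * k) : k = 1 :=
  h.K_unique hu eu hne ha ea hk hko hki (one_mem _) (by simp) (by simp [hu.sq])
    (by rw [hc]; group)

/-- Two involutions swapping `α` and `β` are conjugate under `D`. -/
theorem exists_conj_J {u v : G} {α β : Ω} (hu : In u) (eu : u • α = β) (hne : α ≠ β)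
    (hv : In v) (ev : v • α = β) : ∃ d ∈ zpowers (u * v), d ∈ St2 G α β ∧ d * u * d⁻¹ = v := by
  have d1 : u * v ∈ St2 G α β :=
    ⟨show (u * v) • α = α by rw [mul_smul, ev, hu.smul_eq eu],
     show (u * v) • β = β by rw [mul_smul, hv.smul_eq ev, eu]⟩
  obtain ⟨y, hy, e⟩ := exists_conj_of_odd hu.toInv hv.toInv (h.odd_of_mem_St2 hne hu hv d1)
  exact ⟨y, hy, (zpowers_le.2 d1) hy, e⟩

theorem ncard_Jv {N : Subgroup G} {u : G} {α β : Ω} (hu : In u) (eu : u • α = β) (hne : α ≠ β)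
    (huN : u ∈ N) : (Jv G α β ∩ N).ncard = 𝐂[u].relIndex (N ⊓ St2 G α β) := by
  rw [← ncard_class]
  congr 1
  ext v
  constructor
  · rintro ⟨⟨hv, ev⟩, hvN⟩
    obtain ⟨d, d1, d2, d3⟩ := h.exists_conj_J hu eu hne hv ev
    exact ⟨d, ⟨(zpowers_le.2 (mul_mem huN hvN)) d1, d2⟩, d3⟩
  · rintro ⟨d, ⟨d1, d2⟩, rfl⟩
    refine ⟨⟨hu.conj d, ?_⟩, mul_mem (mul_mem d1 huN) (inv_mem d1)⟩
    have := conj_smul_smul d u α
    rwa [d2.1, eu, d2.2] at this

theorem ncard_Iv {N : Subgroup G} {a : G} {α β : Ω} (ha : In a) (ea : a • α = α) (hne : α ≠ β)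
    (haN : a ∈ N) (hβ : β ∈ Fx Ω N) :
    (Iv G α ∩ N).ncard = 𝐂[a].relIndex (N ⊓ St2 G α β) := by
  rw [← ncard_class]
  congr 1
  ext v
  constructor
  · rintro ⟨⟨hv, ev⟩, hvN⟩
    exact h.exists_conj_St2 ha hv ea ev hne haN hvN hβ
  · rintro ⟨d, ⟨d1, d2⟩, rfl⟩
    exact ⟨⟨ha.conj d, conj_fix' ea d2.1⟩, mul_mem (mul_mem d1 haN) (inv_mem d1)⟩

theorem ncard_Jv_eq_Iv {N : Subgroup G} {α β : Ω} (hne : α ≠ β) (hα : α ∈ Fx Ω N) :
    (Jv G α β ∩ N).ncard = (Iv G β ∩ N).ncard := by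
  obtain ⟨a, haN, ha, ea⟩ := hα
  refine Set.ncard_congr (fun v _ => v * a * v) ?_ ?_ ?_
  · rintro v ⟨⟨hv, ev⟩, hvN⟩
    exact ⟨⟨ha.conj_inv hv, by rw [mul_smul, mul_smul, hv.smul_eq ev, ea, ev]⟩,
      mul_mem (mul_mem hvN haN) hvN⟩
  · rintro v w ⟨⟨hv, ev⟩, -⟩ ⟨⟨hw, ew⟩, -⟩ e
    exact h.swap_unique ha ea hne hv ev hw ew e
  · rintro b ⟨⟨hb, eb⟩, hbN⟩
    obtain ⟨v, hv, v1, v2, v3⟩ := h.exists_swap ha hb ea eb hne
    exact ⟨v, ⟨⟨hv, v2⟩, v3 N haN hbN⟩, v1⟩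

omit h [Finite G] in
theorem ncard_Iv_smul (g : G) (α : Ω) : (Iv G (g • α)).ncard = (Iv G α).ncard := by
  symm
  refine Set.ncard_congr (fun a _ => g * a * g⁻¹) ?_ ?_ ?_
  · rintro a ⟨ha, ea⟩
    exact ⟨ha.conj g, conj_fix ea⟩
  · intro a b _ _ e
    simpa using e
  · rintro b ⟨hb, eb⟩
    refine ⟨g⁻¹ * b * g, ⟨hb.conj' g, ?_⟩, by group⟩
    rw [mul_smul, mul_smul, eb, inv_smul_smul]

/-- A four-group fixing `δ` forces every odd order subgroup it normalizes to fix `δ`. -/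
theorem le_stab_of_four {a b : G} {δ : Ω} (ha : In a) (hb : In b) (hne : a ≠ b)
    (hc : a * b = b * a) (ea : a • δ = δ) {X : Subgroup G} (hX : Odd 𝐨(X)) (h1 : a ∈ 𝐍(X))
    (h2 : b ∈ 𝐍(X)) : X ≤ stabilizer G δ := by
  have hbc : zpowers b ≤ 𝐂(zpowers a) := by
    rw [cent_zpowers, zpowers_le]; exact mem_cent1.2 hc
  have he : IsElementaryAbelian 2 (zpowers a ⊔ zpowers b) :=
    elemAb_sup (elemAb_zpowers (by rw [pow_two, ha.sq])) (elemAb_zpowers (by rw [pow_two, hb.sq]))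
      hbc
  have hcomm : IsMulCommutative ↥(zpowers a ⊔ zpowers b) := he.1
  have hsq : ∀ x ∈ zpowers a ⊔ zpowers b, x * x = 1 := fun x hx => by
    have := congrArg Subtype.val (H1.pow_eq_one_of_isElementaryAbelian he ⟨x, hx⟩)
    rwa [← pow_two]
  have haV : a ∈ zpowers a ⊔ zpowers b := mem_sup_left (mem_zpowers a)
  have hbV : b ∈ zpowers a ⊔ zpowers b := mem_sup_right (mem_zpowers b)
  refine H1.le_of_forall_centralizer_le hcomm (fun hcy => ?_)
    (sup_le (zpowers_le.2 h1) (zpowers_le.2 h2)) ?_ fun c hc1 hc2 => ?_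
  · have := eq_of_card_prime_of_isCyclic Nat.prime_two hcy le_sup_left le_sup_right
      ha.card_zpowers hb.card_zpowers
    have h3 : a ∈ zpowers b := this ▸ mem_zpowers a
    obtain ⟨n, hn⟩ := mem_powers_iff_mem_zpowers.2 h3
    rcases Nat.even_or_odd' n with ⟨k, rfl | rfl⟩
    · exact ha.ne (by rw [← hn]; simp only [pow_mul, pow_two, hb.sq, one_pow])
    · exact hne (by rw [← hn]; simp only [pow_succ, pow_mul, pow_zero, one_mul, hb.sq, one_pow])
  · obtain ⟨n, hn⟩ := exists_card_eq_pow Nat.prime_two (elemAb_isPGroup he)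
    rw [hn]
    exact (Nat.coprime_two_left.2 hX).pow_left n
  · have hci : In c := by
      obtain ⟨x, hx, y, hy, rfl⟩ := (mem_sup_of_norm (hbc.trans (cent_le_norm _))).1 hc1
      rcases ha.mem_zpowers_iff.1 hx with rfl | rfl <;>
        rcases hb.mem_zpowers_iff.1 hy with rfl | rfl
      · exact absurd (mul_one 1) hc2
      · rwa [one_mul]
      · rwa [mul_one]
      · exact ha.mul hb hne hc
    have ec : c • δ = δ := h.fix_of_commute ha ea
      (mem_cent.1 (isMulComm_iff_le_cent.1 hcomm hc1) a haV)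
    exact inf_le_right.trans (h.cent1_le hci ec)

/-- Odd order subgroups normalized by a subgroup of rank at least two fix `Fx`. -/
theorem le_stab_of_rk2 {N X : Subgroup G} (hN : Rk2 N) (hX : Odd 𝐨(X)) (hn : N ≤ 𝐍(X)) {δ : Ω}
    (hδ : δ ∈ Fx Ω N) : X ≤ stabilizer G δ := by
  obtain ⟨a, haN, b, hbN, ha, hb, hne, hc⟩ := hN
  obtain ⟨γ, eγ⟩ := h.ex ha
  obtain ⟨g, hg, rfl⟩ := h.exists_smul_Fx ⟨a, haN, ha, eγ⟩ hδ
  exact le_stab_smul (hn hg) (h.le_stab_of_four ha hb hne hc eγ hX (hn haN) (hn hbN))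

theorem rk2_stab {N : Subgroup G} (hN : Rk2 N) {δ : Ω} (hδ : δ ∈ Fx Ω N) :
    Rk2 (N ⊓ stabilizer G δ) := by
  obtain ⟨a, haN, b, hbN, ha, hb, hne, hc⟩ := hN
  obtain ⟨γ, eγ⟩ := h.ex ha
  obtain ⟨g, hg, rfl⟩ := h.exists_smul_Fx ⟨a, haN, ha, eγ⟩ hδ
  have : Rk2 (N ⊓ stabilizer G γ) :=
    ⟨a, ⟨haN, eγ⟩, b, ⟨hbN, h.fix_of_commute ha eγ hc⟩, ha, hb, hne, hc⟩
  have h2 := this.conj g
  rwa [conj_inf, conj_eq_of_mem hg, ← stabilizer_smul'] at h2

/-- (U0) -/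
theorem norm_le_of_inv_of_cent {e a b : G} {δ : Ω} (he : Odd (orderOf e)) (he1 : e ≠ 1)
    (ha : In a) (hb : In b) (ea : a • δ = δ) (eb : b • δ = δ) (hi : a * e * a = e⁻¹)
    (hc : b * e = e * b) : 𝐍(zpowers e) ≤ stabilizer G δ := by
  intro g hg
  by_contra hne
  have haN : a ∈ 𝐍(zpowers e) := mem_norm_of_conj_le (by
    rw [← zpowers_conj, ha.inv_eq, hi, zpowers_inv])
  have hbC : b ∈ 𝐂(zpowers e) := by rw [cent_zpowers]; exact mem_cent1.2 hc.symm
  have hbN := cent_le_norm _ hbC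
  obtain ⟨d, hd, e1⟩ := h.exists_conj_St2 hb ha eb ea (fun e => hne e.symm) hbN haN
    (smul_mem_Fx' hg ⟨a, haN, ha, ea⟩)
  have h3 : a ∈ 𝐂(zpowers e) :=
    e1 ▸ H1.conj_mem_of_le_normalizer (H1.normalizer_le_normalizer_centralizer _) hd.1 hbC
  have h4 := mem_cent.1 h3 e (mem_zpowers e)
  rw [← h4, ha.mul_cancel_right] at hi
  exact he1 (eq_one_of_eq_inv he hi)

end SE

theorem NW.not_dvd [Finite G] {r : ℕ} (hr : r.Prime) (h : NW G Ω r) {Y : Subgroup G}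
    (hY : Odd 𝐨(Y)) {c : G} {γ : Ω} (hc : In c) (ec : c • γ = γ) (hYγ : Y ≤ stabilizer G γ)
    (hn : c ∈ 𝐍(Y)) : ¬ r ∣ 𝐂[c].relIndex Y := fun hd => by
  obtain ⟨x, hx, ho, hi⟩ := exists_inverted_of_dvd hr hY hc.toInv hn hd
  exact h x c γ ho hc ec (hYγ hx) hi

end Cfsg.Agent.P14.C
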