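/-
P14, chapter C: basic facts (swapping involutions, `BT`, the uniqueness lemma).
-/
import Cfsg.Agent.P14.C0

set_option autoImplicit false
set_option linter.unusedSectionVars false

namespace Cfsg.Agent.P14.C

open Subgroup Cfsg Cfsg.Agent Cfsg.Agent.FT MulAction Cfsg.Agent.P6
open scoped commutatorElement

universe u v

variable {G : Type u} [Group G] [Finite G] [ICl G] {Ω : Type v} [MulAction G Ω]

omit [ICl G] in
theorem odd_sup {X Y : Subgroup G} (hX : Odd 𝐨(X)) (hY : Odd 𝐨(Y)) (hn : X ≤ 𝐍(Y)) :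
    Odd 𝐨((X ⊔ Y : Subgroup G)) := (hX.mul hY).of_dvd_nat (H1.card_sup_dvd hn)

omit [ICl G] [Finite G] in
/-- `a` normalizes `X ⊔ O` when it is central in `X` modulo `O`. -/
theorem mem_norm_sup [Finite G] {X O : Subgroup G} {a : G} (ha : a ∈ 𝐍(O))
    (h : ∀ x ∈ X, ⁅x, a⁆ ∈ O) : a ∈ 𝐍((X ⊔ O : Subgroup G)) := by
  refine mem_norm_of_conj_le ?_
  rw [conj_sup, conj_eq_of_mem_norm ha]
  refine sup_le (fun y hy => ?_) le_sup_right
  obtain ⟨x, hx, rfl⟩ := mem_conj'.1 hy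
  have : a * x * a⁻¹ = ⁅x, a⁆⁻¹ * x := by simp only [commutatorElement_def]; group
  rw [this]
  exact mul_mem (mem_sup_right (inv_mem (h x hx))) (mem_sup_left hx)

theorem mul_mem_Od {N : Subgroup G} (h : ¬ Rk2 N) {a b : G} (ha : a ∈ N) (hb : b ∈ N)
    (h1 : In a) (h2 : In b) : a * b ∈ Od N := by
  obtain ⟨y, hy, e⟩ := exists_conj_of_odd h1.toInv h2.toInv (odd_mul_of_not_rk2 h ha hb h1 h2)
  have := inv_mem (comm_mem_Od h ha h1 ((zpowers_le.2 (mul_mem ha hb)) hy))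
  rwa [commutatorElement_def, e, mul_inv_rev, inv_inv, h2.inv_eq] at this

omit [Finite G] in
theorem J_mem_norm {u : G} {α β : Ω} (hu : In u) (eu : u • α = β) : u ∈ 𝐍(St2 G α β) :=
  P6.Min.J_mem_norm hu.toInv eu

/-- Under `NW r`, an `r`-group that fixes `a` modulo `O` fixes an `O`-conjugate of `a`. -/
theorem NW.cent_lift {r : ℕ} (hr : r.Prime) (h : NW G Ω r) {X O : Subgroup G} (hX : IsPGroup r X)
    (hO : Odd 𝐨(O)) {a : G} {δ : Ω} (ha : In a) (ea : a • δ = δ) (hOδ : O ≤ stabilizer G δ)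
    (haO : a ∈ 𝐍(O)) (hXO : X ≤ 𝐍(O)) (hc : ∀ x ∈ X, ⁅x, a⁆ ∈ O) :
    ∃ o ∈ O, o * a * o⁻¹ ∈ 𝐂(X) := by
  obtain ⟨_, ⟨o, ho, rfl⟩, h2⟩ := exists_cent_of_not_dvd hr hX
    (S := {c | ∃ y ∈ O, y * a * y⁻¹ = c}) (by
      rintro x hx _ ⟨y, hy, rfl⟩
      obtain ⟨z, hz, e⟩ := exists_conj_of_odd ha.toInv (ha.conj x).toInv
        (odd_orderOf_of_mem hO (by
          have := inv_mem (hc x hx)
          rwa [commutatorElement_def, mul_inv_rev, inv_inv, (ha.conj x).inv_eq] at this))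
      have hzO : z ∈ O := (zpowers_le.2 (by
        have := inv_mem (hc x hx)
        rwa [commutatorElement_def, mul_inv_rev, inv_inv, (ha.conj x).inv_eq] at this)) hz
      refine ⟨x * y * x⁻¹ * z, mul_mem ((mem_normalizer_iff.1 (hXO hx) y).1 hy) hzO, ?_⟩
      calc x * y * x⁻¹ * z * a * (x * y * x⁻¹ * z)⁻¹
          = x * y * x⁻¹ * (z * a * z⁻¹) * (x * y * x⁻¹)⁻¹ := by group
        _ = _ := by rw [e]; group)
    (by rw [ncard_class]; exact h.not_dvd hr hO ha ea hOδ haO)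
  exact ⟨o, ho, h2⟩

/-- Three points that are pairwise swapped inside a subgroup of rank one. -/
theorem exists_fix_of_swaps {N : Subgroup G} (hN : ¬ Rk2 N) {δ ε ζ : Ω} {v w t : G} (hv : In v)
    (hw : In w) (ht : In t) (vN : v ∈ N) (wN : w ∈ N) (tN : t ∈ N) (ev : v • δ = ε)
    (ew : w • δ = ζ) (et : t • ζ = ε) : ∃ y ∈ Od N, v • y • δ = y • δ :=
  exists_fixed_orbit (odd_Od N) hv.toInv ((Od_normal N).2 vN) (mul_mem_Od hN tN wN ht hw)
    (by rw [mul_smul, ew, et, ev])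

namespace SE

variable (h : SE G Ω)
include h

/-- A swapping member of the class is central in the two point stabilizer modulo `O`. -/
theorem comm_J_mem {N : Subgroup G} {u g : G} {α β : Ω} (hu : In u) (eu : u • α = β)
    (hne : α ≠ β) (huN : u ∈ N) (hg : g ∈ N ⊓ St2 G α β) : ⁅g, u⁆ ∈ Od (N ⊓ St2 G α β) := by
  have hn : zpowers u ≤ 𝐍((N ⊓ St2 G α β : Subgroup G)) :=
    H1.le_normalizer_inf (zpowers_le.2 (le_norm_self N huN)) (zpowers_le.2 (J_mem_norm hu eu))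
  have hmem : ∀ x ∈ (N ⊓ St2 G α β) ⊔ zpowers u, x ∈ N ⊓ St2 G α β ∨ (x • α = β ∧ x • β = α) := by
    intro x hx
    obtain ⟨d, hd, z, hz, rfl⟩ := (mem_sup_of_norm hn).1 hx
    rcases hu.mem_zpowers_iff.1 hz with rfl | rfl
    · left; rwa [mul_one]
    · right
      exact ⟨by rw [mul_smul, eu]; exact hd.2.2, by rw [mul_smul, hu.smul_eq eu]; exact hd.2.1⟩
  have hrk : ¬ Rk2 ((N ⊓ St2 G α β) ⊔ zpowers u) := by
    rintro ⟨a, ha, b, hb, ia, ib, hab, hc⟩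
    have k1 := (hmem a ha).resolve_left fun e => h.not_mem_St2 hne ia e.2
    have k2 := (hmem b hb).resolve_left fun e => h.not_mem_St2 hne ib e.2
    exact h.not_mem_St2 hne (ia.mul ib hab hc)
      ⟨show (a * b) • α = α by rw [mul_smul, k2.1, k1.2],
       show (a * b) • β = β by rw [mul_smul, k2.2, k1.1]⟩
  have h1 := comm_mem_Od hrk (mem_sup_right (mem_zpowers u)) hu (mem_sup_left hg)
  have h2 : Od ((N ⊓ St2 G α β) ⊔ zpowers u) ≤ N ⊓ St2 G α β := fun x hx =>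
    (hmem x ((Od_normal _).1 hx)).resolve_right fun e =>
      hne (eq_of_swap_of_odd (odd_orderOf_of_mem (odd_Od _) hx) e.1 e.2)
  exact le_Od ⟨h2, le_sup_left.trans (Od_normal _).2⟩ (odd_Od _) h1

theorem comm_J_mem' {u g : G} {α β : Ω} (hu : In u) (eu : u • α = β)
    (hne : α ≠ β) (hg : g ∈ St2 G α β) : ⁅g, u⁆ ∈ Od (St2 G α β) := by
  simpa using h.comm_J_mem (N := ⊤) hu eu hne (mem_top u) ⟨mem_top g, hg⟩

/-- `K ⊆ O(D)`. -/
theorem K_mem_Od {N : Subgroup G} {u k : G} {α β : Ω} (hu : In u) (eu : u • α = β)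
    (hne : α ≠ β) (huN : u ∈ N) (hk : k ∈ N ⊓ St2 G α β) (ho : Odd (orderOf k))
    (hi : u * k * u = k⁻¹) : k ∈ Od (N ⊓ St2 G α β) := by
  refine mem_of_sq_mem ho ?_
  have := h.comm_J_mem hu eu hne huN hk
  have e := congrArg (·⁻¹) hi
  simp only [mul_inv_rev, hu.inv_eq, inv_inv] at e
  rwa [commutatorElement_def, hu.inv_eq, mul_assoc, mul_assoc, e] at this

theorem J_norm_Od {N : Subgroup G} {u : G} {α β : Ω} (hu : In u) (eu : u • α = β)
    (huN : u ∈ N) : u ∈ 𝐍(Od (N ⊓ St2 G α β)) :=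
  norm_le_norm_Od _ (H1.le_normalizer_inf (zpowers_le.2 (le_norm_self N huN))
    (zpowers_le.2 (J_mem_norm hu eu)) (mem_zpowers u))

theorem ncard_Jv_Od {N : Subgroup G} {u : G} {α β : Ω} (hu : In u) (eu : u • α = β)
    (hne : α ≠ β) (huN : u ∈ N) :
    (Jv G α β ∩ N).ncard = 𝐂[u].relIndex (Od (N ⊓ St2 G α β)) := by
  rw [← ncard_class]
  congr 1
  ext v
  constructor
  · rintro ⟨⟨hv, ev⟩, hvN⟩
    obtain ⟨d, d1, d2, d3⟩ := h.exists_conj_J hu eu hne hv ev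
    have d4 : u * v ∈ St2 G α β :=
      ⟨show (u * v) • α = α by rw [mul_smul, ev, hu.smul_eq eu],
       show (u * v) • β = β by rw [mul_smul, hv.smul_eq ev, eu]⟩
    refine ⟨d, (zpowers_le.2 (h.K_mem_Od hu eu hne huN ⟨mul_mem huN hvN, d4⟩
      (h.odd_of_mem_St2 hne hu hv d4) ?_)) d1, d3⟩
    rw [hu.mul_cancel_left, mul_inv_rev, hu.inv_eq, hv.inv_eq]
  · rintro ⟨d, hd, rfl⟩
    obtain ⟨d1, d2⟩ := (Od_normal _).1 hd
    refine ⟨⟨hu.conj d, ?_⟩, mul_mem (mul_mem d1 huN) (inv_mem d1)⟩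
    have := conj_smul_smul d u α
    rwa [d2.1, eu, d2.2] at this

/-- `O(D)` is transitive on the members of the class fixing `α`. -/
theorem exists_conj_Od {N : Subgroup G} {a a' : G} {α β : Ω} (ha : In a) (ha' : In a')
    (ea : a • α = α) (ea' : a' • α = α) (hne : α ≠ β) (haN : a ∈ N) (haN' : a' ∈ N)
    (hβ : β ∈ Fx Ω N) : ∃ d ∈ Od (N ⊓ St2 G α β), d * a * d⁻¹ = a' := by
  obtain ⟨u, huN, hu, eu⟩ := h.exists_swap_Fx ⟨a, haN, ha, ea⟩ hβ hne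
  obtain ⟨k, hk, ho, hi, e, hN⟩ := h.exists_K hu eu hne ha ha' ea ea'
  exact ⟨k, h.K_mem_Od hu eu hne huN ⟨hN N haN haN' huN, hk⟩ ho hi, e⟩

/-- A Sylow subgroup of a two point stabilizer is normalized by a swapping involution. -/
theorem exists_swap_norm {r : ℕ} (hr : r.Prime) (h2 : r ≠ 2) {N X : Subgroup G} {δ ε : Ω}
    (hne : δ ≠ ε) {u : G} (hu : In u) (eu : u • δ = ε) (huN : u ∈ N)
    (hX : IsSyl r X (N ⊓ St2 G δ ε)) : ∃ v ∈ N ⊓ 𝐍(X), In v ∧ v • δ = ε := by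
  have hO := Od_normal (N ⊓ St2 G δ ε)
  have hle : X ⊔ Od (N ⊓ St2 G δ ε) ≤ N ⊓ St2 G δ ε := sup_le hX.le hO.1
  obtain ⟨P, hP, -, hPn⟩ := exists_invariant_isSyl hr
    (zpowers_le.2 (mem_norm_sup (h.J_norm_Od hu eu huN)
      fun x hx => h.comm_J_mem hu eu hne huN (hX.le hx)))
    (hu.coprime (odd_sup (odd_of_isPGroup hr h2 hX.pgrp) (odd_Od _) (hX.le.trans hO.2)))
    (Or.inl (Inv.solv u)) (IsPGroup.of_bot (p := r)) bot_le (by rw [norm_bot]; exact le_top)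
  obtain ⟨g, hg, e⟩ := (hX.of_le le_sup_left hle).exists_conj_eq hr hP
  have hg' := hle hg
  refine ⟨g * u * g⁻¹, ⟨N.mul_mem (N.mul_mem hg'.1 huN) (N.inv_mem hg'.1), ?_⟩, hu.conj g, ?_⟩
  · show _ ∈ 𝐍(X)
    rw [← e, norm_conj]; exact conj_mem_conj (hPn (mem_zpowers u)) g
  · have := conj_smul_smul g u δ
    rwa [hg'.2.1, eu, hg'.2.2] at this

end SE

/-! ### The uniqueness lemma -/

theorem SE.le_stab_of_pair (h : SE G Ω) {p : ℕ} (hp : p.Prime) (hp2 : p ≠ 2) {e f a b c : G}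
    {δ : Ω} (he : orderOf e = p) (hf : orderOf f = p) (hef : e * f = f * e) (ha : In a)
    (hb : In b) (hc : In c) (ea : a • δ = δ) (eb : b • δ = δ) (ae : a * e * a = e⁻¹)
    (af : a * f * a = f⁻¹) (be : b * e = e * b) (bf : b * f = f * b) (ce : c * e = e * c)
    (cf : c * f * c = f⁻¹) {X : Subgroup G} (hX : 𝐨(X).Coprime p) (eX : e ∈ 𝐍(X))
    (fX : f ∈ 𝐍(X)) : X ≤ stabilizer G δ := by
  have hbc : zpowers f ≤ 𝐂(zpowers e) := by
    rw [cent_zpowers, zpowers_le]; exact mem_cent1.2 hef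
  have hE : IsElementaryAbelian p (zpowers e ⊔ zpowers f) :=
    elemAb_sup (elemAb_zpowers (he ▸ pow_orderOf_eq_one e))
      (elemAb_zpowers (hf ▸ pow_orderOf_eq_one f)) hbc
  have ho : Odd 𝐨((zpowers e ⊔ zpowers f : Subgroup G)) :=
    odd_of_isPGroup hp hp2 (elemAb_isPGroup hE)
  refine H1.le_of_forall_centralizer_le hE.1 (fun hcy => ?_)
    (sup_le (zpowers_le.2 eX) (zpowers_le.2 fX)) ?_ fun x hx hx1 => ?_
  · have h1 := eq_of_card_prime_of_isCyclic hp hcy le_sup_left le_sup_right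
      ((Nat.card_zpowers e).trans he) ((Nat.card_zpowers f).trans hf)
    have h2 : f ∈ 𝐂[c] := (zpowers_le.2 (mem_cent1.2 ce) : zpowers e ≤ 𝐂[c])
      (h1 ▸ mem_zpowers f)
    rw [hc.conj_eq_of_comm (mem_cent1.1 h2)] at cf
    have := eq_one_of_eq_inv (hf ▸ hp.odd_of_ne_two hp2) cf
    rw [this, orderOf_one] at hf
    exact hp.one_lt.ne hf
  · obtain ⟨n, hn⟩ := exists_card_eq_pow hp (elemAb_isPGroup hE)
    rw [hn]
    exact hX.symm.pow_left n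
  · have h1 : x ∈ 𝐂[b] := (sup_le (zpowers_le.2 (mem_cent1.2 be)) (zpowers_le.2 (mem_cent1.2 bf)) :
      zpowers e ⊔ zpowers f ≤ 𝐂[b]) hx
    have h2 : a * x * a = x⁻¹ := by
      obtain ⟨y, hy, z, hz, rfl⟩ := (mem_sup_of_norm (hbc.trans (cent_le_norm _))).1 hx
      calc a * (y * z) * a = (a * y * a) * (a * z * a) := by
            rw [mul_assoc (a * y) a, ← mul_assoc a (a * z), ha.mul_cancel_left]; group
        _ = (y * z)⁻¹ := by
            rw [inverts_of_mem_zpowers ha.sq ae hy, inverts_of_mem_zpowers ha.sq af hz,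
              mem_cent.1 (hbc hz) y hy, mul_inv_rev]
    refine inf_le_right.trans ?_
    rw [← cent_zpowers]
    exact (cent_le_norm _).trans (h.norm_le_of_inv_of_cent (odd_orderOf_of_mem ho hx) hx1 ha hb
      ea eb h2 (mem_cent1.1 h1))

theorem SE.le_stab_of_rank3 (h : SE G Ω) {p n : ℕ} (hp : p.Prime) (hp2 : p ≠ 2) {T A : Subgroup G}
    (hT : IsPGroup p T) (hA : IsElem 2 n A) (hn : 3 ≤ n) {δ : Ω} (hAδ : A ≤ stabilizer G δ)
    (hAT : A ≤ 𝐍(T)) (hinv : ∀ a ∈ A, a ≠ 1 → In a) (hf : ∀ a ∈ A, In a → a ∉ 𝐂(T)) 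
    {X : Subgroup G} (hX : 𝐨(X).Coprime p) (hTX : T ≤ 𝐍(X)) : X ≤ stabilizer G δ := by
  have hA1 := hA.ne_bot Nat.prime_two (by omega)
  obtain ⟨a1, ha1, ha11⟩ := (A.bot_or_exists_ne_one).resolve_left hA1
  have hT1 : T ≠ ⊥ := by
    rintro rfl
    exact hf a1 ha1 (hinv a1 ha1 ha11) (by rw [cent_bot]; exact mem_top _)
  obtain ⟨P, hPT, hPn, -, hP2, hPe, hPf⟩ := critical_odd hp hp2 hT hT1
  have hPo : Odd 𝐨(P) := odd_of_le hPT (odd_of_isPGroup hp hp2 hT)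
  have hord : ∀ e ∈ P, e ≠ 1 → orderOf e = p := fun e he h1 =>
    haveI := Fact.mk hp; orderOf_eq_prime (hPe e he) h1
  have hcard : ∀ B : Subgroup G, B ≤ A → B.relIndex A ≤ 4 → ∃ b ∈ B, b ≠ 1 := fun B hB hi => by
    refine (B.bot_or_exists_ne_one).resolve_left ?_
    rintro rfl
    rw [relIndex_bot_left, hA.card] at hi
    have := Nat.pow_le_pow_right (by norm_num : 0 < 2) hn
    omega
  have hidx : ∀ B : Subgroup G, B.relIndex A = 2 → ∀ x ∈ A, ∀ y ∈ A,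
      (x * y ∈ B ↔ (x ∈ B ↔ y ∈ B)) := fun B hB x hx y hy =>
    mul_mem_iff_of_index_two (H := B.subgroupOf A) hB (a := ⟨x, hx⟩) (b := ⟨y, hy⟩)
  have wt : ∀ a ∈ A, a ≠ 1 → ∃ B : Subgroup G, B ≤ A ∧ B.relIndex A = 2 ∧ a ∉ B ∧
      ∃ e ∈ P, e ≠ 1 ∧ (∀ c ∈ B, c * e = e * c) ∧ ∀ c ∈ A, c ∉ B → c * e * c = e⁻¹ := by
    intro a ha h1
    have hai := hinv a ha h1
    obtain ⟨B, hB, hi, hc⟩ : ∃ B : Subgroup G, B ≤ A ∧ B.relIndex A = 2 ∧
        ¬ P ⊓ 𝐂(B) ≤ 𝐂[a] := by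
      by_contra hc
      push Not at hc
      have h2 := H1.le_of_forall_hyperplane Nat.prime_two hA.elemAb hA1 (hAT.trans hPn)
        (by rw [hA.card]; exact (Nat.coprime_two_left.2 hPo).pow_left n) hc
      exact hf a ha hai (hPf (zpowers a) (zpowers_le.2 (hAT ha))
        (by rw [hai.card_zpowers]; exact (Nat.coprime_primes Nat.prime_two hp).2 hp2.symm)
        (zpowers_le.2 (mem_cent_iff_cent1.2 h2)) (mem_zpowers a))
    obtain ⟨e, he, he1, hie⟩ := exists_inverted hai.sq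
      (H1.le_normalizer_inf_centralizer_of_comm hA.comm hB (hAT.trans hPn) ha)
      (fun hm => hc (mem_cent_iff_cent1.1 hm))
    have haB : a ∉ B := fun hm => hc (inf_le_right.trans (cent_le_cent1 hm))
    refine ⟨B, hB, hi, haB, e, he.1, he1, fun c hc => mem_cent.1 he.2 c hc, fun c hcA hcB => ?_⟩
    have h3 : c * a ∈ B := (hidx B hi c hcA a ha).2 (iff_of_false hcB haB)
    have h4 := mem_cent.1 he.2 _ h3
    have h5 : c * a = a * c := mem_cent.1 (hA.le_cent ha) c hcA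
    calc c * e * c = (c * a * a) * e * (a * (a * c)) := by
          rw [hai.mul_cancel_right, hai.mul_cancel_left]
      _ = (c * a) * (a * e * a) * (a * c) := by group
      _ = (c * a) * e⁻¹ * (c * a) := by rw [hie, h5]
      _ = e⁻¹ * ((c * a) * (c * a)) := by
          rw [(show Commute (c * a) e from h4).inv_right.eq, mul_assoc]
      _ = e⁻¹ := by
          rw [← pow_two, hA.elemAb.2 _ (mul_mem hcA ha), mul_one]
  obtain ⟨B1, l1, i1, n1, e1, m1, o1, c1, d1⟩ := wt a1 ha1 ha11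
  obtain ⟨a2, ha2, ha21⟩ := hcard B1 l1 (by omega)
  obtain ⟨B2, l2, i2, n2, e2, m2, o2, c2, d2⟩ := wt a2 (l1 ha2) ha21
  obtain ⟨b, hb, hb1⟩ := hcard (B1 ⊓ B2) (inf_le_left.trans l1)
    ((relIndex_inf_le).trans (by rw [i1, i2]))
  have hbi := hinv b (l1 hb.1) hb1
  have h2i := hinv a2 (l1 ha2) ha21
  have h12 : a1 * a2 ∈ A := mul_mem ha1 (l1 ha2)
  have n12 : a1 * a2 ∉ B1 := fun hm => n1 (((hidx B1 i1 a1 ha1 a2 (l1 ha2)).1 hm).2 ha2)
  by_cases hc : e1 * e2 = e2 * e1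
  · obtain ⟨a, ha, k1, k2⟩ : ∃ a ∈ A, a ∉ B1 ∧ a ∉ B2 := by
      by_cases k : a1 ∈ B2
      · exact ⟨_, h12, n12, fun hm => n2 (((hidx B2 i2 a1 ha1 a2 (l1 ha2)).1 hm).1 k)⟩
      · exact ⟨a1, ha1, n1, k⟩
    exact h.le_stab_of_pair hp hp2 (hord e1 m1 o1) (hord e2 m2 o2) hc
      (hinv a ha fun e => k1 (e ▸ one_mem _)) hbi h2i (hAδ ha) (hAδ (l1 hb.1)) (d1 a ha k1)
      (d2 a ha k2) (c1 b hb.1) (c2 b hb.2) (c1 a2 ha2) (d2 a2 (l1 ha2) n2) hX (hTX (hPT m1))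
      (hTX (hPT m2))
  · obtain ⟨a, ha, k1, k2⟩ : ∃ a ∈ A, a ∉ B1 ∧ a ∈ B2 := by
      by_cases k : a1 ∈ B2
      · exact ⟨a1, ha1, n1, k⟩
      · exact ⟨_, h12, n12, (hidx B2 i2 a1 ha1 a2 (l1 ha2)).2 (iff_of_false k n2)⟩
    have hz := hP2 (commutator_mem_commutator m1 (hPT m2))
    have hai := hinv a ha fun e => k1 (e ▸ one_mem _)
    have z1 := mem_cent.1 hz.2 e1 m1
    have z2 := mem_cent.1 hz.2 e2 m2
    refine h.le_stab_of_pair hp hp2 (hord e1 m1 o1) (hord _ hz.1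
      (fun e => hc (commutatorElement_eq_one_iff_mul_comm.1 e))) z1 hai hbi h2i (hAδ ha)
      (hAδ (l1 hb.1)) (d1 a ha k1) ?_ (c1 b hb.1) ?_ (c1 a2 ha2) ?_ hX (hTX (hPT m1))
      (hTX (hPT hz.1))
    · rw [hai.conj_comm, d1 a ha k1, hai.conj_eq_of_comm (c2 a k2), comm_inv_left z1.symm]
    · refine hbi.comm_of_conj_eq ?_
      rw [hbi.conj_comm, hbi.conj_eq_of_comm (c1 b hb.1), hbi.conj_eq_of_comm (c2 b hb.2)]
    · rw [h2i.conj_comm, h2i.conj_eq_of_comm (c1 a2 ha2), d2 a2 (l1 ha2) n2,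
        comm_inv_right z2.symm]

/-! ### Consequences of `BT` -/

/-- `Fx Ω N` as an `N`-set. -/
def fxSub (Ω : Type v) [MulAction G Ω] (N : Subgroup G) : SubMulAction N Ω where
  carrier := Fx Ω N
  smul_mem' g _ h := smul_mem_Fx' g.2 h

theorem mem_fxSub {N : Subgroup G} {α : Ω} : α ∈ fxSub Ω N ↔ α ∈ Fx Ω N := Iff.rfl

theorem SE.finite_Fx (h : SE G Ω) (N : Subgroup G) : (Fx Ω N).Finite := by
  rcases (Fx Ω N).eq_empty_or_nonempty with e | ⟨α, hα⟩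
  · rw [e]; exact Set.finite_empty
  · exact (Set.finite_range fun g : G => g • α).subset fun β hβ => by
      obtain ⟨g, -, e⟩ := h.exists_smul_Fx hα hβ
      exact ⟨g, e⟩

/-- The permutation representation of `N` on `Fx Ω N`. -/
def fxHom (Ω : Type v) [MulAction G Ω] (N : Subgroup G) : N →* Equiv.Perm (fxSub Ω N) :=
  toPermHom N (fxSub Ω N)

theorem fxHom_apply {N : Subgroup G} (g : N) (α : fxSub Ω N) :
    ((fxHom Ω N g α : fxSub Ω N) : Ω) = (g : G) • (α : Ω) := rfl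

theorem fxHom_eq_iff {N : Subgroup G} {g k : N} :
    fxHom Ω N g = fxHom Ω N k ↔ ∀ δ ∈ Fx Ω N, (g : G) • δ = (k : G) • δ :=
  ⟨fun e δ hδ => by
    have := congrArg (fun σ : Equiv.Perm (fxSub Ω N) => ((σ ⟨δ, hδ⟩ : fxSub Ω N) : Ω)) e
    exact this,
   fun e => Equiv.ext fun δ => Subtype.ext (e δ δ.2)⟩


namespace BTd

variable {N L : Subgroup G} {n : ℕ} (hN : BTd Ω N L n)
include hN

theorem nontrivial : (Fx Ω N).Nontrivial := by
  rw [← Set.one_lt_ncard_iff_nontrivial_and_finite.trans (and_iff_left ?_)]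
  · rw [hN.card]
    have := Nat.pos_of_ne_zero (pow_ne_zero 2 (pow_ne_zero n two_ne_zero))
    omega
  · exact Set.finite_of_ncard_ne_zero (by rw [hN.card]; omega)

theorem rk2 : Rk2 N := by
  obtain ⟨γ, hγ⟩ := hN.nontrivial.nonempty
  obtain ⟨T, hT⟩ := hN.pt γ hγ
  have h1 : 2 < {t : G | t ∈ T ∧ t * t = 1}.ncard := by
    rw [hT.cardI]
    have := Nat.pow_le_pow_right two_pos hN.three
    omega
  have h2 : 1 < ({t : G | t ∈ T ∧ t * t = 1} \ {1}).ncard := by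
    rw [Set.ncard_sdiff_singleton_of_mem (show (1 : G) ∈ {t : G | t ∈ T ∧ t * t = 1} from
      ⟨one_mem T, mul_one 1⟩)]
    omega
  obtain ⟨a, ha, b, hb, hab⟩ := (Set.one_lt_ncard (Set.toFinite _)).1 h2
  exact ⟨a, hN.normal.1 (hT.syl.le ha.1.1), b, hN.normal.1 (hT.syl.le hb.1.1),
    hN.inv a (hT.syl.le ha.1.1) ⟨ha.2, ha.1.2⟩, hN.inv b (hT.syl.le hb.1.1) ⟨hb.2, hb.1.2⟩, hab,
    mem_cent.1 (hT.cen b hb.1.1 hb.1.2) a ha.1.1⟩

theorem od_fix (h : SE G Ω) {δ : Ω} (hδ : δ ∈ Fx Ω N) : Od N ≤ stabilizer G δ :=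
  h.le_stab_of_rk2 hN.rk2 (odd_Od N) (Od_normal N).2 hδ

/-- An odd order subgroup of a point stabilizer of `N` fixes a second point. -/
theorem exists_fixed (h : SE G Ω) {γ : Ω} (hγ : γ ∈ Fx Ω N) {P : Subgroup G} (hP : Odd 𝐨(P))
    (hPN : P ≤ N) (hPγ : P ≤ stabilizer G γ) : ∃ ε ∈ Fx Ω N, ε ≠ γ ∧ P ≤ stabilizer G ε := by
  have : Finite (fxSub Ω N) := (h.finite_Fx N).to_subtype
  obtain ⟨ω, hω, hne⟩ := hN.nontrivial.exists_ne γ
  obtain ⟨T, hT⟩ := hN.pt γ hγ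
  have hTN : T ≤ N := hT.syl.le.trans hN.normal.1
  have hodd : Odd 𝐨((P.subgroupOf N).map (fxHom Ω N)) :=
    hP.of_dvd_nat ((Subgroup.card_map_dvd _ _).trans (H2.card_subgroupOf_of_le hPN).dvd)
  have hE : IsPGroup 2 ((T.subgroupOf N).map (fxHom Ω N)) :=
    (hT.syl.pgrp.of_injective (subgroupOfEquivOfLe hTN).toMonoidHom
      (subgroupOfEquivOfLe hTN).injective).map _
  obtain ⟨k, hk⟩ := exists_card_eq_pow Nat.prime_two hE
  obtain ⟨g, hg, e⟩ := H1.glauberman_exists_fixed (A := (P.subgroupOf N).map (fxHom Ω N))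
    (G := (T.subgroupOf N).map (fxHom Ω N)) (Ω := fxSub Ω N) (by
      rintro _ ⟨x, hx, rfl⟩
      refine mem_norm_of_conj_le fun y hy => ?_
      obtain ⟨_, ⟨t, ht, rfl⟩, rfl⟩ := mem_conj'.1 hy
      have h1 := (mem_normalizer_iff.1 (hT.norm ⟨x.2, hPγ hx⟩) _).1
        (mem_sup_left ht : (t : G) ∈ T ⊔ Od N)
      rw [sup_comm] at h1
      obtain ⟨o, ho, s, hs, e⟩ := (mem_sup_of_norm (hTN.trans (Od_normal N).2)).1 h1
      refine ⟨⟨s, hTN hs⟩, hs, ?_⟩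
      rw [← map_inv, ← map_mul, ← map_mul, fxHom_eq_iff]
      intro δ hδ
      rw [show ((x * t * x⁻¹ : N) : G) = o * s from e.symm, mul_smul]
      exact (hN.od_fix h (smul_mem_Fx' (hTN hs) hδ) ho).symm)
    (by rw [hk]; exact (Nat.coprime_two_right.2 hodd).pow_right k)
    (Or.inr (isSolvable_of_isNilpotent (isNilpotent_of_isPGroup Nat.prime_two hE))) ⟨ω, hω⟩ (by
      rintro _ ⟨x, hx, rfl⟩
      obtain ⟨t, ht, e2⟩ := hT.tr ω hω hne _ (smul_mem_Fx' x.2 hω)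
        (fun e3 => hne (smul_left_cancel (x : G) (e3.trans (hPγ hx).symm)))
      exact ⟨fxHom Ω N ⟨t, hTN ht⟩, ⟨⟨t, hTN ht⟩, ht, rfl⟩, Subtype.ext e2.symm⟩)
  obtain ⟨t, ht, rfl⟩ := hg
  refine ⟨(t : G) • ω, smul_mem_Fx' t.2 hω, fun e2 => hne ?_, fun x hx => ?_⟩
  · exact smul_left_cancel (t : G) (e2.trans (hT.le ht).symm)
  · exact congrArg Subtype.val (e (fxHom Ω N ⟨x, hPN hx⟩) ⟨⟨x, hPN hx⟩, hx, rfl⟩)

/-- A subgroup fixing three points centralizes a member of the class modulo `O(N)`. -/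
theorem exists_cent (h : SE G Ω) {X : Subgroup G} (hX : X ≤ N) {α β γ : Ω} (hα : α ∈ Fx Ω N)
    (hβ : β ∈ Fx Ω N) (hγ : γ ∈ Fx Ω N) (n1 : α ≠ β) (n2 : α ≠ γ) (n3 : β ≠ γ)
    (e1 : X ≤ stabilizer G α) (e2 : X ≤ stabilizer G β) (e3 : X ≤ stabilizer G γ) :
    ∃ a ∈ N, In a ∧ a • α = α ∧ ∀ x ∈ X, ⁅x, a⁆ ∈ Od N := by
  obtain ⟨T, hT⟩ := hN.pt α hα
  have hTN : T ≤ N := hT.syl.le.trans hN.normal.1
  obtain ⟨t, ht, et⟩ := hT.tr β hβ n1.symm γ hγ n2.symm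
  have t1 : t ≠ 1 := fun e => n3 (by rw [← et, e, one_smul])
  have key : ∀ x ∈ X, ⁅x, t⁆ ∈ Od N := fun x hx => by
    have h1 := (mem_normalizer_iff.1 (hT.norm ⟨hX hx, e1 hx⟩) _).1
      (mem_sup_left ht : t ∈ T ⊔ Od N)
    rw [sup_comm] at h1
    obtain ⟨o, ho, s, hs, e⟩ := (mem_sup_of_norm (hTN.trans (Od_normal N).2)).1 h1
    have h2 : s • β = γ := by
      have := conj_smul_smul x t β
      rwa [e2 hx, et, e3 hx, ← e, mul_smul, hN.od_fix h (smul_mem_Fx' (hTN hs) hβ) ho] at this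
    have h3 : t⁻¹ * s = 1 := hT.free _ (mul_mem (inv_mem ht) hs) β hβ n1.symm (by
      rw [mul_smul, h2, ← et, inv_smul_smul])
    rw [commutatorElement_def, ← e, ← inv_mul_eq_one.1 h3, mul_inv_cancel_right]
    exact ho
  obtain ⟨z, hz, hzp⟩ := exists_prime_pow_mem t1
  have hzT : z ∈ T := (zpowers_le.2 ht) hz
  have hzi : Inv z := inv_of_orderOf (orderOf_eq_of_prime_of_mem Nat.prime_two hT.syl.pgrp hzT hzp)
  refine ⟨z, hTN hzT, hN.inv z (hT.syl.le hzT) hzi, hT.le hzT, fun x hx => ?_⟩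
  rw [← pr_comm_iff (hX hx) (hTN hzT)]
  obtain ⟨k, rfl⟩ := mem_powers_iff_mem_zpowers.2 hz
  have := (show Commute _ _ from (pr_comm_iff (hX hx) (hTN ht)).2 (key x hx)).pow_right k
  rw [← map_pow] at this
  exact this

end BTd

end Cfsg.Agent.P14.C
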