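/-
P14, chapter C: the point stabilizer modulo its odd core, and the basic facts on `Min0`.
-/
import Cfsg.Agent.P14.C1

set_option autoImplicit false
set_option linter.unusedSectionVars false

namespace Cfsg.Agent.P14.C

open Subgroup Cfsg Cfsg.Agent Cfsg.Agent.FT MulAction Cfsg.Agent.P6
open scoped commutatorElement

universe u v

variable {G : Type u} [Group G] [Finite G] [ICl G] {Ω : Type v} [MulAction G Ω]

/-- The elements of `H` that centralize the members of the class in `H` modulo `O(H)`. -/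
def Cb (H : Subgroup G) : Subgroup G where
  carrier := {x | x ∈ H ∧ ∀ a ∈ H, In a → ⁅x, a⁆ ∈ Od H}
  one_mem' := ⟨one_mem H, fun a _ _ => by rw [commutatorElement_one_left]; exact one_mem _⟩
  mul_mem' := fun {x y} ⟨h1, h2⟩ ⟨h3, h4⟩ => ⟨mul_mem h1 h3, fun a ha hi => by
    rw [← pr_comm_iff (mul_mem h1 h3) ha]
    have := Commute.mul_left ((pr_comm_iff h1 ha).2 (h2 a ha hi)) ((pr_comm_iff h3 ha).2 (h4 a ha hi))
    rw [← map_mul] at this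
    exact this⟩
  inv_mem' := fun {x} ⟨h1, h2⟩ => ⟨inv_mem h1, fun a ha hi => by
    rw [← pr_comm_iff (inv_mem h1) ha]
    have := Commute.inv_left ((pr_comm_iff h1 ha).2 (h2 a ha hi))
    rw [← map_inv] at this
    exact this⟩

theorem mem_Cb {H : Subgroup G} {x : G} :
    x ∈ Cb H ↔ x ∈ H ∧ ∀ a ∈ H, In a → ⁅x, a⁆ ∈ Od H := Iff.rfl

theorem Cb_le (H : Subgroup G) : Cb H ≤ H := fun _ h => h.1

theorem Od_le_Cb (H : Subgroup G) : Od H ≤ Cb H := fun x hx =>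
  ⟨(Od_normal H).1 hx, fun a ha _ => comm_le_left_iff.2 (Od_normal H).2
    (commutator_mem_commutator hx ha)⟩

theorem Cb_conj_le (H : Subgroup G) (g : G) : Cb H ^ᵍ g ≤ Cb (H ^ᵍ g) := fun y hy => by
  obtain ⟨x, hx, rfl⟩ := mem_conj'.1 hy
  refine ⟨conj_mem_conj hx.1 g, fun b hb hi => ?_⟩
  obtain ⟨a, ha, rfl⟩ := mem_conj'.1 hb
  rw [← conjugate_commutatorElement, Od_conj]
  exact conj_mem_conj (hx.2 a ha (by simpa [mul_assoc] using hi.conj' g)) g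

theorem Cb_conj (H : Subgroup G) (g : G) : Cb (H ^ᵍ g) = Cb H ^ᵍ g := by
  refine le_antisymm ?_ (Cb_conj_le H g)
  have := Cb_conj_le (H ^ᵍ g) g⁻¹
  rw [conj_conj, inv_mul_cancel, conj_one] at this
  rw [← conj_le_conj_iff (g := g⁻¹), conj_conj, inv_mul_cancel, conj_one]
  exact this

theorem Cb_normal (H : Subgroup G) : Cb H ⊲ H :=
  ⟨Cb_le H, fun g hg => conj_eq_self_iff.1 (by rw [← Cb_conj, conj_eq_of_mem hg])⟩

theorem Cb_stab_smul (g : G) (α : Ω) : Cb (stabilizer G (g • α)) = Cb (stabilizer G α) ^ᵍ g := by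
  rw [stabilizer_smul', Cb_conj]

namespace Pt

variable {H A : Subgroup G} (h : Pt H A)
include h

theorem pgrp : IsPGroup 2 A := elemAb_isPGroup h.el

theorem sq {a : G} (ha : a ∈ A) : a * a = 1 := by rw [← pow_two]; exact h.el.2 a ha

theorem comm : A ≤ 𝐂(A) := isMulComm_iff_le_cent.1 h.el.1

theorem card : ∃ n, 3 ≤ n ∧ 𝐨(A) = 2 ^ n := by
  obtain ⟨n, hn⟩ := exists_card_eq_pow Nat.prime_two h.pgrp
  refine ⟨n, ?_, hn⟩
  by_contra hc
  have h1 := h.eight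
  have h2 : 2 ^ n ≤ 2 ^ 2 := Nat.pow_le_pow_right two_pos (by omega)
  omega

theorem rk2 : Rk2 A := by
  have h1 : 1 < (sharp A).ncard := by rw [ncard_sharp]; have := h.eight; omega
  obtain ⟨a, b, ha, hb, hab⟩ := (Set.one_lt_ncard_iff (Set.toFinite _)).1 h1
  exact ⟨a, ha.1, b, hb.1, h.mem a ha.1 ha.2, h.mem b hb.1 hb.2, hab,
    mem_cent.1 (h.comm hb.1) a ha.1⟩

theorem conj (g : G) : Pt (H ^ᵍ g) (A ^ᵍ g) where
  el := H5.elemAb_map (MulAut.conj g).toMonoidHom h.el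
  eight := by rw [card_conj]; exact h.eight
  mem b hb h1 := by
    obtain ⟨a, ha, rfl⟩ := mem_conj'.1 hb
    exact (h.mem a ha fun e => h1 (by simp [e])).conj g
  max b hb hc := by
    rw [cent_conj, mem_conj] at hc
    exact mem_conj.2 (h.max _ (hb.conj' g) hc)
  le := conj_mono h.le g
  sup := by
    rw [Od_conj, norm_conj, ← conj_inf, ← conj_sup]
    exact conj_mono h.sup g

theorem conj' {g : G} (hg : g ∈ H) : Pt H (A ^ᵍ g) := by
  have := h.conj g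
  rwa [conj_eq_of_mem hg] at this

theorem od_inf : Od H ⊓ A = ⊥ := eq_bot_iff.2 fun x hx =>
  eq_one_of_odd_of_mem h.pgrp hx.2 (odd_orderOf_of_mem (odd_Od H) hx.1)

theorem norm_sup : H ≤ 𝐍((Od H ⊔ A : Subgroup G)) :=
  h.sup.trans (sup_le (le_sup_left.trans (le_norm_self _))
    (H1.le_normalizer_sup (inf_le_left.trans (Od_normal H).2) inf_le_right))

theorem syl : IsSyl 2 A (Od H ⊔ A) :=
  ⟨le_sup_right, h.pgrp, not_dvd_relIndex_of_sup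
    ⟨le_sup_left, sup_le (le_norm_self _) (h.le.trans (Od_normal H).2)⟩ le_sup_right rfl (odd_Od H)⟩

/-- A 2-subgroup of `H` normalizes a conjugate of `A`. -/
theorem exists_norm_two {P : Subgroup G} (hP : IsPGroup 2 P) (hPH : P ≤ H) :
    ∃ w ∈ Od H, P ≤ 𝐍((A ^ᵍ w : Subgroup G)) := by
  obtain ⟨S, hS, hPS⟩ := exists_isSyl_ge Nat.prime_two hP hPH
  have hn : (Od H ⊔ A) ⊲ H := ⟨sup_le (Od_normal H).1 h.le, h.norm_sup⟩
  obtain ⟨g, hg, e⟩ := (hS.inf_normal Nat.prime_two hn).exists_conj_eq Nat.prime_two h.syl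
  obtain ⟨w, hw, a, ha, rfl⟩ := (mem_sup_of_norm (h.le.trans (Od_normal H).2)).1 hg
  rw [← conj_conj, conj_eq_of_mem ha] at e
  refine ⟨w, hw, ?_⟩
  rw [e]
  exact hPS.trans (H1.le_normalizer_inf (le_norm_self S) (hS.le.trans hn.2))

/-- The members of the class in `H` are the conjugates of the involutions of `A`. -/
theorem exists_conj_mem {a : G} (ha : In a) (haH : a ∈ H) : ∃ w ∈ Od H, a ∈ A ^ᵍ w := by
  obtain ⟨w, hw, hn⟩ := h.exists_norm_two ha.isPGroup (zpowers_le.2 haH)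
  have h1 := h.conj' ((Od_normal H).1 hw)
  refine ⟨w, hw, h1.max a ha (mem_cent.2 fun b hb => ?_)⟩
  by_cases b1 : b = 1
  · simp [b1]
  · exact (h1.mem b hb b1).comm_of_two ha (isPGroup_sup ha.isPGroup h1.pgrp hn)
      (mem_sup_right hb) (mem_sup_left (mem_zpowers a))

theorem mem_bar {a : G} (ha : In a) (haH : a ∈ H) : pr H ⟨a, haH⟩ ∈ H1.bar H (Od H) A := by
  obtain ⟨w, hw, hm⟩ := h.exists_conj_mem ha haH
  obtain ⟨b, hb, rfl⟩ := mem_conj'.1 hm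
  have e : pr H ⟨_, haH⟩ = pr H ⟨b, h.le hb⟩ := by
    have hwH := (Od_normal H).1 hw
    rw [show (⟨_, haH⟩ : H) = ⟨w, hwH⟩ * ⟨b, h.le hb⟩ * ⟨w, hwH⟩⁻¹ from rfl, map_mul, map_mul,
      map_inv, pr_eq_one.2 hw]
    simp
  rw [e]
  exact H1.qmk_mem_bar hb

theorem exists_lift {z : Qt H} (hz : z ∈ H1.bar H (Od H) A) (h1 : z ≠ 1) :
    ∃ (a : G) (haH : a ∈ H), a ∈ A ∧ In a ∧ pr H ⟨a, haH⟩ = z := by
  obtain ⟨y, hy, rfl⟩ := H1.mem_bar.1 hz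
  exact ⟨y, y.2, hy, h.mem y hy fun e => h1 (by rw [show y = 1 from Subtype.ext e, map_one]), rfl⟩

theorem elem_bar : IsElementaryAbelian 2 (H1.bar H (Od H) A) := by
  refine ⟨isMulComm_iff_le_cent.2 ?_, ?_⟩
  · rintro _ ⟨x, hx, rfl⟩
    refine mem_cent.2 ?_
    rintro _ ⟨y, hy, rfl⟩
    rw [← map_mul, ← map_mul]
    exact congrArg _ (Subtype.ext (mem_cent.1 (h.comm hx) y hy))
  · rintro _ ⟨x, hx, rfl⟩
    rw [← map_pow, show x ^ 2 = 1 from Subtype.ext (h.el.2 x hx), map_one]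

theorem norm_bar : ⊤ ≤ 𝐍(H1.bar H (Od H) A) := by
  rintro z -
  obtain ⟨x, rfl⟩ := H1.qmk_surjective (Y := H) (N := Od H) z
  obtain ⟨w, hw, y, hy, e⟩ := (mem_sup_of_norm (inf_le_left.trans (Od_normal H).2)).1 (h.sup x.2)
  rw [show x = ⟨w, (Od_normal H).1 hw⟩ * ⟨y, hy.1⟩ from Subtype.ext e.symm, map_mul,
    show H1.qmk H (Od H) ⟨w, _⟩ = 1 from pr_eq_one.2 hw, one_mul]
  exact H1.bar_le_normalizer (H := zpowers y) (zpowers_le.2 hy.2) (H1.qmk_mem_bar (mem_zpowers y))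

theorem card_bar : 𝐨(H1.bar H (Od H) A) = 𝐨(A) := card_bar_of_disj h.le h.od_inf

theorem comm_mem {a b : G} (ha : In a) (hb : In b) (haH : a ∈ H) (hbH : b ∈ H) :
    ⁅a, b⁆ ∈ Od H :=
  (pr_comm_iff haH hbH).1 (mem_cent.1 (isMulComm_iff_le_cent.1 h.elem_bar.1
    (h.mem_bar hb hbH)) _ (h.mem_bar ha haH))

theorem mem_Cb_of_In {a : G} (ha : In a) (haH : a ∈ H) : a ∈ Cb H :=
  ⟨haH, fun _ hb hi => h.comm_mem ha hi haH hb⟩

theorem mem_Cb_iff {x : G} (hx : x ∈ H) :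
    x ∈ Cb H ↔ pr H ⟨x, hx⟩ ∈ 𝐂(H1.bar H (Od H) A) := by
  refine ⟨fun hc => mem_cent.2 fun z hz => ?_, fun hc => ⟨hx, fun a ha hi => ?_⟩⟩
  · by_cases h1 : z = 1
    · simp [h1]
    obtain ⟨a, haH, -, ha, rfl⟩ := h.exists_lift hz h1
    exact ((pr_comm_iff hx haH).2 (hc.2 a haH ha)).symm
  · exact (pr_comm_iff hx ha).1 (mem_cent.1 hc _ (h.mem_bar hi ha)).symm

theorem comm_mem_of_odd {x a : G} (hx : x ∈ H) (haH : a ∈ H) (ha : In a)
    (ho : Odd (orderOf ⁅x, a⁆)) : ⁅x, a⁆ ∈ Od H := by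
  have hm : ⁅x, a⁆ ∈ H := commutator_mem_commutator hx haH |> der_le H
  have h1 := h.mem_bar ha haH
  have h2 : pr H ⟨_, hm⟩ ∈ H1.bar H (Od H) A := by
    rw [show (⟨_, hm⟩ : H) = ⁅(⟨x, hx⟩ : H), ⟨a, haH⟩⁆ from rfl, map_commutatorElement,
      commutatorElement_def]
    exact mul_mem (H1.conj_mem_of_le_normalizer h.norm_bar (mem_top _) h1) (inv_mem h1)
  exact pr_eq_one.1 (eq_one_of_odd_of_mem (elemAb_isPGroup h.elem_bar) h2 (odd_orderOf_pr hm ho))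

theorem mem_Od_of_inv {x a : G} (hx : x ∈ H) (haH : a ∈ H) (ha : In a) (ho : Odd (orderOf x))
    (hi : a * x * a = x⁻¹) : x ∈ Od H := by
  have e : ⁅x, a⁆ = x * x := by
    have := congrArg (·⁻¹) hi
    simp only [mul_inv_rev, ha.inv_eq, inv_inv] at this
    rw [commutatorElement_def, ha.inv_eq, mul_assoc, mul_assoc, this]
  refine mem_of_sq_mem ho (e ▸ h.comm_mem_of_odd hx haH ha ?_)
  rw [e, ← pow_two]
  exact ho.of_dvd_nat (orderOf_pow_dvd 2)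

theorem rk2_of_not_mem {a b : G} (ha : In a) (hb : In b) (haH : a ∈ H) (hbH : b ∈ H)
    (hne : a⁻¹ * b ∉ Od H) {N : Subgroup G} (haN : a ∈ N) (hbN : b ∈ N) : Rk2 N := by
  by_contra hc
  have ho := odd_mul_of_not_rk2 hc haN hbN ha hb
  rw [ha.inv_eq] at hne
  exact hne (h.mem_Od_of_inv (mul_mem haH hbH) haH ha ho (by
    rw [ha.mul_cancel_left, mul_inv_rev, ha.inv_eq, hb.inv_eq]))

theorem gl1 {D : Subgroup G} (hD : D ≤ H) (ho : Odd 𝐨(D))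
    (ht : ∀ a ∈ H, ∀ b ∈ H, In a → In b → ∃ d ∈ D, d * a * d⁻¹ = b) :
    GL1 (H1.bar H (Od H) A) (H1.bar H (Od H) D) := by
  refine ⟨h.elem_bar, fun e => ?_, le_top.trans h.norm_bar, odd_card_bar ho,
    fun a ha a1 b hb b1 => ?_⟩
  · have := h.card_bar
    rw [e, card_bot] at this
    have := h.eight
    omega
  obtain ⟨a, haH, -, ha', rfl⟩ := h.exists_lift ha a1
  obtain ⟨b, hbH, -, hb', rfl⟩ := h.exists_lift hb b1
  obtain ⟨d, hd, e⟩ := ht a haH b hbH ha' hb'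
  refine ⟨pr H ⟨d, hD hd⟩, H1.qmk_mem_bar hd, ?_⟩
  rw [← map_inv, ← map_mul, ← map_mul]
  exact congrArg _ (Subtype.ext e)

theorem exists_fpf {D : Subgroup G} (hD : D ≤ H) (ho : Odd 𝐨(D))
    (ht : ∀ a ∈ H, ∀ b ∈ H, In a → In b → ∃ d ∈ D, d * a * d⁻¹ = b)
    {N : Subgroup G} (hN : N ⊲ D) (hNW : ¬ N ≤ Cb H) :
    ∃ x ∈ N, ∃ r : ℕ, r.Prime ∧ IsPGroup r (zpowers x) ∧ ∀ a ∈ H, In a → ⁅x, a⁆ ∉ Od H := by
  obtain ⟨F, -, -, -, hfpf, -, -, hF⟩ := (h.gl1 hD ho ht).exists_F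
  obtain ⟨z, hzN, hzF, hzC⟩ := hF _ (bar_normal hN) fun hc => hNW fun x hx =>
    (h.mem_Cb_iff (hD (hN.1 hx))).2 (hc (H1.qmk_mem_bar hx))
  obtain ⟨r, hr, Y, hY, hYC⟩ : ∃ r : ℕ, r.Prime ∧ ∃ Y, IsSyl r Y (zpowers z) ∧
      ¬ Y ≤ 𝐂(H1.bar H (Od H) A) := by
    by_contra hc
    push Not at hc
    exact hzC (le_of_forall_isSyl_le hc (mem_zpowers z))
  obtain ⟨y, hy, hyC⟩ := SetLike.not_le_iff_exists.1 hYC
  have := Fact.mk hr
  obtain ⟨X, hX, hXp, e⟩ := H1.exists_isPGroup_map_eq (pr H) (Q := N.subgroupOf H)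
    (R := Y) (hY.le.trans (zpowers_le.2 hzN)) hY.pgrp
  obtain ⟨x, hx, rfl⟩ : y ∈ X.map (pr H) := e ▸ hy
  refine ⟨x, hX hx, _, hr, ?_, fun a haH ha hc => ?_⟩
  · have := (hXp.to_le (zpowers_le.2 hx)).map H.subtype
    rwa [MonoidHom.map_zpowers] at this
  · exact hyC (hfpf _ ((zpowers_le.2 hzF) (hY.le hy)) _ (h.mem_bar ha haH) (ha.pr haH).ne
      ((pr_comm_iff x.2 haH).2 hc))

/-- If `R` fixes exactly one involution modulo `O(H)`, the rank is the order of the group of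
automorphisms induced by `R`. -/
theorem card_eq {D : Subgroup G} (hD : D ≤ H) (ho : Odd 𝐨(D))
    (ht : ∀ a ∈ H, ∀ b ∈ H, In a → In b → ∃ d ∈ D, d * a * d⁻¹ = b)
    {R : Subgroup G} (hR : R ≤ D) {a : G} (ha : In a) (haH : a ∈ H)
    (hc : ∀ x ∈ R, ⁅x, a⁆ ∈ Od H)
    (hu : ∀ b ∈ H, In b → (∀ x ∈ R, ⁅x, b⁆ ∈ Od H) → a⁻¹ * b ∈ Od H) :
    ∃ k, k ∣ 𝐨(R) ∧ 𝐨(A) = 2 ^ k := by
  have hRH := hR.trans hD
  have hm := h.mem_bar ha haH
  have hcc : H1.bar H (Od H) R ≤ 𝐂[pr H ⟨a, haH⟩] := by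
    rintro _ ⟨y, hy, rfl⟩
    exact mem_cent1.2 ((pr_comm_iff y.2 haH).2 (hc y hy)).symm
  have h1 := (h.gl1 hD ho ht).card_eq_pow (H1.bar_mono hR) hm (ha.pr haH).ne hcc
  have h2 : H1.bar H (Od H) A ⊓ 𝐂(H1.bar H (Od H) R) = zpowers (pr H ⟨a, haH⟩) := by
    refine le_antisymm (fun z hz => ?_) (zpowers_le.2 ⟨hm, mem_cent_iff_cent1.2 hcc⟩)
    by_cases h3 : z = 1
    · rw [h3]; exact one_mem _
    obtain ⟨b, hbH, -, hb, rfl⟩ := h.exists_lift hz.1 h3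
    rw [← (pr_eq_iff haH hbH).2 (hu b hbH hb fun x hx => (pr_comm_iff (hRH hx) hbH).1
      (mem_cent.1 hz.2 _ (H1.qmk_mem_bar (y := ⟨x, hRH hx⟩) hx)))]
    exact mem_zpowers _
  rw [h2, (ha.pr haH).card_zpowers, h.card_bar] at h1
  refine ⟨_, (relIndex_dvd_card' _ _).trans ?_, h1⟩
  rw [H1.card_bar hRH]
  exact relIndex_dvd_card' _ _

/-- A group of prime power order prime to `|A| - 1` fixes an involution modulo `O(H)`. -/
theorem exists_cent {r : ℕ} (hr : r.Prime) {X : Subgroup G} (hX : IsPGroup r X) (hXH : X ≤ H)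
    (hd : ¬ r ∣ 𝐨(A) - 1) : ∃ a ∈ H, In a ∧ ∀ x ∈ X, ⁅x, a⁆ ∈ Od H := by
  obtain ⟨z, hz, hc⟩ := exists_cent_of_not_dvd hr (P := H1.bar H (Od H) X)
    ((hX.of_injective (subgroupOfEquivOfLe hXH).toMonoidHom
      (subgroupOfEquivOfLe hXH).injective).map _) (S := sharp (H1.bar H (Od H) A))
    (fun x _ s hs => ⟨H1.conj_mem_of_le_normalizer h.norm_bar (mem_top x) hs.1,
      fun e => hs.2 (by simpa using e)⟩) (by rwa [ncard_sharp, h.card_bar])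
  obtain ⟨a, haH, -, ha, rfl⟩ := h.exists_lift hz.1 hz.2
  exact ⟨a, haH, ha, fun x hx => (pr_comm_iff (hXH hx) haH).1
    (mem_cent.1 hc _ (H1.qmk_mem_bar (y := ⟨x, hXH hx⟩) hx))⟩

/-- A Sylow subgroup of `O(H)` is normalized by a conjugate of `A`. -/
theorem exists_norm {p : ℕ} (hp : p.Prime) {T : Subgroup G} (hT : IsSyl p T (Od H)) :
    ∃ B, Pt H B ∧ B ≤ 𝐍(T) := by
  obtain ⟨n, -, hn⟩ := h.card
  obtain ⟨P, hP, -, hPn⟩ := exists_invariant_isSyl hp (h.le.trans (Od_normal H).2)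
    (by rw [hn]; exact (Nat.coprime_two_left.2 (odd_Od H)).pow_left n)
    (Or.inl (H1.isSolvable_of_isMulCommutative h.el.1)) (IsPGroup.of_bot (p := p)) bot_le
    (by rw [norm_bot]; exact le_top)
  obtain ⟨g, hg, rfl⟩ := hT.exists_conj_eq hp hP
  exact ⟨_, h.conj' ((Od_normal H).1 hg), by rw [norm_conj]; exact conj_mono hPn g⟩

end Pt

namespace Min0

variable (h : Min0 G Ω)
include h

theorem se : SE G Ω := h.toSE

theorem all (α : Ω) : ∃ a : G, In a ∧ a • α = α := by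
  obtain ⟨A, hA⟩ := h.pt α
  obtain ⟨a, ha, -, -, hi, -⟩ := hA.rk2
  exact ⟨a, hi, hA.le ha⟩

theorem rk2_stab (α : Ω) : Rk2 (stabilizer G α) := by
  obtain ⟨A, hA⟩ := h.pt α
  exact hA.rk2.mono hA.le

theorem rk2 : Rk2 (⊤ : Subgroup G) := by
  obtain ⟨α, -⟩ := h.two
  exact (h.rk2_stab α).mono le_top

theorem mem_Fx_top (α : Ω) : α ∈ Fx Ω (⊤ : Subgroup G) := by
  obtain ⟨a, h1, h2⟩ := h.all α
  exact ⟨a, mem_top a, h1, h2⟩

theorem trans (α β : Ω) : ∃ g : G, g • α = β := by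
  obtain ⟨g, -, e⟩ := h.toSE.exists_smul_Fx (h.mem_Fx_top α) (h.mem_Fx_top β)
  exact ⟨g, e⟩

theorem exists_J {α β : Ω} (hne : α ≠ β) : ∃ u : G, In u ∧ u • α = β := by
  obtain ⟨u, -, e⟩ := h.toSE.exists_swap_Fx (h.mem_Fx_top α) (h.mem_Fx_top β) hne
  exact ⟨u, e⟩

theorem isConj {a b : G} (ha : In a) (hb : In b) : ∃ g : G, g * a * g⁻¹ = b := by
  have := h.two
  obtain ⟨α, β, hne⟩ := exists_pair_ne Ω
  obtain ⟨g, -, e⟩ := h.toSE.exists_conj ⟨α, h.mem_Fx_top α, β, h.mem_Fx_top β, hne⟩ ha hb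
    (mem_top a) (mem_top b)
  exact ⟨g, e⟩

theorem exists_conj_D {a b : G} {α β : Ω} (ha : In a) (hb : In b) (ea : a • α = α)
    (eb : b • α = α) (hne : α ≠ β) : ∃ d ∈ St2 G α β, d * a * d⁻¹ = b := by
  obtain ⟨d, hd, e⟩ := h.toSE.exists_conj_St2 ha hb ea eb hne (mem_top a) (mem_top b)
    (h.mem_Fx_top β)
  exact ⟨d, hd.2, e⟩

theorem stab_ne_top (α : Ω) : stabilizer G α ≠ ⊤ := fun e => by
  have := h.two
  obtain ⟨β, hne⟩ := exists_ne α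
  obtain ⟨g, rfl⟩ := h.trans α β
  exact hne (mem_stabilizer_iff.1 (e ▸ mem_top g))

theorem norm_ne_top {X : Subgroup G} (h1 : X ≠ ⊥) (h2 : X ≠ ⊤) : 𝐍(X) ≠ ⊤ := fun e => by
  have := h.simple
  rcases (normal_iff_top_le.2 e.ge : X.Normal).eq_bot_or_eq_top with h3 | h3
  · exact h1 h3
  · exact h2 h3

theorem norm_ne_top_of_le {X : Subgroup G} (h1 : X ≠ ⊥) {α : Ω} (h2 : X ≤ stabilizer G α) :
    𝐍(X) ≠ ⊤ :=
  h.norm_ne_top h1 fun e => h.stab_ne_top α (top_le_iff.1 (e ▸ h2))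

theorem norm_ne_top_of_odd {X : Subgroup G} (h1 : X ≠ ⊥) (h2 : Odd 𝐨(X)) : 𝐍(X) ≠ ⊤ :=
  h.norm_ne_top h1 fun e => by
    obtain ⟨a, -, -, -, ha, -⟩ := h.rk2
    exact ha.not_mem_of_odd h2 (e ▸ mem_top a)

theorem ncard_Iv_eq (α β : Ω) : (Iv G α).ncard = (Iv G β).ncard := by
  obtain ⟨g, rfl⟩ := h.trans α β
  exact (SE.ncard_Iv_smul g α).symm

theorem ncard_Iv {a : G} {α β : Ω} (ha : In a) (ea : a • α = α) (hne : α ≠ β) :
    (Iv G α).ncard = 𝐂[a].relIndex (St2 G α β) := by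
  simpa using h.toSE.ncard_Iv ha ea hne (mem_top a) (h.mem_Fx_top β)

theorem ncard_Jv {α β : Ω} (hne : α ≠ β) (γ : Ω) : (Jv G α β).ncard = (Iv G γ).ncard := by
  rw [h.ncard_Iv_eq γ β]
  simpa using h.toSE.ncard_Jv_eq_Iv hne (h.mem_Fx_top α)

theorem ncard_Iv' {u : G} {α β : Ω} (hu : In u) (eu : u • α = β) (hne : α ≠ β) (γ : Ω) :
    (Iv G γ).ncard = 𝐂[u].relIndex (St2 G α β) := by
  rw [← h.ncard_Jv hne γ]
  simpa using h.toSE.ncard_Jv hu eu hne (mem_top u)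

theorem eq_one_of_fix {x : G} (hx : ∀ β : Ω, x • β = β) : x = 1 := by
  have := h.simple
  rcases (MonoidHom.normal_ker (toPermHom G Ω)).eq_bot_or_eq_top with e | e
  · exact mem_bot.1 (e ▸ (MonoidHom.mem_ker.2 (Equiv.ext hx) : x ∈ (toPermHom G Ω).ker))
  · obtain ⟨α, -⟩ := h.two
    refine absurd (eq_top_iff.2 fun g _ => ?_) (h.stab_ne_top α)
    exact congrArg (fun σ : Equiv.Perm Ω => σ α) (MonoidHom.mem_ker.1 (e ▸ mem_top g))

theorem finite : Finite Ω := by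
  have := h.se.finite_Fx (⊤ : Subgroup G)
  rw [Set.eq_univ_of_forall h.mem_Fx_top] at this
  exact Set.finite_univ_iff.1 this

theorem exists_conj_Od {a b : G} {α β : Ω} (ha : In a) (hb : In b) (ea : a • α = α)
    (eb : b • α = α) (hne : α ≠ β) : ∃ d ∈ Od (St2 G α β), d * a * d⁻¹ = b := by
  simpa using h.se.exists_conj_Od ha hb ea eb hne (mem_top a) (mem_top b) (h.mem_Fx_top β)

/-- A Sylow subgroup of a two point stabilizer is normalized by a swapping involution. -/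
theorem exists_swap_norm {r : ℕ} (hr : r.Prime) (h2 : r ≠ 2) {X : Subgroup G} {δ ε : Ω}
    (hne : δ ≠ ε) (hX : IsSyl r X (St2 G δ ε)) : ∃ v ∈ 𝐍(X), In v ∧ v • δ = ε := by
  obtain ⟨u, hu, eu⟩ := h.exists_J hne
  obtain ⟨v, hv, e⟩ := h.se.exists_swap_norm hr h2 (N := ⊤) (X := X) hne hu eu (mem_top u)
    (by rwa [top_inf_eq])
  exact ⟨v, hv.2, e⟩

theorem comm_mem_of_odd {x a : G} {α : Ω} (hx : x • α = α) (ea : a • α = α) (ha : In a)
    (ho : Odd (orderOf ⁅x, a⁆)) : ⁅x, a⁆ ∈ Od (stabilizer G α) := by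
  obtain ⟨A, hA⟩ := h.pt α
  exact hA.comm_mem_of_odd hx ea ha ho

theorem mem_Od_of_inv {x a : G} {α : Ω} (hx : x • α = α) (ea : a • α = α) (ha : In a)
    (ho : Odd (orderOf x)) (hi : a * x * a = x⁻¹) : x ∈ Od (stabilizer G α) := by
  obtain ⟨A, hA⟩ := h.pt α
  exact hA.mem_Od_of_inv hx ea ha ho hi

theorem comm_mem {a b : G} {α : Ω} (ha : In a) (hb : In b) (ea : a • α = α) (eb : b • α = α) :
    ⁅a, b⁆ ∈ Od (stabilizer G α) := by
  obtain ⟨A, hA⟩ := h.pt α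
  exact hA.comm_mem ha hb ea eb

theorem iComm_of_nw (hnw : ∀ r : ℕ, r.Prime → r ≠ 2 → NW G Ω r) : IComm G Ω := by
  intro a b α ha hb ea eb
  have hm := h.comm_mem ha hb ea eb
  by_contra hne
  obtain ⟨y, hy, hp⟩ := exists_prime_pow_mem (x := ⁅a, b⁆)
    fun e => hne (commutatorElement_eq_one_iff_mul_comm.1 e)
  have hyW := (zpowers_le.2 hm) hy
  refine hnw _ hp (fun e => ?_) y a α rfl ha ea ((Od_normal _).1 hyW)
    (inverts_of_mem_zpowers ha.sq ?_ hy)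
  · exact (inv_of_orderOf e).not_mem_of_odd (odd_Od _) hyW
  · rw [commutatorElement_inv, commutatorElement_def, commutatorElement_def, ha.inv_eq, hb.inv_eq,
      ← mul_assoc, ← mul_assoc, ha.mul_cancel_left]

theorem dvd_w {p : ℕ} (hp : p.Prime) (hp2 : p ≠ 2) (hnw : ¬ NW G Ω p) {a : G} {α : Ω}
    (ha : In a) (ea : a • α = α) : p ∣ 𝐂[a].relIndex (Od (stabilizer G α)) := by
  unfold NW at hnw
  push Not at hnw
  obtain ⟨x, b, β, hx, hb, eb, ex, hi⟩ := hnw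
  obtain ⟨g, rfl⟩ := h.isConj hb ha
  obtain rfl := h.toSE.smul_eq_of_conj hb eb ea
  have ho : orderOf (g * x * g⁻¹) = p := by
    rw [← hx]; exact (MulAut.conj g).orderOf_eq x
  have hi' : g * b * g⁻¹ * (g * x * g⁻¹) * (g * b * g⁻¹) = (g * x * g⁻¹)⁻¹ := by
    calc _ = g * (b * x * b) * g⁻¹ := by group
      _ = _ := by rw [hi]; group
  exact dvd_of_inverted hp (odd_Od _) ha.toInv ((Od_normal _).2 ea)
    (h.mem_Od_of_inv (conj_fix ex) ea ha (ho ▸ hp.odd_of_ne_two hp2) hi') ho hi'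

theorem not_cent_of_syl {p : ℕ} (hp : p.Prime) (hp2 : p ≠ 2) (hnw : ¬ NW G Ω p) {δ : Ω}
    {T : Subgroup G} (hT : IsSyl p T (Od (stabilizer G δ))) {c : G} (hc : In c)
    (ec : c • δ = δ) : c ∉ 𝐂(T) := fun hm =>
  hT.ndvd ((h.dvd_w hp hp2 hnw hc ec).trans
    (relIndex_dvd_of_le_left _ (mem_cent_iff_cent1.1 hm)))

theorem ncard_Iv_stab {a : G} {α : Ω} (ha : In a) (ea : a • α = α) :
    (Iv G α).ncard = 𝐂[a].relIndex (stabilizer G α) := by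
  have := h.two
  obtain ⟨β, hne⟩ := exists_ne α
  rw [← ncard_class]
  congr 1
  ext c
  constructor
  · rintro ⟨hc, ec⟩
    obtain ⟨d, hd, e⟩ := h.exists_conj_D ha hc ea ec hne.symm
    exact ⟨d, hd.1, e⟩
  · rintro ⟨y, hy, rfl⟩
    exact ⟨ha.conj y, conj_fix' ea hy⟩

theorem dvd_m {p : ℕ} (hp : p.Prime) (hp2 : p ≠ 2) (hnw : ¬ NW G Ω p) (α : Ω) :
    p ∣ (Iv G α).ncard := by
  obtain ⟨a, ha, ea⟩ := h.all α
  rw [h.ncard_Iv_stab ha ea]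
  by_contra hd
  obtain ⟨P, hP⟩ := exists_isSyl hp (𝐂[a] ⊓ stabilizer G α)
  have h1 := (hP.trans hp inf_le_right (by rwa [inf_relIndex_right])).inf_normal hp (Od_normal _)
  exact h.not_cent_of_syl hp hp2 hnw h1 ha ea
    (mem_cent_iff_cent1.2 ((inf_le_left.trans hP.le).trans inf_le_left))

theorem exists_pt_norm {p : ℕ} (hp : p.Prime) {δ : Ω} {T : Subgroup G}
    (hT : IsSyl p T (Od (stabilizer G δ))) : ∃ B, Pt (stabilizer G δ) B ∧ B ≤ 𝐍(T) := by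
  obtain ⟨A, hA⟩ := h.pt δ
  exact hA.exists_norm hp hT

/-- The uniqueness lemma: a `p'`-group normalized by a Sylow `p`-subgroup of `O(G_δ)` fixes `δ`. -/
theorem le_stab_of_syl {p : ℕ} (hp : p.Prime) (hp2 : p ≠ 2) (hnw : ¬ NW G Ω p) {δ : Ω}
    {T : Subgroup G} (hT : IsSyl p T (Od (stabilizer G δ))) {X : Subgroup G}
    (hX : 𝐨(X).Coprime p) (hTX : T ≤ 𝐍(X)) : X ≤ stabilizer G δ := by
  obtain ⟨B, hB, hBT⟩ := h.exists_pt_norm hp hT
  obtain ⟨n, hn, e⟩ := hB.card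
  exact h.se.le_stab_of_rank3 hp hp2 hT.pgrp ⟨hB.el, e⟩ hn hB.le hBT hB.mem
    (fun a ha hi => h.not_cent_of_syl hp hp2 hnw hT hi (hB.le ha)) hX hTX

theorem syl_ne_bot {p : ℕ} (hp : p.Prime) (hp2 : p ≠ 2) (hnw : ¬ NW G Ω p) {δ : Ω}
    {T : Subgroup G} (hT : IsSyl p T (Od (stabilizer G δ))) : T ≠ ⊥ := by
  obtain ⟨a, ha, ea⟩ := h.all δ
  rintro rfl
  exact h.not_cent_of_syl hp hp2 hnw hT ha ea (by rw [cent_bot]; exact mem_top a)

end Min0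

end Cfsg.Agent.P14.C
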