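/-
P14, chapter C: the fixed point lemmas for `r`-subgroups.
-/
import Cfsg.Agent.P14.C2

set_option autoImplicit false
set_option linter.unusedSectionVars false

namespace Cfsg.Agent.P14.C

open Subgroup Cfsg Cfsg.Agent Cfsg.Agent.FT MulAction Cfsg.Agent.P6
open scoped commutatorElement

universe u v

theorem not_dvd_sq_add_one {r n : ℕ} (hr : r.Prime) (h2 : r ≠ 2) (hn : Odd n)
    (hd : r ∣ 2 ^ n - 1) (j : ℕ) : ¬ r ∣ (2 ^ j) ^ 2 + 1 := fun hj => by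
  have e1 : (2 : ZMod r) ^ n = 1 := by
    have := (ZMod.natCast_eq_zero_iff _ r).2 hd
    rw [Nat.cast_sub Nat.one_le_two_pow, sub_eq_zero] at this
    simpa using this
  have e2 : ((2 : ZMod r) ^ j) ^ 2 = -1 := by
    have := (ZMod.natCast_eq_zero_iff _ r).2 hj
    push_cast at this
    exact eq_neg_of_add_eq_zero_left this
  have e3 : (((2 : ZMod r) ^ j) ^ 2) ^ n = 1 := by
    rw [← pow_mul, ← pow_mul, mul_comm, mul_comm 2 n, mul_assoc, pow_mul, e1, one_pow]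
  rw [e2, hn.neg_one_pow] at e3
  have e4 : ((2 : ℕ) : ZMod r) = 0 := by
    push_cast
    linear_combination -e3
  exact h2 ((Nat.prime_dvd_prime_iff_eq hr Nat.prime_two).1 ((ZMod.natCast_eq_zero_iff _ r).1 e4))

theorem odd_of_not_three {n : ℕ} (h : ¬ 3 ∣ 2 ^ n - 1) : Odd n := by
  by_contra hn
  obtain ⟨k, rfl⟩ := Nat.not_odd_iff_even.1 hn
  refine h ?_
  rw [← two_mul, pow_mul]
  simpa using Nat.sub_dvd_pow_sub_pow 4 1 k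

variable {G : Type u} [Group G] [Finite G] [ICl G] {Ω : Type v} [MulAction G Ω]

theorem Pt.sub_one_dvd {H A : Subgroup G} (h : Pt H A) {D : Subgroup G} (hD : D ≤ H)
    (ht : ∀ a ∈ H, ∀ b ∈ H, In a → In b → ∃ d ∈ D, d * a * d⁻¹ = b) {a : G} (ha : In a)
    (haH : a ∈ H) : 𝐨(A) - 1 ∣ 𝐂[a].relIndex D := by
  have e : sharp (H1.bar H (Od H) A) =
      {c | ∃ y ∈ H1.bar H (Od H) D, y * pr H ⟨a, haH⟩ * y⁻¹ = c} := by
    ext c
    constructor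
    · rintro ⟨hc, c1⟩
      obtain ⟨b, hbH, -, hb, rfl⟩ := h.exists_lift hc c1
      obtain ⟨d, hd, e⟩ := ht a haH b hbH ha hb
      refine ⟨pr H ⟨d, hD hd⟩, H1.qmk_mem_bar hd, ?_⟩
      rw [← map_inv, ← map_mul, ← map_mul]
      exact congrArg _ (Subtype.ext e)
    · rintro ⟨y, -, rfl⟩
      exact ⟨H1.conj_mem_of_le_normalizer h.norm_bar (mem_top y) (h.mem_bar ha haH),
        fun e => (ha.pr haH).ne (by simpa using e)⟩
  rw [← h.card_bar, ← ncard_sharp, e, ncard_class, H1.bar, ← relIndex_comap,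
    ← relIndex_subgroupOf hD]
  refine relIndex_dvd_of_le_left _ fun x hx => mem_cent1.2 ?_
  rw [← map_mul, ← map_mul]
  exact congrArg _ (Subtype.ext (mem_cent1.1 hx))

namespace Min0

variable (h : Min0 G Ω)
include h

theorem trans_D {α β : Ω} (hne : α ≠ β) : ∀ a ∈ stabilizer G α, ∀ b ∈ stabilizer G α,
    In a → In b → ∃ d ∈ St2 G α β, d * a * d⁻¹ = b :=
  fun _ ea _ eb ha hb => h.exists_conj_D ha hb ea eb hne

theorem trans_Od {α β : Ω} (hne : α ≠ β) : ∀ a ∈ stabilizer G α, ∀ b ∈ stabilizer G α,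
    In a → In b → ∃ d ∈ Od (St2 G α β), d * a * d⁻¹ = b :=
  fun _ ea _ eb ha hb => h.exists_conj_Od ha hb ea eb hne

theorem sub_one_dvd {α : Ω} {A : Subgroup G} (hA : Pt (stabilizer G α) A) :
    𝐨(A) - 1 ∣ (Iv G α).ncard := by
  have := h.two
  obtain ⟨β, hne⟩ := exists_ne α
  obtain ⟨a, ha, ea⟩ := h.all α
  rw [h.ncard_Iv ha ea hne.symm]
  exact hA.sub_one_dvd inf_le_left (h.trans_D hne.symm) ha ea

theorem card_A {α : Ω} {A : Subgroup G} (hA : Pt (stabilizer G α) A) :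
    ∃ n, Odd n ∧ 3 ≤ n ∧ 𝐨(A) = 2 ^ n := by
  obtain ⟨n, hn, e⟩ := hA.card
  refine ⟨n, odd_of_not_three fun hd => h.three ?_, hn, e⟩
  obtain ⟨a, ha, ea⟩ := h.all α
  have := h.sub_one_dvd hA
  rw [h.ncard_Iv_stab ha ea, e] at this
  exact (hd.trans this).trans ((relIndex_dvd_card' _ _).trans (card_subgroup_dvd_card _))

theorem dvd_sub_one {r : ℕ} (hr : r.Prime) (hnw : NW G Ω r) {α : Ω} {A : Subgroup G}
    (hA : Pt (stabilizer G α) A) (hm : r ∣ (Iv G α).ncard) : r ∣ 𝐨(A) - 1 := by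
  by_contra hd
  obtain ⟨R, hR⟩ := exists_isSyl hr (stabilizer G α)
  obtain ⟨a, ea, ha, hc⟩ := hA.exists_cent hr hR.pgrp hR.le hd
  obtain ⟨o, ho, e⟩ := hnw.cent_lift hr hR.pgrp (odd_Od _) ha ea (Od_normal _).1
    ((Od_normal _).2 ea) (hR.le.trans (Od_normal _).2) hc
  rw [h.ncard_Iv_stab (ha.conj o) (conj_fix' ea ((Od_normal _).1 ho))] at hm
  exact hR.ndvd (hm.trans (relIndex_dvd_of_le_left _ (mem_cent_iff_cent1.1 e)))

theorem not_dvd_sq {r : ℕ} (hr : r.Prime) (h2 : r ≠ 2) (hnw : NW G Ω r) {α : Ω}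
    (hm : r ∣ (Iv G α).ncard) (j : ℕ) : ¬ r ∣ (2 ^ j) ^ 2 + 1 := by
  obtain ⟨A, hA⟩ := h.pt α
  obtain ⟨n, hn, -, e⟩ := h.card_A hA
  exact not_dvd_sq_add_one hr h2 hn (e ▸ h.dvd_sub_one hr hnw hA hm) j

omit h in
/-- In a subgroup of rank one the number of involutions fixing a point is prime to `r`. -/
theorem not_dvd_of_not_rk2 {r : ℕ} (hr : r.Prime) (hnw : NW G Ω r) {C : Subgroup G}
    (hC : ¬ Rk2 C) {γ : Ω} (hγ : γ ∈ Fx Ω C) : ¬ r ∣ (Iv G γ ∩ C).ncard := by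
  obtain ⟨c, hcC, hc, ec⟩ := hγ
  have e : Iv G γ ∩ C = {x | ∃ y ∈ Od C ⊓ stabilizer G γ, y * c * y⁻¹ = x} := by
    ext b
    constructor
    · rintro ⟨⟨hb, eb⟩, hbC⟩
      have ho := odd_mul_of_not_rk2 hC hcC hbC hc hb
      obtain ⟨y, hy, e⟩ := exists_conj_of_odd hc.toInv hb.toInv ho
      refine ⟨y, (zpowers_le.2 ⟨mul_mem_Od hC hcC hbC hc hb, ?_⟩ :
        zpowers (c * b) ≤ Od C ⊓ stabilizer G γ) hy, e⟩
      show (c * b) • γ = γ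
      rw [mul_smul, eb, ec]
    · rintro ⟨y, hy, rfl⟩
      have := (Od_normal C).1 hy.1
      exact ⟨⟨hc.conj y, conj_fix' ec hy.2⟩, mul_mem (mul_mem this hcC) (inv_mem this)⟩
  rw [e, ncard_class]
  exact hnw.not_dvd hr (odd_of_le inf_le_left (odd_Od C)) hc ec inf_le_right
    (H1.le_normalizer_inf (A := zpowers c) (zpowers_le.2 ((Od_normal C).2 hcC))
      (zpowers_le.2 (le_norm_self _ ec)) (mem_zpowers c))

/-- (L2') -/
theorem L2' {r : ℕ} (hr : r.Prime) (h2 : r ≠ 2) (hnw : NW G Ω r) {X : Subgroup G}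
    (hX : IsPGroup r X) (h1 : Fx Ω 𝐂(X) = ∅)
    (hbig : ∀ Y : Subgroup G, X < Y → IsPGroup r Y → ∀ α β γ : Ω, Y ≤ stabilizer G α →
      Y ≤ stabilizer G β → Y ≤ stabilizer G γ → α ≠ β → α ≠ γ → β = γ)
    {v : G} (hv : In v) (hvN : v ∈ 𝐍(X))
    {δ ε ζ : Ω} (hδ : X ≤ stabilizer G δ) (hε : X ≤ stabilizer G ε) (hζ : X ≤ stabilizer G ζ)
    (n1 : δ ≠ ε) (n2 : δ ≠ ζ) : ε = ζ := by
  by_contra n3
  have hinv : ∀ c ∈ 𝐍(X), In c → ∀ α : Ω, X ≤ stabilizer G α → c • α ≠ α := by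
    intro c hcN hc α hα e
    have : α ∈ Fx Ω 𝐂(X) := ⟨c, hnw.mem_cent hr hX hα hc e hcN, hc, e⟩
    rw [h1] at this
    exact this
  have hXo := odd_of_isPGroup hr h2 hX
  have hrk : ¬ Rk2 𝐍(X) := fun hrk => by
    obtain ⟨a, haN, b, hbN, ha, hb, hab⟩ := id hrk
    obtain ⟨γ, eγ⟩ := h.ex ha
    exact hinv a haN ha γ (h.toSE.le_stab_of_rk2 hrk hXo le_rfl ⟨a, haN, ha, eγ⟩) eγ
  have hON := Od_normal 𝐍(X)
  have hsw : ∀ α β : Ω, X ≤ stabilizer G α → X ≤ stabilizer G β → α ≠ β →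
      ∃ w ∈ 𝐍(X), In w ∧ w • α = β := by
    intro α β hα hβ hne
    by_cases hs : IsSyl r X (St2 G α β)
    · exact h.exists_swap_norm hr h2 hne hs
    obtain ⟨Y0, hlt, hYD, hYn, hY0⟩ := exists_gt_of_not_isSyl hr hX (le_inf hα hβ) hs
    obtain ⟨Y, hY, hY0Y⟩ := exists_isSyl_ge hr hY0 (le_inf hYn hYD)
    have hlt' : X < Y := hlt.trans_le hY0Y
    have hYα : Y ≤ stabilizer G α := (hY.le.trans inf_le_right).trans inf_le_left
    have hYβ : Y ≤ stabilizer G β := (hY.le.trans inf_le_right).trans inf_le_right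
    have hYN : Y ≤ 𝐍(X) := hY.le.trans inf_le_left
    have hfix : ∀ g ∈ 𝐍(Y), g • α ≠ α → g • α = β := fun g hg e =>
      hbig Y hlt' hY.pgrp α _ _ hYα (le_stab_smul hg hYα) hYβ e.symm hne
    have hfix' : ∀ g ∈ 𝐍(Y), g • β ≠ β → g • β = α := fun g hg e =>
      hbig Y hlt' hY.pgrp β _ _ hYβ (le_stab_smul hg hYβ) hYα e.symm hne.symm
    have hsyl : IsSyl r Y 𝐍(X) := by
      by_contra hns
      obtain ⟨Z, hYZ, hZ, hZn, hZp⟩ := exists_gt_of_not_isSyl hr hY.pgrp hYN hns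
      have hZo := odd_of_isPGroup hr h2 hZp
      refine hYZ.ne' (hY.eq_of_le hr hYZ.le (le_inf hZ fun z hz => ?_) hZp)
      have k1 : z • α = α := by
        by_contra e
        have e1 := hfix z (hZn hz) e
        exact hne (eq_of_swap_of_odd (odd_orderOf_of_mem hZo hz) e1 (hfix' z (hZn hz) fun e2 =>
          hne (smul_left_cancel z (e1.trans e2.symm))))
      refine ⟨k1, ?_⟩
      by_contra e
      exact hne (smul_left_cancel z (k1.trans (hfix' z (hZn hz) e).symm))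
    have hle : Y ⊔ Od 𝐍(X) ≤ 𝐍(X) := sup_le hYN hON.1
    obtain ⟨P, hP, -, hPn⟩ := exists_invariant_isSyl hr
      (zpowers_le.2 (mem_norm_sup (hON.2 hvN) fun x hx => comm_mem_Od hrk hvN hv (hYN hx)))
      (hv.coprime (odd_sup (odd_of_isPGroup hr h2 hY.pgrp) (odd_Od _) (hYN.trans hON.2)))
      (Or.inl (Inv.solv v)) (IsPGroup.of_bot (p := r)) bot_le (by rw [norm_bot]; exact le_top)
    obtain ⟨g, hg, e⟩ := (hsyl.of_le le_sup_left hle).exists_conj_eq hr hP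
    have k1 : g * v * g⁻¹ ∈ 𝐍(X) := mul_mem (mul_mem (hle hg) hvN) (inv_mem (hle hg))
    refine ⟨_, k1, hv.conj g, hfix _ ?_ (hinv _ k1 (hv.conj g) α hα)⟩
    rw [← e, norm_conj]; exact conj_mem_conj (hPn (mem_zpowers v)) g
  obtain ⟨u, huN, hu, eu⟩ := hsw δ ε hδ hε n1
  obtain ⟨w, hwN, hw, ew⟩ := hsw δ ζ hδ hζ n2
  obtain ⟨t, htN, ht, et⟩ := hsw ζ ε hζ hε (Ne.symm n3)
  obtain ⟨y, hy, e⟩ := exists_fix_of_swaps hrk hu hw ht huN hwN htN eu ew et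
  exact hinv u huN hu _ (le_stab_smul (hON.1 hy) hδ) e

/-- (L2), once all involutions lie in the class. -/
theorem L2 (hall : ∀ t : G, Inv t → In t) {r : ℕ} (hr : r.Prime) (h2 : r ≠ 2) (hnw : NW G Ω r)
    {X : Subgroup G} (hX : IsPGroup r X) (h1 : Fx Ω 𝐂(X) = ∅) {δ ε ζ : Ω}
    (hδ : X ≤ stabilizer G δ) (hε : X ≤ stabilizer G ε) (hζ : X ≤ stabilizer G ζ) (n1 : δ ≠ ε)
    (n2 : δ ≠ ζ) : ε = ζ := by
  by_contra n3
  obtain ⟨X, ⟨hX, h1, δ, ε, ζ, hδ, hε, hζ, n1, n2, n3⟩, hmax⟩ := exists_max_card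
    (P := fun X : Subgroup G => IsPGroup r X ∧ Fx Ω 𝐂(X) = ∅ ∧
      ∃ δ ε ζ : Ω, X ≤ stabilizer G δ ∧ X ≤ stabilizer G ε ∧ X ≤ stabilizer G ζ ∧
        δ ≠ ε ∧ δ ≠ ζ ∧ ε ≠ ζ) ⟨X, hX, h1, δ, ε, ζ, hδ, hε, hζ, n1, n2, n3⟩
  have hbig : ∀ Y : Subgroup G, X < Y → IsPGroup r Y → ∀ α β γ : Ω, Y ≤ stabilizer G α →
      Y ≤ stabilizer G β → Y ≤ stabilizer G γ → α ≠ β → α ≠ γ → β = γ := by
    intro Y hlt hY α β γ k1 k2 k3 k4 k5
    by_contra k6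
    have := hmax Y ⟨hY, Set.eq_empty_of_subset_empty (h1 ▸ Fx_mono (cent_anti hlt.le)),
      α, β, γ, k1, k2, k3, k4, k5, k6⟩
    have := H1.card_lt_of_lt hlt
    omega
  have ho : Odd 𝐨(𝐍(X)) := odd_of_no_inv fun v hvN hv =>
    n3 (h.L2' hr h2 hnw hX h1 hbig (hall v hv) hvN hδ hε hζ n1 n2)
  have hsyl : ∀ α β : Ω, X ≤ stabilizer G α → X ≤ stabilizer G β → α ≠ β → ∃ Y, X < Y ∧
      IsSyl r Y (𝐍(X) ⊓ stabilizer G α) ∧ Y ≤ stabilizer G β := by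
    intro α β hα hβ hne
    have hs : ¬ IsSyl r X (St2 G α β) := fun hs => by
      obtain ⟨v, hvN, hv, -⟩ := h.exists_swap_norm hr h2 hne hs
      exact hv.not_mem_of_odd ho hvN
    obtain ⟨Y0, hlt, hYD, hYn, hY0⟩ := exists_gt_of_not_isSyl hr hX (le_inf hα hβ) hs
    obtain ⟨Y, hY, hY0Y⟩ := exists_isSyl_ge hr hY0 (le_inf hYn hYD)
    have hlt' : X < Y := hlt.trans_le hY0Y
    have hYα : Y ≤ stabilizer G α := (hY.le.trans inf_le_right).trans inf_le_left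
    have hYβ : Y ≤ stabilizer G β := (hY.le.trans inf_le_right).trans inf_le_right
    refine ⟨Y, hlt', ?_, hYβ⟩
    by_contra hns
    obtain ⟨Z, hYZ, hZ, hZn, hZp⟩ := exists_gt_of_not_isSyl hr hY.pgrp
      (le_inf (hY.le.trans inf_le_left) hYα) hns
    refine hYZ.ne' (hY.eq_of_le hr hYZ.le (fun z hz => ⟨(hZ hz).1, (hZ hz).2, ?_⟩) hZp)
    exact hbig Y hlt' hY.pgrp α _ _ hYα (le_stab_smul (hZn hz) hYβ) hYβ
      (fun e => hne (smul_left_cancel z ((hZ hz).2.trans e))) hne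
  have htr : ∀ α β γ : Ω, X ≤ stabilizer G α → X ≤ stabilizer G β → X ≤ stabilizer G γ →
      α ≠ β → α ≠ γ → ∃ g ∈ 𝐍(X), g • α = α ∧ g • β = γ := by
    intro α β γ hα hβ hγ k1 k2
    obtain ⟨Y, -, hY, hYβ⟩ := hsyl α β hα hβ k1
    obtain ⟨Z, hlt, hZ, hZγ⟩ := hsyl α γ hα hγ k2
    obtain ⟨g, hg, e⟩ := hZ.exists_conj_eq hr hY
    refine ⟨g, hg.1, hg.2, hbig Z hlt hZ.pgrp α _ _ (hZ.le.trans inf_le_right) ?_ hZγ
      (fun e => k1 (smul_left_cancel g (hg.2.trans e))) k2⟩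
    rw [← e, stabilizer_smul']
    exact conj_mono hYβ g
  obtain ⟨g1, m1, a1, b1⟩ := htr δ ε ζ hδ hε hζ n1 n2
  obtain ⟨g2, m2, a2, b2⟩ := htr ζ δ ε hζ hδ hε n2.symm (Ne.symm n3)
  obtain ⟨g3, m3, a3, b3⟩ := htr ε ζ δ hε hζ hδ n3 n1.symm
  exact n1 (eq_of_swap_of_odd (odd_orderOf_of_mem ho (mul_mem m3 (mul_mem m2 m1)))
    (by rw [mul_smul, mul_smul, a1, b2, a3]) (by rw [mul_smul, mul_smul, b1, a2, b3]))

end Min0

namespace Min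

variable (h : Min G Ω)
include h

/-- The local part of L1: the centralizer of a bad subgroup has rank one. -/
theorem not_rk2_of_bad {r : ℕ} (hr : r.Prime) (h2 : r ≠ 2) (hnw : NW G Ω r) {X : Subgroup G}
    (hX : IsPGroup r X) (h1 : (Fx Ω 𝐂(X)).Nonempty) {δ : Ω} (hδ : X ≤ stabilizer G δ)
    (hδ1 : δ ∉ Fx Ω 𝐂(X)) : r ∣ (Iv G δ).ncard ∧ ¬ Rk2 𝐂(X) := by
  have hm : r ∣ (Iv G δ).ncard := by
    by_contra hd
    obtain ⟨s, hs, hc⟩ := exists_cent_of_not_dvd hr hX (S := Iv G δ)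
      (fun x hx s hs => ⟨hs.1.conj x, conj_fix' hs.2 (hδ hx)⟩) hd
    exact hδ1 ⟨s, hc, hs.1, hs.2⟩
  have key : ∀ c ∈ 𝐂(X), In c → ∀ γ : Ω, c • γ = γ →
      ∃ k ∈ 𝐂(X) ⊓ stabilizer G δ, orderOf k = r ∧ c * k * c = k⁻¹ ∧ k • γ ≠ γ := by
    intro c hcX hc γ ec
    have hne : δ ≠ c • δ := fun e => hδ1 ⟨c, hcX, hc, e.symm⟩
    have hδ' : X ≤ stabilizer G (c • δ) := le_stab_smul (cent_le_norm X hcX) hδ
    have e1 := ncard_modEq_cent hr hX (S := Jv G δ (c • δ)) (fun x hx s hs => ⟨hs.1.conj x, by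
      have := conj_smul_smul x s δ
      rwa [hδ hx, hs.2, hδ' hx] at this⟩)
    have e2 := h.se.ncard_Jv_Od hc rfl hne hcX
    have e3 : r ∣ 𝐂[c].relIndex (Od (𝐂(X) ⊓ St2 G δ (c • δ))) := by
      rw [← e2]
      refine (Nat.modEq_zero_iff_dvd).1 (e1.symm.trans ((Nat.modEq_zero_iff_dvd).2 ?_))
      rwa [h.ncard_Jv hne δ]
    obtain ⟨k, hk, ho, hi⟩ := exists_inverted_of_dvd hr (odd_Od _) hc.toInv
      (h.se.J_norm_Od hc rfl hcX) e3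
    have hk' := (Od_normal _).1 hk
    exact ⟨k, ⟨hk'.1, hk'.2.1⟩, ho, hi, fun e => hnw k c γ ho hc ec e hi⟩
  refine ⟨hm, fun hrk => ?_⟩
  obtain ⟨γ0, c0, hc0X, hc0, ec0⟩ := h1
  have hX1 : X ≠ ⊥ := by
    rintro rfl
    rw [cent_bot] at hδ1
    exact hδ1 (h.mem_Fx_top δ)
  obtain ⟨L, n, hbt⟩ : BT Ω 𝐂(X) := by
    obtain ⟨k, hk, -, -, hk2⟩ := key c0 hc0X hc0 γ0 ec0
    exact h.ih 𝐂(X) (fun e => h.norm_ne_top_of_le hX1 hδ (top_le_iff.1 (e ▸ cent_le_norm X)))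
      hrk ⟨_, smul_mem_Fx' hk.1 ⟨c0, hc0X, hc0, ec0⟩, γ0, ⟨c0, hc0X, hc0, ec0⟩, hk2⟩
  generalize 𝐂(X) = N at *
  have hYo : Odd 𝐨((L ⊓ stabilizer G δ : Subgroup G)) := odd_of_no_inv fun a ha hi =>
    hδ1 ⟨a, hbt.normal.1 ha.1, hbt.inv a ha.1 hi, ha.2⟩
  have hφ : ∀ η ∈ Fx Ω N, ∃ ε ∈ Fx Ω N, ε ≠ η ∧
      L ⊓ stabilizer G δ ⊓ stabilizer G η ≤ stabilizer G ε := fun η hη =>
    hbt.exists_fixed h.se hη (odd_of_le inf_le_left hYo)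
      ((inf_le_left.trans inf_le_left).trans hbt.normal.1) inf_le_right
  choose! φ φ1 φ2 φ3 using hφ
  have hsw : ∀ c ∈ N, In c → ∃ η ∈ Fx Ω N, c • η = φ η ∧ η = φ (c • η) := by
    intro c hcN hc
    obtain ⟨γ, ec⟩ := h.ex hc
    obtain ⟨k, hk, ho, hi, hk2⟩ := key c hcN hc γ ec
    have hko : Odd (orderOf k) := ho ▸ hr.odd_of_ne_two h2
    have hkL : k ∈ L := mem_of_sq_mem hko (by
      have e := congrArg (·⁻¹) hi
      simp only [mul_inv_rev, hc.inv_eq, inv_inv] at e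
      have : k * k = k * c * k⁻¹ * c := by rw [mul_assoc, mul_assoc, e]
      rw [this]
      exact mul_mem (H1.conj_mem_of_le_normalizer hbt.normal.2 hk.1 (hbt.mem c hcN hc))
        (hbt.mem c hcN hc))
    obtain ⟨η, hη, hf⟩ := exists_fixed_of_not_dvd hr
      (isPGroup_of_card_prime (X := zpowers k) (by rw [Nat.card_zpowers, ho]))
      (h.se.finite_Fx N) (fun x hx s hs => smul_mem_Fx' ((zpowers_le.2 hk.1) hx) hs)
      (by rw [hbt.card]; exact h.not_dvd_sq hr h2 hnw hm n)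
    have gen : ∀ η ∈ Fx Ω N, k • η = η → k • c • η = c • η ∧ c • η = φ η := by
      intro η hη e
      have e1 : k • c • η = c • η := by
        have e2 : k * c = c * k⁻¹ := by rw [← hi, mul_assoc c k c, hc.mul_cancel_left]
        rw [← mul_smul, e2, mul_smul, inv_smul_eq_iff.2 e.symm]
      refine ⟨e1, ?_⟩
      by_contra n3
      refine hk2 (hbt.od_fix h.se ⟨c, hcN, hc, ec⟩ (hbt.fix3 k hkL η hη _ (smul_mem_Fx' hcN hη) _
        (φ1 η hη) (fun e2 => hk2 ?_) (φ2 η hη).symm n3 e e1 (φ3 η hη ⟨⟨hkL, hk.2⟩, e⟩)))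
      rwa [h.uniq hc ec e2.symm]
    obtain ⟨g1, g2⟩ := gen η hη (hf k (mem_zpowers k))
    refine ⟨η, hη, g2, ?_⟩
    rw [← (gen _ (smul_mem_Fx' hcN hη) g1).2, hc.smul_smul]
  have : Nonempty Ω := ⟨δ⟩
  choose! η η1 η2 η3 using hsw
  have ha : ∀ γ ∈ Fx Ω N, ∃ a ∈ N, In a ∧ a • γ = γ := fun γ hγ => hγ
  choose! a a1 a2 a3 using ha
  -- `c ↦ c a c` is injective
  have uq : ∀ c ∈ N, In c → ∀ d ∈ N, In d → ∀ ζ ∈ Fx Ω N, ∀ ξ ∈ Fx Ω N, c • ζ = φ ζ →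
      d • ξ = φ ξ → c * a (φ ζ) * c = d * a (φ ξ) * d → ζ = ξ ∧ c = d := by
    intro c hcN hc d hdN hd ζ hζ ξ hξ e1 e2 e
    have k1 : ζ = ξ := h.uniq ((a2 _ (φ1 ζ hζ)).conj_inv hc.toInv)
      (by rw [mul_smul, mul_smul, e1, a3 _ (φ1 ζ hζ), hc.smul_eq e1])
      (by rw [e, mul_smul, mul_smul, e2, a3 _ (φ1 ξ hξ), hd.smul_eq e2])
    subst k1
    exact ⟨rfl, h.se.swap_unique (a2 _ (φ1 ζ hζ)) (a3 _ (φ1 ζ hζ)) (φ2 ζ hζ) hc (hc.smul_eq e1) hd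
      (hd.smul_eq e2) e⟩
  have hmaps : Set.MapsTo (fun c => c * a (φ (η c)) * c) {c | c ∈ N ∧ In c} {c | c ∈ N ∧ In c} :=
    fun c hc => ⟨mul_mem (mul_mem hc.1 (a1 _ (φ1 _ (η1 c hc.1 hc.2)))) hc.1,
      (a2 _ (φ1 _ (η1 c hc.1 hc.2))).conj_inv hc.2.toInv⟩
  have hinj : Set.InjOn (fun c => c * a (φ (η c)) * c) {c | c ∈ N ∧ In c} := fun c hc d hd e =>
    (uq c hc.1 hc.2 d hd.1 hd.2 _ (η1 c hc.1 hc.2) _ (η1 d hd.1 hd.2) (η2 c hc.1 hc.2)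
      (η2 d hd.1 hd.2) e).2
  have hsurj := ((Set.toFinite _).injOn_iff_bijOn_of_mapsTo hmaps).1 hinj
  have hζ := smul_mem_Fx' hc0X (η1 c0 hc0X hc0)
  obtain ⟨d, hd, e⟩ := hsurj.surjOn (show c0 * a (φ (c0 • η c0)) * c0 ∈ {c | c ∈ N ∧ In c} from
    ⟨mul_mem (mul_mem hc0X (a1 _ (φ1 _ hζ))) hc0X, (a2 _ (φ1 _ hζ)).conj_inv hc0.toInv⟩)
  obtain ⟨k1, rfl⟩ := uq d hd.1 hd.2 c0 hc0X hc0 _ (η1 d hd.1 hd.2) _ hζ (η2 d hd.1 hd.2)
    (by rw [hc0.smul_smul]; exact η3 c0 hc0X hc0) e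
  exact φ2 _ (η1 d hd.1 hd.2) ((η2 d hd.1 hd.2).symm.trans k1.symm)

/-- (L1) -/
theorem L1 {r : ℕ} (hr : r.Prime) (hr2 : r ≠ 2) (hnw : NW G Ω r) {X : Subgroup G}
    (hX : IsPGroup r X)
    (h1 : (Fx Ω 𝐂(X)).Nonempty) {δ : Ω} (hδ : X ≤ stabilizer G δ) : δ ∈ Fx Ω 𝐂(X) := by
  by_contra hδ1
  obtain ⟨X, ⟨hX, ⟨γ, c, hcX, hc, ec⟩, δ, hδ, hδ1⟩, hmax⟩ := exists_max_card
    (P := fun X : Subgroup G => IsPGroup r X ∧ (Fx Ω 𝐂(X)).Nonempty ∧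
      ∃ δ : Ω, X ≤ stabilizer G δ ∧ δ ∉ Fx Ω 𝐂(X)) ⟨X, hX, h1, δ, hδ, hδ1⟩
  have hm := (h.not_rk2_of_bad hr hr2 hnw hX ⟨γ, c, hcX, hc, ec⟩ hδ hδ1).1
  have hne : δ ≠ c • δ := fun e => hδ1 ⟨c, hcX, hc, e.symm⟩
  have hδ' : X ≤ stabilizer G (c • δ) := le_stab_smul (cent_le_norm X hcX) hδ
  have hXs : IsSyl r X (𝐂[c] ⊓ St2 G δ (c • δ)) := by
    refine isSyl_of_maximal hr (le_inf (mem_cent_iff_cent1.1 hcX) (le_inf hδ hδ')) hX
      fun Q hXQ hQ hQp => (H1.eq_of_le_of_card_le hXQ (hmax Q ⟨hQp,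
        ⟨γ, c, mem_cent_iff_cent1.2 (hQ.trans inf_le_left), hc, ec⟩, δ,
        (hQ.trans inf_le_right).trans inf_le_left,
        fun h2 => hδ1 (Fx_mono (cent_anti hXQ) h2)⟩)).symm
  obtain ⟨a, ha, ea⟩ := h.all δ
  obtain ⟨X', hX'⟩ := exists_isSyl hr (𝐂[a] ⊓ St2 G δ (c • δ))
  have hcard : 𝐨(X') = 𝐨(X) := by
    rw [hX'.card_eq_pow_factorization hr, hXs.card_eq_pow_factorization hr,
      card_inf_eq_of_relIndex ((h.ncard_Iv ha ea hne).symm.trans (h.ncard_Iv' hc rfl hne δ))]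
  have haX' : a ∈ 𝐂(X') := mem_cent_iff_cent1.2 (hX'.le.trans inf_le_left)
  have hX'D : X' ≤ St2 G δ (c • δ) := hX'.le.trans inf_le_right
  have hbad : c • δ ∉ Fx Ω 𝐂(X') := by
    intro h2
    obtain ⟨v, hvX, hv, ev⟩ := h.toSE.exists_swap_Fx ⟨a, haX', ha, ea⟩ h2 hne
    obtain ⟨d, -, hd, e⟩ := h.toSE.exists_conj_J hv ev hne hc rfl
    have h3 : X' ^ᵍ d ≤ 𝐂[c] ⊓ St2 G δ (c • δ) := le_inf (by
      rw [← e, cent1_conj]; exact conj_mono (mem_cent_iff_cent1.1 hvX) d) (conj_le_of_mem hX'D hd)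
    have h4 := hXs.of_card_eq hr h3 (by rw [card_conj, hcard])
    obtain ⟨g, hg, e2⟩ := hXs.exists_conj_eq hr h4
    rw [conj_conj] at e2
    refine hδ1 ⟨(g * d) * a * (g * d)⁻¹, ?_, ha.conj _, conj_fix' ea ?_⟩
    · rw [← e2, cent_conj]; exact conj_mem_conj haX' _
    · rw [mul_smul, hd.1, hg.2.1]
  have hns : ¬ IsSyl r X' (St2 G δ (c • δ)) := fun hs => by
    have h3 := relIndex_dvd_of_le_left (St2 G δ (c • δ)) hX'.le
    rw [inf_relIndex_right, ← h.ncard_Iv ha ea hne] at h3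
    exact hs.ndvd (hm.trans h3)
  obtain ⟨Y, hlt, hYD, hYn, hY⟩ := exists_gt_of_not_isSyl hr hX'.pgrp hX'D hns
  have hrk := (h.not_rk2_of_bad hr hr2 hnw hX'.pgrp ⟨δ, a, haX', ha, ea⟩
    (hX'D.trans inf_le_right) hbad).2
  obtain ⟨s, hs, hsY⟩ := exists_cent_of_not_dvd hr hY (S := Iv G δ ∩ 𝐂(X'))
    (fun x hx s hs => ⟨⟨hs.1.1.conj x, conj_fix' hs.1.2 (hYD hx).1⟩,
      H1.conj_mem_of_le_normalizer (H1.le_normalizer_centralizer hYn) hx hs.2⟩)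
    (Min0.not_dvd_of_not_rk2 hr hnw hrk ⟨a, haX', ha, ea⟩)
  have := hmax Y ⟨hY, ⟨δ, s, hsY, hs.1.1, hs.1.2⟩, c • δ, hYD.trans inf_le_right,
    fun h2 => hbad (Fx_mono (cent_anti hlt.le) h2)⟩
  have := H1.card_lt_of_lt hlt
  omega

end Min

end Cfsg.Agent.P14.C
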