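/-
P14, endgame: basic facts (port of P6/End1, End2).
-/
import Cfsg.Agent.P14.EDefs

set_option autoImplicit false
set_option linter.unusedSectionVars false

namespace Cfsg.Agent.P14

open Subgroup Cfsg Cfsg.Agent Cfsg.Agent.FT MulAction
open Cfsg.Agent.P6
open scoped commutatorElement

universe u

variable {G Ω : Type u} [Group G] [Finite G] [MulAction G Ω]

namespace Ms

variable (h : Ms G Ω)
include h

theorem se : SE G Ω := h.toSE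

theorem mem_Av {α : Ω} {a : G} : a ∈ Av G α ↔ a * a = 1 ∧ a • α = α := by
  refine ⟨fun ha => ?_, fun ha => ?_⟩
  · induction ha using closure_induction with
    | mem x hx => exact ⟨hx.1.sq, hx.2⟩
    | one => exact ⟨one_mul 1, one_smul _ _⟩
    | mul x y _ _ hx hy =>
      refine ⟨?_, by rw [mul_smul, hy.2, hx.2]⟩
      by_cases x1 : x = 1
      · rw [x1, one_mul, hy.1]
      by_cases y1 : y = 1
      · rw [y1, mul_one, hx.1]
      have := h.comm x y α ⟨x1, hx.1⟩ ⟨y1, hy.1⟩ hx.2 hy.2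
      calc x * y * (x * y) = x * (y * x) * y := by group
        _ = 1 := by rw [← this, ← mul_assoc, hx.1, one_mul, hy.1]
    | inv x _ hx => rw [L.inv_eq_self_of_mul_self hx.1]; exact hx
  · by_cases a1 : a = 1
    · rw [a1]; exact one_mem _
    · exact subset_closure ⟨⟨a1, ha.1⟩, ha.2⟩

theorem sq {α : Ω} {a : G} (ha : a ∈ Av G α) : a * a = 1 := (h.mem_Av.1 ha).1

theorem fix {α : Ω} {a : G} (ha : a ∈ Av G α) : a • α = α := (h.mem_Av.1 ha).2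

theorem inv {α : Ω} {a : G} (ha : a ∈ Av G α) (h1 : a ≠ 1) : Inv a := ⟨h1, h.sq ha⟩

theorem mem {α : Ω} {a : G} (ha : Inv a) (e : a • α = α) : a ∈ Av G α := h.mem_Av.2 ⟨ha.sq, e⟩

theorem A_le (α : Ω) : Av G α ≤ stabilizer G α := fun _ ha => h.fix ha

theorem A_comm (α : Ω) : Av G α ≤ 𝐂(Av G α) := fun _ ha =>
  mem_cent.2 fun _ hb => L.commute_of_sq_eq_one (fun _ => h.sq) hb ha

theorem elem (α : Ω) : IsElementaryAbelian 2 (Av G α) :=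
  ⟨isMulComm_iff_le_cent.2 (h.A_comm α), fun _ ha => by rw [pow_two, h.sq ha]⟩

theorem conj_mem {α : Ω} {a : G} (ha : a ∈ Av G α) (g : G) : g * a * g⁻¹ ∈ Av G (g • α) :=
  h.mem_Av.2 ⟨by
    calc g * a * g⁻¹ * (g * a * g⁻¹) = g * (a * a) * g⁻¹ := by group
      _ = 1 := by rw [h.sq ha]; group, conj_fix (h.fix ha)⟩

theorem A_smul (g : G) (α : Ω) : Av G (g • α) = Av G α ^ᵍ g := by
  ext x
  rw [mem_conj]
  refine ⟨fun hx => ?_, fun hx => ?_⟩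
  · simpa using h.conj_mem hx g⁻¹
  · simpa [mul_assoc] using h.conj_mem hx g

theorem norm_A (α : Ω) : stabilizer G α ≤ 𝐍(Av G α) := fun g hg => by
  rw [← conj_eq_self_iff, ← h.A_smul, hg]

theorem sharp_A (α : Ω) : sharp (Av G α) = Iv G α := by
  ext a
  exact ⟨fun ha => ⟨h.inv ha.1 ha.2, h.fix ha.1⟩, fun ha => ⟨h.mem ha.1 ha.2, ha.1.ne⟩⟩

theorem ncard_Iv_eq (α : Ω) : (Iv G α).ncard = 𝐨(Av G α) - 1 := by
  rw [← h.sharp_A, ncard_sharp]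

theorem rk2_A (α : Ω) : Rk2 (Av G α) :=
  rk2_of_two_lt (fun _ => h.sq) (lt_of_lt_of_le (by norm_num) (h.eight α))

theorem rk2 : Rk2 (⊤ : Subgroup G) := by
  obtain ⟨α, -⟩ := h.two
  exact (h.rk2_A α).mono le_top

theorem all (α : Ω) : ∃ a : G, Inv a ∧ a • α = α := by
  obtain ⟨x, hx, -, -, hxi, -⟩ := h.rk2_A α
  exact ⟨x, hxi, h.fix hx⟩

theorem mem_Fx_top (α : Ω) : α ∈ Fx Ω (⊤ : Subgroup G) := by
  obtain ⟨a, h1, h2⟩ := h.all α
  exact ⟨a, mem_top a, h1, h2⟩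

theorem trans (α β : Ω) : ∃ g : G, g • α = β := by
  obtain ⟨g, -, e⟩ := h.toSE.exists_smul_Fx (h.mem_Fx_top α) (h.mem_Fx_top β)
  exact ⟨g, e⟩

theorem exists_J {α β : Ω} (hne : α ≠ β) : ∃ u : G, Inv u ∧ u • α = β := by
  obtain ⟨u, -, e⟩ := h.toSE.exists_swap_Fx (h.mem_Fx_top α) (h.mem_Fx_top β) hne
  exact ⟨u, e⟩

theorem isConj {a b : G} (ha : Inv a) (hb : Inv b) : ∃ g : G, g * a * g⁻¹ = b := by
  have := h.two
  obtain ⟨α, β, hne⟩ := exists_pair_ne Ω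
  obtain ⟨g, -, e⟩ := h.toSE.exists_conj ⟨α, h.mem_Fx_top α, β, h.mem_Fx_top β, hne⟩ ha hb
    (mem_top a) (mem_top b)
  exact ⟨g, e⟩

theorem exists_conj_D {a b : G} {α β : Ω} (ha : Inv a) (hb : Inv b) (ea : a • α = α)
    (eb : b • α = α) (hne : α ≠ β) : ∃ d ∈ St2 G α β, d * a * d⁻¹ = b := by
  obtain ⟨d, hd, e⟩ := h.toSE.exists_conj_St2 ha hb ea eb hne (mem_top a) (mem_top b)
    (h.mem_Fx_top β)
  exact ⟨d, hd.2, e⟩

theorem stab_ne_top (α : Ω) : stabilizer G α ≠ ⊤ := fun e => by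
  have := h.two
  obtain ⟨β, hne⟩ := exists_ne α
  obtain ⟨g, rfl⟩ := h.trans α β
  exact hne (mem_stabilizer_iff.1 (e ▸ mem_top g))

theorem norm_ne_top {X : Subgroup G} (h1 : X ≠ ⊥) (h2 : X ≠ ⊤) : 𝐍(X) ≠ ⊤ := fun e => by
  have := h.simple
  rcases (normal_iff_top_le.2 e.ge : X.Normal).eq_bot_or_eq_top with h3 | h3
  · exact h1 h3
  · exact h2 h3

theorem norm_ne_top_of_le {X : Subgroup G} (h1 : X ≠ ⊥) {α : Ω} (h2 : X ≤ stabilizer G α) :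
    𝐍(X) ≠ ⊤ :=
  h.norm_ne_top h1 fun e => h.stab_ne_top α (top_le_iff.1 (e ▸ h2))

theorem norm_ne_top_of_odd {X : Subgroup G} (h1 : X ≠ ⊥) (h2 : Odd 𝐨(X)) : 𝐍(X) ≠ ⊤ :=
  h.norm_ne_top h1 fun e => by
    obtain ⟨a, -, -, -, ha, -⟩ := h.rk2
    exact ha.not_mem_of_odd h2 (e ▸ mem_top a)

theorem ncard_Iv_eq' (α β : Ω) : (Iv G α).ncard = (Iv G β).ncard := by
  obtain ⟨g, rfl⟩ := h.trans α β
  exact (SE.ncard_Iv_smul g α).symm

theorem ncard_Iv {a : G} {α β : Ω} (ha : Inv a) (ea : a • α = α) (hne : α ≠ β) :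
    (Iv G α).ncard = 𝐂[a].relIndex (St2 G α β) := by
  simpa using h.toSE.ncard_Iv ha ea hne (mem_top a) (h.mem_Fx_top β)

theorem ncard_Jv {α β : Ω} (hne : α ≠ β) (γ : Ω) : (Jv G α β).ncard = (Iv G γ).ncard := by
  rw [h.ncard_Iv_eq' γ β]
  simpa using h.toSE.ncard_Jv_eq_Iv hne (h.mem_Fx_top α)

theorem ncard_Iv' {u : G} {α β : Ω} (hu : Inv u) (eu : u • α = β) (hne : α ≠ β) (γ : Ω) :
    (Iv G γ).ncard = 𝐂[u].relIndex (St2 G α β) := by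
  rw [← h.ncard_Jv hne γ]
  simpa using h.toSE.ncard_Jv hu eu hne (mem_top u)

theorem exists_A (α : Ω) : ∃ a ∈ Av G α, a ≠ 1 := by
  obtain ⟨x, hx, -, -, hxi, -⟩ := h.rk2_A α
  exact ⟨x, hx, hxi.ne⟩

theorem A_ne (α : Ω) : Av G α ≠ ⊥ := fun e => by
  obtain ⟨a, ha, h1⟩ := h.exists_A α
  exact h1 (mem_bot.1 (e ▸ ha))

theorem card_A (α : Ω) : ∃ n, 2 ≤ n ∧ 𝐨(Av G α) = 2 ^ n := by
  have h1 := (h.rk2_A α).two_le_pRank
  exact ⟨_, h1, (isElem_pRank_of_elemAb Nat.prime_two (h.elem α)).card⟩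

theorem four_le (α : Ω) : 4 ≤ 𝐨(Av G α) := by
  obtain ⟨n, hn, e⟩ := h.card_A α
  rw [e]
  exact Nat.pow_le_pow_right two_pos hn

theorem C_le (α : Ω) : 𝐂(Av G α) ≤ stabilizer G α := by
  obtain ⟨a, ha, h1⟩ := h.exists_A α
  exact (cent_le_cent1 ha).trans (h.se.cent1_le (h.inv ha h1) (h.fix ha))

theorem norm_C (α : Ω) : stabilizer G α ≤ 𝐍(𝐂(Av G α)) :=
  H1.le_normalizer_centralizer (h.norm_A α)

theorem eq_one_of_fix {α β : Ω} (hne : α ≠ β) {a : G} (ha : a ∈ Av G α) (e : a • β = β) :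
    a = 1 := by
  by_contra h1
  exact hne (h.se.uniq (h.inv ha h1) (h.fix ha) e)

theorem gl1 {α β : Ω} (hne : α ≠ β) : GL1 (Av G α) (St2 G α β) :=
  ⟨h.elem α, h.A_ne α, inf_le_left.trans (h.norm_A α), h.se.odd_St2 hne, fun _ ha a1 _ hb b1 =>
    h.exists_conj_D (h.inv ha a1) (h.inv hb b1) (h.fix ha) (h.fix hb) hne⟩

theorem relIndex_D {α β : Ω} (hne : α ≠ β) {a : G} (ha : a ∈ Av G α) (h1 : a ≠ 1) :
    𝐂[a].relIndex (St2 G α β) = 𝐨(Av G α) - 1 := by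
  rw [← h.ncard_Iv (h.inv ha h1) (h.fix ha) hne, h.ncard_Iv_eq]

theorem ne_two_of_dvd {α : Ω} {l : ℕ} (hd : l ∣ 𝐨(Av G α) - 1) : l ≠ 2 := by
  rintro rfl
  obtain ⟨n, hn, e⟩ := h.card_A α
  have h4 := h.four_le α
  have : 2 ∣ 𝐨(Av G α) := e ▸ dvd_pow_self 2 (by omega)
  omega

theorem syl_stab {α β : Ω} (hne : α ≠ β) {l : ℕ} (hl : l.Prime) (hd : l ∣ 𝐨(Av G α) - 1)
    {P : Subgroup G} (hP : IsSyl l P (St2 G α β)) :
    (∀ γ, α ≠ γ → P ≤ stabilizer G γ → γ = β) ∧ IsSyl l P (stabilizer G α) := by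
  have l2 := h.ne_two_of_dvd hd
  have k1 : ∀ γ, α ≠ γ → P ≤ stabilizer G γ → γ = β := fun γ n1 hγ => by
    by_contra n2
    obtain ⟨a, ha, a1, hc⟩ := h.L2 hl l2 hP.pgrp (hP.le.trans inf_le_left) hγ
      (hP.le.trans inf_le_right) n1 hne n2
    exact hP.ndvd ((h.relIndex_D hne ha a1 ▸ hd).trans
      (relIndex_dvd_of_le_left _ (mem_cent_iff_cent1.1 hc)))
  refine ⟨k1, ?_⟩
  by_contra hn
  obtain ⟨Y, lt, hY, hn, hp⟩ := exists_gt_of_not_isSyl hl hP.pgrp (hP.le.trans inf_le_left) hn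
  refine lt.ne' (hP.eq_of_le hl lt.le (le_inf hY fun y hy => ?_) hp)
  refine k1 _ (fun e => hne ?_) (le_stab_smul (hn hy) (hP.le.trans inf_le_right))
  exact smul_left_cancel y ((hY hy).trans e)

theorem two_trans {α β γ : Ω} (h1 : α ≠ β) (h2 : α ≠ γ) :
    ∃ g ∈ stabilizer G α, g • β = γ := by
  have h4 := h.four_le α
  obtain ⟨l, hl, hd⟩ := Nat.exists_prime_and_dvd (n := 𝐨(Av G α) - 1) (by omega)
  obtain ⟨P, hP⟩ := exists_isSyl hl (St2 G α β)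
  obtain ⟨P', hP'⟩ := exists_isSyl hl (St2 G α γ)
  obtain ⟨g, hg, e⟩ := (h.syl_stab h2 hl hd hP').2.exists_conj_eq hl (h.syl_stab h1 hl hd hP).2
  refine ⟨g, hg, (h.syl_stab h2 hl hd hP').1 _
    (fun e => h1 (smul_left_cancel g (hg.trans e))) ?_⟩
  rw [← e, stabilizer_smul']
  exact conj_mono (hP.le.trans inf_le_right) g

theorem exists_St2_conj {α β γ : Ω} (h1 : α ≠ β) (h2 : α ≠ γ) :
    ∃ g ∈ stabilizer G α, St2 G α γ = St2 G α β ^ᵍ g := by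
  obtain ⟨g, hg, e⟩ := h.two_trans h1 h2
  exact ⟨g, hg, by rw [← St2_smul, hg, e]⟩

theorem exists_prime_D {α β : Ω} (hne : α ≠ β) {w : G} (hw : w ∈ St2 G α β) (w1 : w ≠ 1) :
    ∃ x ∈ zpowers w, ∃ r : ℕ, r.Prime ∧ r ≠ 2 ∧ orderOf x = r ∧ IsPGroup r (zpowers x) ∧
      zpowers x ≠ ⊥ ∧ zpowers x ≤ St2 G α β := by
  obtain ⟨x, hx, hp⟩ := exists_prime_pow_mem w1
  have hD : x ∈ St2 G α β := zpowers_le.2 hw hx
  refine ⟨x, hx, _, hp, fun e => ?_, rfl, isPGroup_of_card_prime (Nat.card_zpowers x),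
    ne_bot_of_card_prime (by rwa [Nat.card_zpowers]), zpowers_le.2 hD⟩
  exact (inv_of_orderOf e).not_mem_of_odd (h.se.odd_St2 hne) hD

theorem W_le_cent {α β : Ω} (hne : α ≠ β) {u : G} (hu : Inv u) (eu : u • α = β) :
    St2 G α β ⊓ 𝐂(Av G α) ≤ 𝐂[u] := by
  refine le_of_forall_isSyl_le fun r hr X hX => ?_
  by_cases X1 : X = ⊥
  · exact X1 ▸ bot_le
  have r2 : r ≠ 2 := by
    rintro rfl
    exact (Nat.not_even_iff_odd.2 (odd_of_le (hX.le.trans inf_le_left) (h.se.odd_St2 hne)))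
      (even_iff_two_dvd.2 (prime_dvd_card_of_isPGroup hr hX.pgrp X1))
  have hA : Av G α ≤ 𝐂(X) := cent_comm.1 (hX.le.trans inf_le_right)
  obtain ⟨a, ha, a1⟩ := h.exists_A α
  obtain ⟨v, hv, vi, ev⟩ := h.se.exists_swap_Fx
    (h.L1 hr r2 hX.pgrp ha a1 (hA ha) (hX.le.trans (inf_le_left.trans inf_le_left)))
    (h.L1 hr r2 hX.pgrp ha a1 (hA ha) (hX.le.trans (inf_le_left.trans inf_le_right))) hne
  have hB : Av G β ≤ 𝐂(X) := by
    rw [← ev, h.A_smul]; exact conj_le_of_mem hA hv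
  have hb : u * a * u ∈ Av G β := by simpa [hu.inv_eq, eu] using h.conj_mem ha u
  obtain ⟨v', vi', e1, e2, e3⟩ := h.se.exists_swap (h.inv ha a1) ((h.inv ha a1).conj_inv hu)
    (h.fix ha) (h.fix hb) hne
  rw [← h.se.swap_unique (h.inv ha a1) (h.fix ha) hne vi' e2 hu eu e1]
  exact mem_cent_iff_cent1.1 (e3 _ (hA ha) (hB hb))

theorem not_comm : ⁅(⊤ : Subgroup G), (⊤ : Subgroup G)⁆ = ⊤ := by
  have := h.simple
  rcases IsSimpleGroup.eq_bot_or_eq_top_of_normal ⁅(⊤ : Subgroup G), (⊤ : Subgroup G)⁆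
    inferInstance with e | e
  · obtain ⟨a, -, b, -, ha, hb, hne, -⟩ := h.rk2
    obtain ⟨g, hg⟩ := h.isConj ha hb
    have := (isMulComm_iff_comm_eq_bot.2 e).is_comm.comm ⟨g, mem_top g⟩ ⟨a, mem_top a⟩
    have h2 : g * a = a * g := congrArg Subtype.val this
    exact (hne (by rw [← hg, h2]; group)).elim
  · exact e

theorem eq_one_of_fix_all {x : G} (hx : ∀ β : Ω, x • β = β) : x = 1 := by
  have := h.simple
  rcases IsSimpleGroup.eq_bot_or_eq_top_of_normal (toPermHom G Ω).ker inferInstance with e | e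
  · have h1 : x ∈ (toPermHom G Ω).ker := by
      rw [MonoidHom.mem_ker]; exact Equiv.ext hx
    rwa [e, mem_bot] at h1
  · obtain ⟨α⟩ := h.two.to_nonempty
    refine (h.stab_ne_top α (top_le_iff.1 fun g _ => ?_)).elim
    have h1 : g ∈ (toPermHom G Ω).ker := e ▸ mem_top g
    rw [MonoidHom.mem_ker] at h1
    exact Equiv.congr_fun h1 α

theorem ncard_univ (α : Ω) :
    (Set.univ : Set Ω).ncard = (stabilizer G α).relIndex ⊤ := by
  rw [← ncard_orbit]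
  congr 1
  exact (Set.eq_univ_of_forall fun β => (h.trans α β).imp fun g hg => ⟨mem_top g, hg⟩).symm

theorem finite : Finite Ω := by
  obtain ⟨α⟩ := h.two.to_nonempty
  exact Finite.of_surjective (fun g : G => g • α) (h.trans α)

end Ms

namespace Bp

variable {α β : Ω} {Q : Subgroup G} (h : Bp α β Q)
include h

theorem mc : Ms G Ω := h.toMs

theorem se : SE G Ω := h.toMs.se

theorem QH : Q ≤ stabilizer G α := h.le.trans (h.mc.C_le α)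

theorem smul_ne {g : G} (hg : g ∈ stabilizer G α) : g • β ≠ α := fun e =>
  h.ne (smul_left_cancel g (hg.trans e.symm))

theorem eq_of_smul {z z' : G} (hz : z ∈ Q) (hz' : z' ∈ Q) (e : z • β = z' • β) : z = z' :=
  (inv_mul_eq_one.1 (h.free _ (mul_mem (inv_mem hz) hz') (by
    rw [mul_smul, ← e, inv_smul_smul])))

theorem sd : SdProd Q (St2 G α β) (stabilizer G α) := by
  refine ⟨le_antisymm (sup_le h.QH inf_le_left) fun g hg => ?_, inf_le_left.trans h.norm,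
    eq_bot_iff.2 fun z hz => h.free z hz.1 hz.2.2⟩
  obtain ⟨z, hz, e⟩ := h.tr _ (h.smul_ne hg)
  rw [← mul_inv_cancel_left z g]
  exact mul_mem_sup hz (mem_inf.2 ⟨mul_mem (inv_mem (h.QH hz)) hg, mem_stabilizer_iff.2 (by
    rw [mul_smul, ← e, inv_smul_smul])⟩)

theorem free' {z : G} (hz : z ∈ Q) {γ : Ω} (n1 : γ ≠ α) (e : z • γ = γ) : z = 1 := by
  obtain ⟨y, hy, rfl⟩ := h.tr γ n1
  simpa using h.eq_of_smul (mul_mem hz hy) hy (by rw [mul_smul, e])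

theorem cent_le {z : G} (hz : z ∈ Q) (z1 : z ≠ 1) : 𝐂[z] ≤ stabilizer G α := fun g hg => by
  by_contra n1
  refine z1 (h.free' hz n1 ?_)
  rw [← mul_smul, mem_cent1.1 hg, mul_smul, h.QH hz]

theorem ncard_orb {Y : Subgroup G} (hY : Y ≤ Q) : {c | ∃ y ∈ Y, y • β = c}.ncard = 𝐨(Y) := by
  rw [ncard_orbit, ← H1.card_inf_mul_relIndex (stabilizer G β) Y,
    show stabilizer G β ⊓ Y = ⊥ from eq_bot_iff.2 fun z hz => h.free z (hY hz.2) hz.1,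
    card_bot, one_mul]

theorem index_eq : (stabilizer G α).index = 𝐨(Q) + 1 := by
  have hn : α ∉ {c | ∃ y ∈ Q, y • β = c} := fun ⟨y, hy, e⟩ => h.smul_ne (h.QH hy) e
  rw [← relIndex_top_right, ← ncard_orbit, ← h.ncard_orb le_rfl,
    ← Set.ncard_insert_of_notMem hn (finite_orbit Q β)]
  congr 1
  ext c
  refine ⟨fun _ => ?_, fun _ => ?_⟩
  · by_cases e : c = α
    · exact Or.inl e
    · exact Or.inr (h.tr c e)
  · obtain ⟨g, e⟩ := h.mc.trans α c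
    exact ⟨g, mem_top g, e⟩

theorem exists_cent {d : G} (hd : d ∈ St2 G α β) {γ : Ω} (n1 : γ ≠ α) (e : d • γ = γ) :
    ∃ z ∈ Q ⊓ 𝐂[d], z • β = γ := by
  obtain ⟨z, hz, rfl⟩ := h.tr γ n1
  refine ⟨z, ⟨hz, mem_cent1_comm.1 (mem_cent1_iff_conj.2 ?_)⟩, rfl⟩
  refine h.eq_of_smul (H1.conj_mem_of_le_normalizer h.norm hd.1 hz) hz ?_
  rw [mul_smul, mul_smul, (mem_St2.1 (inv_mem hd)).2, e]

theorem fix_of_cent {X : Subgroup G} (hX : X ≤ St2 G α β) {z : G} (hz : z ∈ 𝐂(X)) :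
    X ≤ stabilizer G (z • β) := fun x hx => by
  rw [mem_stabilizer_iff, ← mul_smul, mem_cent.1 hz x hx, mul_smul, (hX hx).2]

theorem QC_eq_bot {r : ℕ} (hr : r.Prime) (h2 : r ≠ 2) {X : Subgroup G} (hX : IsPGroup r X)
    (hD : X ≤ St2 G α β) (hn : ∀ a ∈ Av G α, a ≠ 1 → a ∉ 𝐂(X)) : Q ⊓ 𝐂(X) = ⊥ :=
  eq_bot_iff.2 fun z hz => by
    by_contra z1
    obtain ⟨a, ha, a1, hc⟩ := h.mc.L2 hr h2 hX (hD.trans inf_le_left) (hD.trans inf_le_right)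
      (h.fix_of_cent hD hz.2) h.ne (h.smul_ne (h.QH hz.1)).symm
      (fun e => z1 (h.free z hz.1 e.symm))
    exact hn a ha a1 hc

theorem ne_two {X : Subgroup G} (hD : X ≤ St2 G α β) : 𝐨(X) ≠ 2 := fun e => by
  have := odd_of_le hD (h.se.odd_St2 h.ne)
  rw [e] at this
  exact absurd this (by decide)

/-- The cyclic part of `D`. -/
theorem exists_F : ∃ F : Subgroup G, F ≤ St2 G α β ∧ ⁅St2 G α β, St2 G α β⁆ ≤ F ∧
    (∀ f ∈ F, ∀ a ∈ Av G α, a ≠ 1 → f * a = a * f → f ∈ 𝐂(Av G α)) ∧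
    ∀ u : G, P6.Inv u → u • α = β → ∀ k ∈ St2 G α β, u * k * u = k⁻¹ → ∀ l ∈ St2 G α β,
      u * l * u = l⁻¹ → k * l = l * k := by
  obtain ⟨F, hn, hW, hc, hf, hs, hm, -⟩ := (h.mc.gl1 h.ne).exists_F
  have nW : St2 G α β ≤ 𝐍(St2 G α β ⊓ 𝐂(Av G α)) :=
    H1.le_normalizer_inf (le_norm_self _) (inf_le_left.trans (h.mc.norm_C α))
  have key : ∀ Y : Subgroup G, Y ≤ 𝐍(F) → Y ≤ 𝐍(St2 G α β ⊓ 𝐂(Av G α)) →
      ∀ d ∈ ⁅Y, Y⁆, d ∈ St2 G α β → d ∈ F := fun Y h1 h2 d hd hD =>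
    hs d hD fun f hf => (der_cycMod hc hW (hn.1.trans nW) h1 h2
      (commutator_mem_commutator hd hf)).2
  refine ⟨F, hn.1, fun d hd => key _ hn.2 nW d hd (der_le _ hd), hf, fun u hu eu => ?_⟩
  have uD := Min.J_mem_norm hu eu
  have uW : u ∈ 𝐍(St2 G α β ⊓ 𝐂(Av G α)) :=
    cent_le_norm _ (mem_cent_iff_cent1.2 (h.mc.W_le_cent h.ne hu eu))
  have uF : u ∈ 𝐍(F) := mem_norm_of_conj_le (hm _ ⟨conj_le_of_mem_norm hn.1 uD, by
      rw [← conj_eq_of_mem_norm uD]; exact conj_le_norm_iff.2 hn.2⟩ (by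
    rw [← conj_comm]
    exact (conj_le_of_mem_norm (hc.der_le (hn.1.trans nW) hW) uW).trans inf_le_right))
  have mem : ∀ k ∈ St2 G α β, u * k * u = k⁻¹ → k ∈ F ⊓ 𝐂(St2 G α β ⊓ 𝐂(Av G α)) := by
    intro k hk e
    refine ⟨?_, ?_⟩
    · refine mem_of_sq_mem (odd_orderOf_of_mem (h.se.odd_St2 h.ne) hk) ?_
      refine key (St2 G α β ⊔ zpowers u) (sup_le hn.2 (zpowers_le.2 uF))
        (sup_le nW (zpowers_le.2 uW)) _ ?_ (mul_mem hk hk)
      have := commutator_mem_commutator (mem_sup_left hk : k ∈ St2 G α β ⊔ zpowers u)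
        (mem_sup_right (mem_zpowers u) : u ∈ St2 G α β ⊔ zpowers u)
      rwa [commutatorElement_def, hu.inv_eq, ← e, show k * u * (u * k * u) * u = k * k by
        simp [mul_assoc, hu.mul_cancel_left, hu.sq]] at this
    · obtain ⟨i1, i2⟩ := SE.inv_mul_K eu h.ne hk e
      rw [← hu.mul_cancel_left k]
      exact mul_mem (mem_cent_iff_cent1.2 (h.mc.W_le_cent h.ne hu eu))
        (mem_cent_iff_cent1.2 (h.mc.W_le_cent h.ne i1 i2))
  exact fun k hk e l hl e' => comm_of_cycMod hc hW (hn.1.trans nW) (mem k hk e) (mem l hl e')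

theorem exists_K {u : G} (hu : Inv u) (eu : u • α = β) : ∃ K : Subgroup G,
    (∀ k, k ∈ K ↔ k ∈ St2 G α β ∧ u * k * u = k⁻¹) ∧ 𝐨(K) = 𝐨(Av G α) - 1 ∧ Frob Q K := by
  obtain ⟨F, -, -, -, hc⟩ := h.exists_F
  let K : Subgroup G :=
    { carrier := {k | k ∈ St2 G α β ∧ u * k * u = k⁻¹}
      mul_mem' := fun {k l} hk hl => ⟨mul_mem hk.1 hl.1, by
        rw [hc u hu eu k hk.1 hk.2 l hl.1 hl.2, mul_inv_rev, ← hk.2, ← hl.2,
          hc u hu eu l hl.1 hl.2 k hk.1 hk.2]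
        simp [mul_assoc, hu.mul_cancel_left]⟩
      one_mem' := ⟨one_mem _, by simp [hu.sq]⟩
      inv_mem' := fun {k} hk => ⟨inv_mem hk.1, by
        rw [inv_inv, ← hk.2]; simp [mul_assoc, hu.mul_cancel_left, hu.sq]⟩ }
  have hK : ∀ k, k ∈ K ↔ k ∈ St2 G α β ∧ u * k * u = k⁻¹ := fun _ => Iff.rfl
  have nc : ∀ k ∈ K, ∀ a ∈ Av G α, a ≠ 1 → k * a = a * k → k = 1 := fun k hk a ha a1 e =>
    h.se.K_eq_one hu eu h.ne (h.mc.inv ha a1) (h.mc.fix ha) hk.1 hk.2 e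
  have cK : 𝐨(K) = 𝐨(Av G α) - 1 := by
    obtain ⟨a, ha, a1⟩ := h.mc.exists_A α
    rw [← H1.card_inf_mul_relIndex 𝐂[a] K, show 𝐂[a] ⊓ K = ⊥ from eq_bot_iff.2 fun k hk =>
      nc k hk.2 a ha a1 (mem_cent1.1 hk.1).symm, card_bot, one_mul, ← ncard_class,
      ← h.mc.ncard_Iv_eq]
    congr 1
    ext b
    refine ⟨?_, fun hb => ?_⟩
    · rintro ⟨k, hk, rfl⟩
      exact ⟨(h.mc.inv ha a1).conj k, conj_fix' (h.mc.fix ha) hk.1.1⟩
    · obtain ⟨k, hk, e1, e2, -⟩ := h.se.exists_K hu eu h.ne (h.mc.inv ha a1) hb.1 (h.mc.fix ha) hb.2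
      exact ⟨k, ⟨hk, e1⟩, e2⟩
  have KD : K ≤ St2 G α β := fun _ hk => hk.1
  refine ⟨K, hK, cK, fun e => h.mc.A_ne α (eq_bot_iff.2 (e ▸ h.Ale)), fun e => ?_,
    KD.trans (inf_le_left.trans h.norm), semiReg_of_prime fun X hX hp => ?_⟩
  · have := h.mc.four_le α
    rw [e, card_bot] at cK
    omega
  · refine h.QC_eq_bot hp (h.ne_two (hX.trans KD)) (isPGroup_of_card_prime rfl) (hX.trans KD)
      fun a ha a1 hc => ne_bot_of_card_prime hp (eq_bot_iff.2 fun x hx => ?_)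
    exact nc x (hX hx) a ha a1 (mem_cent.1 hc x hx)

theorem nil : Group.IsNilpotent Q := by
  obtain ⟨u, hu, eu⟩ := h.mc.exists_J h.ne
  obtain ⟨K, -, -, hf⟩ := h.exists_K hu eu
  exact hf.nilpotent

theorem zt (hV : ∀ X : Subgroup G, X ≤ St2 G α β → 𝐨(X).Prime →
    ∀ a ∈ Av G α, a ≠ 1 → a ∉ 𝐂(X)) : ZTG G := by
  obtain ⟨u, hu, eu⟩ := h.mc.exists_J h.ne
  obtain ⟨K, hK, -, hf⟩ := h.exists_K hu eu
  obtain ⟨a, ha, a1⟩ := h.mc.exists_A α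
  have eu' := hu.smul_eq eu
  have hz : P2.ZT Q (St2 G α β) u := by
    refine ⟨⟨hf.ne_botK, fun e => hf.ne_botR (eq_bot_iff.2 fun k hk => e ▸ ((hK k).1 hk).1),
      h.sd.norm, semiReg_of_prime fun X hX hp => h.QC_eq_bot hp (h.ne_two hX)
        (isPGroup_of_card_prime rfl) hX (hV X hX hp)⟩, ?_, hu.sq, Min.J_mem_norm hu eu,
      fun g => ?_, fun x hx hx' => ?_⟩
    · exact Nat.not_odd_iff_even.1 fun ho => (h.mc.inv ha a1).not_mem_of_odd ho (h.Ale ha)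
    · rw [h.sd.sup]
      by_cases hg : g⁻¹ • α = α
      · exact Or.inl (by simpa using inv_mem (mem_stabilizer_iff.2 hg))
      obtain ⟨z, hz, e⟩ := h.tr _ hg
      refine Or.inr ⟨g * z * u, ?_, _, inv_mem hz, by rw [hu.mul_cancel_right]; group⟩
      rw [mem_stabilizer_iff, mul_smul, eu, mul_smul, e, smul_inv_smul]
    · rw [h.sd.sup] at hx hx'
      refine ⟨hx, mem_stabilizer_iff.2 ?_⟩
      rw [mem_stabilizer_iff, mul_smul, mul_smul, eu] at hx'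
      exact (hu.smul_eq hx').symm.trans eu
  exact ⟨_, _, _, hz⟩

end Bp

end Cfsg.Agent.P14
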