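/-
P14, FP: fixed points of an `r`-element inverted by `t` on a section of a 2-group.
-/
import Cfsg.Agent.P14.Defs

set_option autoImplicit false
set_option linter.unusedSectionVars false

namespace Cfsg.Agent.P14

open Subgroup Cfsg Cfsg.Agent Cfsg.Agent.FT
open scoped commutatorElement Pointwise

universe u

variable {G : Type u} [Group G] [Finite G]

theorem fp_modEq {p : ℕ} [Fact p.Prime] {P N : Subgroup G} (hP : IsPGroup p P) (h : P ≤ 𝐍(N)) :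
    Nat.card N ≡ Nat.card (N ⊓ 𝐂(P) : Subgroup G) [MOD p] := by
  let i1 : MulAction P N := MulAction.compHom N (H1.conjAut h)
  have e1 : ∀ (e : P) (y : N), ((e • y : N) : G) = e * y * (e : G)⁻¹ :=
    fun e y => H1.coe_conjAut h e y
  refine (hP.card_modEq_card_fixedPoints N).trans
    (congrArg (fun n => n % p) (Nat.card_congr ?_))
  refine ⟨fun x => ⟨x.1, x.1.2, fun g hg => ?_⟩, fun x => ⟨⟨x.1, x.2.1⟩, fun g => ?_⟩,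
    fun x => rfl, fun x => rfl⟩
  · exact mul_inv_eq_iff_eq_mul.1 ((e1 ⟨g, hg⟩ x.1).symm.trans (congrArg Subtype.val (x.2 ⟨g, hg⟩)))
  · exact Subtype.ext ((e1 _ _).trans (mul_inv_eq_iff_eq_mul.2 (x.2.2 g g.2)))

theorem fp_isPGroup {r k : ℕ} {x : G} (hx : x ^ r ^ k = 1) : IsPGroup r (zpowers x) := by
  rintro ⟨y, m, rfl⟩
  refine ⟨k, Subtype.ext ?_⟩
  change (x ^ m) ^ r ^ k = 1
  rw [← zpow_natCast, ← zpow_mul, mul_comm, zpow_mul, zpow_natCast, hx, one_zpow]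

theorem fp_cop {r k : ℕ} (hr : r.Prime) (hr2 : r ≠ 2) {x : G} (hx : x ^ r ^ k = 1) :
    (orderOf x).Coprime 2 :=
  (((Nat.coprime_primes hr Nat.prime_two).2 hr2).pow_left k).coprime_dvd_left
    (orderOf_dvd_of_pow_eq_one hx)

theorem fp_mem_of_sq {x : G} (hx : (orderOf x).Coprime 2) {K : Subgroup G} (h : x * x ∈ K) :
    x ∈ K := by
  obtain ⟨k, hk⟩ := Nat.coprime_two_right.1 hx
  have h3 : x = (x * x) ^ (k + 1) := by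
    rw [← pow_two, ← pow_mul, show 2 * (k + 1) = 2 * k + 1 + 1 by ring, ← hk, pow_succ,
      pow_orderOf_eq_one, one_mul]
  rw [h3]
  exact pow_mem h _

/-- the index of the fixed points is `2 ^ d` with `r ∣ 2 ^ d - 1` -/
theorem fp_index {r k : ℕ} (hr : r.Prime) (hr2 : r ≠ 2) {x : G} (hx : x ^ r ^ k = 1)
    {Y : Subgroup G} (hY : IsPGroup 2 Y) (hxY : x ∈ 𝐍(Y)) :
    ∃ d, 𝐂(zpowers x).relIndex Y = 2 ^ d ∧ r ∣ 2 ^ d - 1 := by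
  have := Fact.mk hr
  have := Fact.mk Nat.prime_two
  have h1 := fp_modEq (fp_isPGroup hx) (zpowers_le.2 hxY)
  have h2 := H1.card_inf_mul_relIndex 𝐂(zpowers x) Y
  obtain ⟨n, hn⟩ := IsPGroup.iff_card.1 hY
  obtain ⟨d, -, hd⟩ := (Nat.dvd_prime_pow Nat.prime_two).1 (hn ▸ Dvd.intro_left _ h2)
  obtain ⟨e, -, he⟩ := (Nat.dvd_prime_pow Nat.prime_two).1 (hn ▸ Dvd.intro _ h2)
  refine ⟨d, hd, ?_⟩
  rw [inf_comm, ← h2, hd, he] at h1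
  have h3 : r ∣ 2 ^ e * (2 ^ d - 1) := by
    rw [Nat.mul_sub, mul_one]
    exact (Nat.modEq_iff_dvd' (Nat.le_mul_of_pos_right _ (by positivity))).1 h1.symm
  exact (((Nat.coprime_primes hr Nat.prime_two).2 hr2).pow_right e).dvd_of_dvd_mul_left h3

theorem fp_hom {H : Type u} [Group H] [Finite H] (f : G →* H) {r k : ℕ} (hr : r.Prime)
    (hr2 : r ≠ 2) {x : G} (hx : x ^ r ^ k = 1) {Y D : Subgroup G} (hY : IsPGroup 2 Y)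
    (hxY : x ∈ 𝐍(Y)) (hD : ∀ c ∈ D, c ∈ Y → f ⁅c, x⁆ = 1)
    (hi : ∀ d : ℕ, 0 < d → r ∣ 2 ^ d - 1 → D.relIndex Y < 2 ^ d) : ∀ y ∈ Y, f ⁅y, x⁆ = 1 := by
  obtain ⟨d, h1, h2⟩ := fp_index hr hr2 (x := f x) (k := k) (by rw [← map_pow, hx, map_one])
    (hY.map f) (le_normalizer_map f (mem_map_of_mem f hxY))
  rw [← relIndex_comap] at h1
  have key : ∀ y, y ∈ 𝐂(zpowers (f x)).comap f ↔ f ⁅y, x⁆ = 1 := fun y => by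
    rw [mem_comap, map_commutatorElement, commutatorElement_eq_one_iff_mul_comm,
      ← zpowers_le, cent_comm, zpowers_le]
    refine ⟨fun h => h _ (mem_zpowers _), fun h => ?_⟩
    rintro _ ⟨m, rfl⟩
    exact (Commute.zpow_left h m).eq
  have h3 : (𝐂(zpowers (f x)).comap f).relIndex Y ≤ D.relIndex Y :=
    H2.relIndex_le_of_inf_le fun c hc => (key c).2 (hD c hc.1 hc.2)
  rcases Nat.eq_zero_or_pos d with h | h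
  · rw [h, pow_zero, relIndex_eq_one] at h1
    exact fun y hy => (key y).1 (h1 hy)
  · exact absurd (hi d h h2) (not_lt.2 (h1 ▸ h3))

/-- **FP0** -/
theorem fp0 {r k : ℕ} (hr : r.Prime) (hr2 : r ≠ 2) {x : G} (hx : x ^ r ^ k = 1)
    {Y Y0 D : Subgroup G} (hY : IsPGroup 2 Y) (hxY : x ∈ 𝐍(Y)) (hxY0 : x ∈ 𝐍(Y0))
    (hYY0 : Y ≤ 𝐍(Y0)) (hD : ∀ c ∈ D, c ∈ Y → ⁅c, x⁆ ∈ Y0)
    (hi : ∀ d : ℕ, 0 < d → r ∣ 2 ^ d - 1 → D.relIndex Y < 2 ^ d) : ∀ y ∈ Y, ⁅y, x⁆ ∈ Y0 := by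
  have hN := H1.normal_subgroupOf_of_le (le_refl 𝐍(Y0))
  intro y hy
  have := fp_hom (H1.qmk 𝐍(Y0) Y0) hr hr2 (x := ⟨x, hxY0⟩) (k := k) (Subtype.ext hx)
    (Y := Y.subgroupOf 𝐍(Y0)) (D := D.subgroupOf 𝐍(Y0)) hY.comap_subtype
    (H1.mem_normalizer_subgroupOf hxY) (fun c h1 h2 => H1.qmk_eq_one_iff.2 (hD c h1 h2))
    (fun d h1 h2 => by rw [relIndex_subgroupOf hYY0]; exact hi d h1 h2) ⟨y, hYY0 hy⟩ hy
  exact H1.qmk_eq_one_iff.1 this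

/-- `t` and `t ^ x` determine `x` -/
theorem fp_two {x t : G} (hx : (orderOf x).Coprime 2) {Y Y0 C : Subgroup G}
    (hxY0 : x ∈ 𝐍(Y0)) (ht : t ∈ 𝐍(Y0)) (hinv : ∀ y ∈ Y, ⁅y, t * x * t⁻¹ * x⁆ ∈ Y0)
    (hC : ∀ c ∈ C, ⁅c, t⁆ ∈ Y0) : ∀ c ∈ C ⊓ MulAut.conj x • C, c ∈ Y → ⁅c, x⁆ ∈ Y0 := by
  intro c hc hcY
  have h1 : t ∈ H1.commStab (zpowers c ⊓ C ⊓ MulAut.conj x • C ⊓ Y) Y0 :=
    H1.mem_commStab.2 ⟨ht, fun g hg => hC g hg.1.1.2⟩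
  have h2 : x * t * x⁻¹ ∈ H1.commStab (zpowers c ⊓ C ⊓ MulAut.conj x • C ⊓ Y) Y0 :=
    H1.mem_commStab.2 ⟨mul_mem (mul_mem hxY0 ht) (inv_mem hxY0), fun g hg => by
      have h3 := (mem_normalizer_iff.1 hxY0 _).1 (hC _ (H2.mem_conj_smul.1 hg.1.2))
      convert h3 using 1
      simp only [commutatorElement_def]
      group⟩
  have h3 : t * x * t⁻¹ * x ∈ H1.commStab (zpowers c ⊓ C ⊓ MulAut.conj x • C ⊓ Y) Y0 :=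
    H1.mem_commStab.2 ⟨mul_mem (mul_mem (mul_mem ht hxY0) (inv_mem ht)) hxY0,
      fun g hg => hinv g hg.2⟩
  have h4 := fp_mem_of_sq hx (K := H1.commStab (zpowers c ⊓ C ⊓ MulAut.conj x • C ⊓ Y) Y0) (by
    convert mul_mem (mul_mem h2 (inv_mem h1)) h3 using 1
    group)
  exact (H1.mem_commStab.1 h4).2 c ⟨⟨⟨mem_zpowers c, hc.1⟩, hc.2⟩, hcY⟩

theorem fp_relIndex_le {x : G} {Y C : Subgroup G} (hxY : x ∈ 𝐍(Y)) :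
    (C ⊓ MulAut.conj x • C).relIndex Y ≤ C.relIndex Y ^ 2 := by
  refine relIndex_inf_le.trans (le_of_eq ?_)
  conv_lhs => rw [← H2.mem_normalizer_iff_conj_smul.1 hxY]
  rw [H2.relIndex_conj_smul, H2.mem_normalizer_iff_conj_smul.1 hxY, pow_two]

/-- **FP** -/
theorem fp {r k : ℕ} (hr : r.Prime) (hr2 : r ≠ 2) {x t : G} (hx : x ^ r ^ k = 1)
    {Y Y0 C : Subgroup G} (hY : IsPGroup 2 Y) (hxY : x ∈ 𝐍(Y)) (hxY0 : x ∈ 𝐍(Y0))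
    (hYY0 : Y ≤ 𝐍(Y0)) (ht : t ∈ 𝐍(Y0)) (hinv : ∀ y ∈ Y, ⁅y, t * x * t⁻¹ * x⁆ ∈ Y0)
    (hC : ∀ c ∈ C, ⁅c, t⁆ ∈ Y0)
    (hi : ∀ d : ℕ, 0 < d → r ∣ 2 ^ d - 1 → C.relIndex Y ^ 2 < 2 ^ d) : ∀ y ∈ Y, ⁅y, x⁆ ∈ Y0 :=
  fp0 hr hr2 hx hY hxY hxY0 hYY0 (fp_two (fp_cop hr hr2 hx) hxY0 ht hinv hC)
    fun d h1 h2 => (fp_relIndex_le hxY).trans_lt (hi d h1 h2)

theorem fp_relIndex_pow {Y : Subgroup G} (hY : IsPGroup 2 Y) (C : Subgroup G) :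
    ∃ d, C.relIndex Y = 2 ^ d := by
  have := Fact.mk Nat.prime_two
  obtain ⟨n, hn⟩ := IsPGroup.iff_card.1 hY
  obtain ⟨d, -, hd⟩ := (Nat.dvd_prime_pow Nat.prime_two).1
    (hn ▸ Dvd.intro_left _ (H1.card_inf_mul_relIndex C Y))
  exact ⟨d, hd⟩

theorem fp_sq_lt {c a m i j : ℕ} (hc : c = 2 ^ i) (ha : a = 2 ^ j) (h : c < a ^ 2)
    (hm : a ^ 4 < 4 * m) : c ^ 2 < m := by
  subst hc ha
  rw [← pow_mul, Nat.pow_lt_pow_iff_right (by norm_num)] at h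
  have h1 : 4 * (2 ^ i) ^ 2 ≤ (2 ^ j) ^ 4 := by
    rw [← pow_mul, ← pow_mul, show 4 = 2 ^ 2 by norm_num, ← pow_add]
    exact Nat.pow_le_pow_right (by norm_num) (by omega)
  omega

/-- **FP** in the form used with a datum `a = |A : A₀|`, `a ^ 4 < 4 * 2 ^ d`. -/
theorem fp' {r k : ℕ} (hr : r.Prime) (hr2 : r ≠ 2) {x t : G} (hx : x ^ r ^ k = 1)
    {Y Y0 C : Subgroup G} (hY : IsPGroup 2 Y) (hxY : x ∈ 𝐍(Y)) (hxY0 : x ∈ 𝐍(Y0))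
    (hYY0 : Y ≤ 𝐍(Y0)) (ht : t ∈ 𝐍(Y0)) (hinv : ∀ y ∈ Y, ⁅y, t * x * t⁻¹ * x⁆ ∈ Y0)
    (hC : ∀ c ∈ C, ⁅c, t⁆ ∈ Y0) {a j : ℕ} (ha : a = 2 ^ j)
    (hb : ∀ d : ℕ, 0 < d → r ∣ 2 ^ d - 1 → a ^ 4 < 4 * 2 ^ d) (hi : C.relIndex Y < a ^ 2) :
    ∀ y ∈ Y, ⁅y, x⁆ ∈ Y0 := by
  obtain ⟨i, hi'⟩ := fp_relIndex_pow hY C
  exact fp hr hr2 hx hY hxY hxY0 hYY0 ht hinv hC fun d h1 h2 =>
    fp_sq_lt hi' ha hi (hb d h1 h2)

end Cfsg.Agent.P14
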