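/-
P14, chapter Z: facts on Suzuki groups in coordinates; automorphisms.
-/
import Cfsg.Agent.P14.Defs

set_option autoImplicit false
set_option linter.unusedSectionVars false

namespace Cfsg.Agent.P14

open Subgroup Cfsg Cfsg.Agent Cfsg.Agent.FT Cfsg.Agent.P2
open scoped commutatorElement

universe u

/-- Suzuki coordinates over a finite field with more than two elements. -/
structure SzC {X F : Type*} [Group X] [Field F] (θ : F ≃+* F) (s z k : F → X) (t : X) : Prop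
    extends SzRel θ s z k t where
  h2 : ∀ x, θ (θ x) = x ^ 2
  big : 2 < Nat.card F

namespace SzC

variable {X : Type u} {F : Type*} [Group X] [Finite X] [Field F] [Finite F] [hc : CharP F 2]
  {θ : F ≃+* F} {s z k : F → X} {t : X} (h : SzC θ s z k t)
include h

theorem r : SzRel θ s z k t := h.toSzRel

theorem zt : ZT h.r.Q h.r.K t := h.r.zt h.h2 h.big

theorem qm (a b c d : F) : s a * z b * (s c * z d) = s (a + c) * z (b + d + a * θ c) := by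
  rw [h.r.rel.qmul]; congr 2; grind

theorem sQ (a : F) : s a ∈ h.r.Q := ⟨a, 0, by rw [h.r.rel.z0, mul_one]⟩

theorem zQ (a : F) : z a ∈ h.r.Q := ⟨0, a, by rw [h.r.rel.s0, one_mul]⟩

theorem z_inj {a b : F} (e : z a = z b) : a = b :=
  (h.r.rel.q_inj (a := 0) (c := 0) (by rw [e])).2

theorem z_ne {a : F} (ha : a ≠ 0) : z a ≠ 1 := fun e => ha (h.z_inj (e.trans h.r.rel.z0.symm))

theorem zz' (a : F) : z a * z a = 1 := by rw [← h.zz, CharTwo.add_self_eq_zero, h.r.rel.z0]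

theorem norm_ne {a : F} (ha : a ≠ 0) : a * θ a ≠ 0 := by simpa using ha

theorem mem_Z {x : X} : x ∈ h.zt.Z ↔ ∃ b, x = z b := by
  rw [h.zt.mem_Z]
  refine ⟨?_, fun ⟨b, e⟩ => e ▸ ⟨h.zQ b, h.zz' b⟩⟩
  rintro ⟨⟨a, b, rfl⟩, e⟩
  rw [h.qm, ← mul_one 1] at e
  nth_rewrite 1 [← h.r.rel.s0] at e
  rw [← h.r.rel.z0] at e
  have h1 := (h.r.rel.q_inj e).2
  rw [CharTwo.add_self_eq_zero, zero_add] at h1
  obtain rfl : a = 0 := by_contra fun ha => h.norm_ne ha h1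
  exact ⟨b, by rw [h.r.rel.s0, one_mul]⟩

theorem q_mem_Z {a b : F} : s a * z b ∈ h.zt.Z ↔ a = 0 := by
  rw [h.mem_Z]
  refine ⟨fun ⟨c, e⟩ => ?_, fun e => ⟨b, by rw [e, h.r.rel.s0, one_mul]⟩⟩
  exact (h.r.rel.q_inj (c := 0) (by rw [e, h.r.rel.s0, one_mul])).1

theorem comm_iff {a b c d : F} (ha : a ≠ 0) :
    Commute (s a * z b) (s c * z d) ↔ c = 0 ∨ c = a := by
  rw [Commute, SemiconjBy, h.qm, h.qm]
  constructor
  · intro e
    have h1 := (h.r.rel.q_inj e).2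
    have h3 : θ (c / a) = c / a := by
      have : θ a ≠ 0 := by simpa using ha
      rw [map_div₀]; field_simp; grind
    have h4 := h.h2 (c / a)
    rw [h3, h3] at h4
    have h5 : c / a = 0 ∨ c / a = 1 := by grind
    exact h5.imp (fun e => by simpa [ha] using e) fun e => (div_eq_one_iff_eq ha).1 e
  · rintro (rfl | rfl)
    · simp [add_comm]
    · rw [add_comm b d]

theorem exists_ne (a : F) : ∃ c : F, c ≠ 0 ∧ c ≠ a := by
  by_contra! h0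
  have h1 : (Set.univ : Set F) ⊆ {0, a} := fun c _ => by
    by_cases e : c = 0
    · exact Or.inl e
    · exact Or.inr (h0 c e)
  have h3 := (Set.ncard_le_ncard h1).trans (Set.ncard_insert_le _ _)
  rw [Set.ncard_univ, Set.ncard_singleton] at h3
  have := h.big
  omega

theorem cp {A B : Subgroup X} (hA : A ≤ h.r.Q) (hB : B ≤ h.r.Q) (hc : ⁅A, B⁆ = ⊥)
    (hQ : h.r.Q ≤ A ⊔ B) : A ≤ h.zt.Z ∨ B ≤ h.zt.Z := by
  by_contra! h0
  obtain ⟨x, hx, h1⟩ := SetLike.not_le_iff_exists.1 h0.1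
  obtain ⟨y, hy, h3⟩ := SetLike.not_le_iff_exists.1 h0.2
  obtain ⟨a, b, rfl⟩ := hA hx
  obtain ⟨c, d, rfl⟩ := hB hy
  rw [h.q_mem_Z] at h1 h3
  have h4 : ∀ x ∈ A, ∀ y ∈ B, Commute x y := fun x hx y hy =>
    (mem_cent.1 (comm_eq_bot_iff.1 hc hx) y hy).symm
  obtain rfl := ((h.comm_iff h1).1 (h4 _ hx _ hy)).resolve_left h3
  have h5 : A ⊔ B ≤ 𝐂[s c * z b] := sup_le (fun w hw => by
    obtain ⟨e, f, rfl⟩ := hA hw
    exact mem_cent1.2 ((h.comm_iff h1).2 ((h.comm_iff h1).1 (h4 _ hw _ hy).symm)))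
    fun w hw => mem_cent1.2 (h4 _ hx _ hw)
  obtain ⟨e, e0, e1⟩ := h.exists_ne c
  rcases (h.comm_iff (d := 0) h1).1 (mem_cent1.1 (h5 (hQ ⟨e, 0, rfl⟩))) with e2 | e2
  exacts [e0 e2, e1 e2]

theorem not_comm : ⁅h.r.Q, h.r.Q⁆ ≠ ⊥ := fun e => by
  obtain ⟨c, c0, c1⟩ := h.exists_ne 1
  rcases (h.comm_iff (b := 0) (d := 0) one_ne_zero).1
    (mem_cent.1 (comm_eq_bot_iff.1 e ⟨c, 0, rfl⟩) _ ⟨1, 0, rfl⟩) with e2 | e2
  exacts [c0 e2, c1 e2]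

theorem sq_mem {x : X} (hx : x ∈ h.r.Q) : x * x ∈ h.zt.Z := by
  obtain ⟨a, b, rfl⟩ := hx
  rw [h.qm, h.q_mem_Z, CharTwo.add_self_eq_zero]

theorem card_Z : 𝐨(h.zt.Z) = Nat.card F := by
  rw [h.zt.card_Z, h.r.card_K]; have := h.big; omega

theorem rel_Z : h.zt.Z.relIndex h.r.Q = Nat.card F := by
  have := H1.card_mul_relIndex h.zt.Z_le
  rw [h.card_Z, h.r.card_Q, sq] at this
  exact Nat.eq_of_mul_eq_mul_left Nat.card_pos this

theorem norm_Q : 𝐍(h.r.Q) = h.r.Q ⊔ h.r.K := le_antisymm (fun _ hg => h.zt.ti (h.zQ 1)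
  (h.z_ne one_ne_zero) (mem_sup_left (H6conj hg (h.zQ 1)))) h.zt.normQ
where H6conj {g x : X} (hg : g ∈ 𝐍(h.r.Q)) (hx : x ∈ h.r.Q) : g * x * g⁻¹ ∈ h.r.Q :=
  (mem_normalizer_iff.1 hg x).1 hx

theorem der : h.zt.Z ≤ ⁅h.r.Q, h.r.Q⁆ := fun x hx => by
  obtain ⟨⟨y, hy⟩, y1⟩ := ne_bot_iff_exists_ne_one.1 h.not_comm
  replace y1 : y ≠ 1 := fun e => y1 (Subtype.ext e)
  have h1 : ⁅h.r.Q, h.r.Q⁆ ≤ h.zt.Z :=
    commutator_le.2 fun a ha b hb => comm_mem_of_sq_mem (fun x hx => h.sq_mem hx) ha hb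
  by_cases x1 : x = 1
  · exact x1 ▸ one_mem _
  obtain ⟨g, hg, rfl⟩ := h.zt.trans (h1 hy).1 y1 (h1 hy).2 hx.1 x1 hx.2
  exact (mem_normalizer_iff.1 (H1.le_normalizer_commutator (h.zt.normQ) (h.zt.normQ)
    (mem_sup_right hg)) y).1 hy

theorem ovr {Y : Subgroup X} (hY : h.r.Q ≤ Y) : Y = ⊤ ∨ Y ≤ 𝐍(h.r.Q) := by
  refine or_iff_not_imp_right.2 fun h0 => ?_
  obtain ⟨g, hg, h1⟩ := SetLike.not_le_iff_exists.1 h0
  rw [h.norm_Q] at h1
  obtain ⟨x, hx, y, hy, rfl⟩ := (h.zt.bruhat g).resolve_left h1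
  obtain ⟨w, hw, κ, hκ, rfl⟩ := h.zt.mem_B.1 hx
  rw [mul_mem_cancel_right (hY hy), mul_assoc, mul_mem_cancel_left (hY hw)] at hg
  have nK : ∀ κ ∈ h.r.K, h.r.Q ^ᵍ κ = h.r.Q := fun κ hκ =>
    conj_eq_of_mem_norm (h.zt.normQ (mem_sup_right hκ))
  have nT : ∀ κ ∈ h.r.K, (h.r.Q ^ᵍ t) ^ᵍ κ = h.r.Q ^ᵍ t := fun κ hκ => by
    rw [conj_conj, ← inv_inv κ, ← h.zt.t_mul (inv_mem hκ), ← conj_conj, nK _ (inv_mem hκ)]
  have h3 : h.r.Q ⊔ h.r.Q ^ᵍ t ≤ Y := sup_le hY (by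
    rw [← nT κ hκ, conj_conj]; exact conj_le_of_mem hY hg)
  have h4 : h.r.Q ⊔ h.r.K ≤ 𝐍(h.r.Q ⊔ h.r.Q ^ᵍ t) := sup_le (le_sup_left.trans (le_norm_self _))
    fun κ hκ => conj_eq_self_iff.1 (by rw [conj_sup, nK κ hκ, nT κ hκ])
  have h5 : t ∈ 𝐍(h.r.Q ⊔ h.r.Q ^ᵍ t) :=
    conj_eq_self_iff.1 (by rw [conj_sup, conj_conj, h.tt, conj_one, sup_comm])
  refine top_le_iff.1 ((h.zt.eq_top_of_invol (normalizer_eq_top_iff.1 (eq_top_iff.2 fun g _ => ?_))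
    (h.zQ 1) (h.z_ne one_ne_zero) (h.zz' 1) (mem_sup_left (h.zQ 1))).ge.trans h3)
  rcases h.zt.bruhat g with e | ⟨x, hx, y, hy, rfl⟩
  exacts [h4 e, mul_mem (mul_mem (h4 hx) h5) (h4 (mem_sup_left hy))]

theorem str' : t * z 1 * t = (s 1)⁻¹ * t * s 1 := by
  rw [mul_assoc (s 1)⁻¹, ← h.str, inv_mul_cancel_left]

/-- Uniqueness of the structure identity. -/
theorem str_uniq {w ρ : X} (hw : w ∈ h.zt.Z) (w1 : w ≠ 1) (hρ : ρ ∈ h.r.Q)
    (e : t * w * t = ρ⁻¹ * t * ρ) : w = z 1 ∧ ρ = s 1 := by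
  obtain ⟨κ, hκ, rfl⟩ := h.zt.trans (h.zQ 1) (h.z_ne one_ne_zero) (h.zz' 1) hw.1 w1 hw.2
  have nq : ∀ x ∈ h.r.Q, κ⁻¹ * x * κ⁻¹⁻¹ ∈ h.r.Q := fun x hx =>
    (mem_normalizer_iff.1 (h.zt.normQ (mem_sup_right (inv_mem hκ))) x).1 hx
  have a1 := h.zt.t_mul hκ
  have h1 : t * (κ * z 1 * κ⁻¹) * t =
      κ⁻¹ * (s 1)⁻¹ * κ⁻¹⁻¹ * (κ⁻¹ * κ⁻¹) * t * (κ⁻¹ * s 1 * κ⁻¹⁻¹) := by
    calc _ = (t * κ) * z 1 * (κ⁻¹ * t) := by group
      _ = (κ⁻¹ * t) * z 1 * (t * κ) := by rw [a1]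
      _ = κ⁻¹ * (t * z 1 * t) * κ := by group
      _ = κ⁻¹ * (s 1)⁻¹ * κ⁻¹⁻¹ * κ⁻¹ * (t * κ) * (κ⁻¹ * s 1 * κ⁻¹⁻¹) := by rw [h.str']; group
      _ = _ := by rw [a1]; group
  rw [e] at h1
  have h3 := h.zt.uniq (mem_sup_left (inv_mem hρ)) (mul_mem (mem_sup_left (nq _ (inv_mem (h.sQ 1))))
    (mem_sup_right (mul_mem (inv_mem hκ) (inv_mem hκ)))) hρ (nq _ (h.sQ 1)) h1
  rw [h3, mul_left_inj, mul_left_inj] at h1
  have h4 : κ⁻¹ * κ⁻¹ = 1 := by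
    have : κ⁻¹ * (s 1)⁻¹ * κ⁻¹⁻¹ * 1 = κ⁻¹ * (s 1)⁻¹ * κ⁻¹⁻¹ * (κ⁻¹ * κ⁻¹) := by rw [← h1]; group
    exact (mul_left_cancel this).symm
  have h5 : κ⁻¹ = 1 := orderOf_eq_one_iff.1 (Nat.eq_one_of_dvd_coprimes
    (Nat.coprime_two_right.2 h.zt.odd) (orderOf_dvd_card_of_mem (inv_mem hκ))
    (orderOf_dvd_of_pow_eq_one (by rw [pow_two, h4])))
  rw [h3, h5, inv_eq_one.1 h5]
  simp

theorem k_inj {a b : F} (ha : a ≠ 0) (hb : b ≠ 0) (e : k a = k b) : a = b := by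
  have h1 := h.r.rel.kq ha 1 0
  rw [e, h.r.rel.kq hb] at h1
  simpa using (h.r.rel.q_inj h1).1.symm

theorem s_eq {a : F} (ha : a ≠ 0) : s a = k a * s 1 * (k a)⁻¹ := by
  rw [h.ks a 1 ha, mul_one, mul_inv_cancel_right]

theorem z_eq {a : F} (ha : a ≠ 0) : z (a * θ a) = k a * z 1 * (k a)⁻¹ := by
  rw [h.kz a 1 ha, mul_one, mul_inv_cancel_right]

theorem exists_norm (b : F) : ∃ a, a * θ a = b :=
  Finite.surjective_of_injective (norm_injective h.h2) b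

theorem ext_aut {φ : MulAut X} (h1 : φ t = t) (h3 : φ (z 1) = z 1) (h4 : φ (s 1) = s 1)
    (h5 : ∀ a, a ≠ 0 → φ (k a) = k a) : φ = 1 := by
  have hs : ∀ a, φ (s a) = s a := fun a => by
    by_cases ha : a = 0
    · rw [ha, h.r.rel.s0, map_one]
    · rw [h.s_eq ha, map_mul, map_mul, map_inv, h4, h5 a ha]
  have hz : ∀ a, φ (z a) = z a := fun b => by
    obtain ⟨a, rfl⟩ := h.exists_norm b
    by_cases ha : a = 0
    · rw [ha, zero_mul, h.r.rel.z0, map_one]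
    · rw [h.z_eq ha, map_mul, map_mul, map_inv, h3, h5 a ha]
  ext g
  rcases h.bruhat g with ⟨a, b, κ, hκ, rfl⟩ | ⟨a, b, κ, c, d, hκ, rfl⟩ <;>
    simp [hs, hz, h1, h5 κ hκ]

/-- An automorphism normalizing `Q` is an inner one times an automorphism fixing the frame. -/
theorem frame {φ : MulAut X} (hQ : ∀ x, φ x ∈ h.r.Q ↔ x ∈ h.r.Q) :
    ∃ y ∈ h.r.Q, ∃ κ ∈ h.r.K, (MulAut.conj (κ * y) * φ) t = t ∧
      (MulAut.conj (κ * y) * φ) (z 1) = z 1 ∧ (MulAut.conj (κ * y) * φ) (s 1) = s 1 ∧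
      ∀ x ∈ h.r.K, (MulAut.conj (κ * y) * φ) x ∈ h.r.K := by
  have hB : ∀ ψ : MulAut X, (∀ x, ψ x ∈ h.r.Q ↔ x ∈ h.r.Q) →
      ∀ x, ψ x ∈ h.r.Q ⊔ h.r.K ↔ x ∈ h.r.Q ⊔ h.r.K := fun ψ hψ x => by
    rw [← h.norm_Q, mem_normalizer_iff, mem_normalizer_iff, ψ.surjective.forall]
    simp only [← map_inv, ← map_mul, hψ]
  obtain ⟨y, hy, κ, hκ, e⟩ := h.zt.invol_form (u := φ t) (by rw [← map_mul, h.tt, map_one])
    (mt (hB φ hQ t).1 h.zt.t_notMem)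
  refine ⟨y, hy, κ⁻¹, inv_mem hκ, ?_⟩
  set ψ := MulAut.conj (κ⁻¹ * y) * φ with hψ
  have h1 : ψ t = t := by
    rw [hψ, MulAut.mul_apply, MulAut.conj_apply, e]
    calc _ = κ * (t * κ) := by group
      _ = t := by rw [h.zt.t_mul hκ, mul_inv_cancel_left]
  have h3 : ∀ x, ψ x ∈ h.r.Q ↔ x ∈ h.r.Q := fun x => by
    rw [hψ, MulAut.mul_apply, MulAut.conj_apply, ← hQ x]
    exact (mem_normalizer_iff.1 (h.zt.normQ (mul_mem (mem_sup_right (inv_mem hκ))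
      (mem_sup_left hy))) _).symm
  have h4 := h.str_uniq (w := ψ (z 1)) (ρ := ψ (s 1)) ⟨(h3 _).2 (h.zQ 1), by
    rw [← map_mul, h.zz', map_one]⟩ (by simpa using h.z_ne one_ne_zero) ((h3 _).2 (h.sQ 1)) (by
      have := congrArg ψ h.str'
      simpa only [map_mul, map_inv, h1] using this)
  refine ⟨h1, h4.1, h4.2, fun x hx => h.zt.inter _ ((hB ψ h3 x).2 (mem_sup_right hx)) ?_⟩
  have := (hB ψ h3 _).2 (mem_sup_right (h.zt.inverts x hx ▸ inv_mem hx : t * x * t ∈ h.r.K))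
  rwa [map_mul, map_mul, h1] at this

theorem oddAut {φ : MulAut X} (ho : Odd (orderOf φ)) (hZ : ∀ w ∈ h.zt.Z, φ w = w) : φ = 1 := by
  have z1 : z 1 ∈ h.zt.Z := h.mem_Z.2 ⟨1, rfl⟩
  have hC := h.zt.cent_eq (h.zQ 1) (h.z_ne one_ne_zero) (h.zz' 1)
  obtain ⟨y, hy, κ, hκ, h1, h3, h4, h5⟩ := h.frame (φ := φ) fun x => by
    rw [← hC, mem_cent1, mem_cent1, ← φ.injective.eq_iff (a := z 1 * x), map_mul, map_mul,
      hZ _ z1]
  have cy : ∀ w ∈ h.zt.Z, y * w * y⁻¹ = w := fun w hw => by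
    rw [(h.zt.central hw.1 hw.2 hy).eq, mul_inv_cancel_right]
  have h6 : κ = 1 := by
    rw [MulAut.mul_apply, MulAut.conj_apply, hZ _ z1, show κ * y * z 1 * (κ * y)⁻¹ =
      κ * (y * z 1 * y⁻¹) * κ⁻¹ by group, cy _ z1] at h3
    exact h.zt.eq_one (hC ▸ mem_cent1_iff_conj.2 h3) hκ
  subst h6
  rw [one_mul] at h1 h3 h4 h5
  have h7 := h.ext_aut h1 h3 h4 fun a ha => by
    obtain ⟨b, hb, e⟩ := h5 _ ⟨a, ha, rfl⟩
    have h8 := congrArg (MulAut.conj y * φ) (h.z_eq ha)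
    rw [map_mul, map_mul, map_inv, e, h3, ← h.z_eq hb, MulAut.mul_apply, MulAut.conj_apply,
      hZ _ (h.mem_Z.2 ⟨_, rfl⟩), cy _ (h.mem_Z.2 ⟨_, rfl⟩)] at h8
    rw [e, norm_injective h.h2 (h.z_inj h8)]
  obtain ⟨j, hj⟩ := h.zt.isPGroup ⟨y, hy⟩
  refine orderOf_eq_one_iff.1 (Nat.eq_one_of_dvd_coprimes
    ((Nat.coprime_two_right.2 ho).pow_right j) dvd_rfl (orderOf_dvd_of_pow_eq_one ?_))
  rw [eq_inv_of_mul_eq_one_right h7, inv_pow, ← map_pow, show y ^ 2 ^ j = 1 from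
    congrArg Subtype.val hj, map_one, inv_one]

theorem syl : IsSyl 2 h.r.Q ⊤ := ⟨le_top, h.zt.isPGroup, by
  rw [relIndex_top_right, ← relIndex_mul_index (le_sup_left (b := h.r.K)), h.zt.relIndex_B,
    h.zt.index_B]
  exact (h.zt.odd.mul h.zt.even.add_one).not_two_dvd_nat⟩

theorem inner {n : ℕ} (hn : Odd n) (hF : Nat.card F = 2 ^ n) {φ : MulAut X} {j : ℕ}
    (hj : φ ^ 2 ^ j = 1) : ∃ g, φ = MulAut.conj g := by
  have hS := h.syl
  obtain ⟨g, -, hg⟩ := hS.exists_conj_le Nat.prime_two (hS.pgrp.map φ.toMonoidHom) le_top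
  have h1 : (h.r.Q.map φ.toMonoidHom) ^ᵍ g = h.r.Q :=
    H1.eq_of_le_of_card_le hg (by rw [card_conj, card_map_inj φ.injective])
  obtain ⟨y, -, κ, -, h3, h4, h5, h6⟩ := h.frame (φ := MulAut.conj g * φ) fun x => by
    nth_rewrite 1 [← h1]
    rw [MulAut.mul_apply, MulAut.conj_apply, mem_conj, show g⁻¹ * (g * φ x * g⁻¹) * g = φ x by group]
    exact mem_map_iff_mem φ.injective
  rw [← mul_assoc, ← map_mul] at h3 h4 h5 h6
  generalize κ * y * g = l at h3 h4 h5 h6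
  set ψ := MulAut.conj l * φ with hψ
  suffices ψ = 1 from ⟨l⁻¹, by rw [map_inv]; exact eq_inv_of_mul_eq_one_right this⟩
  have h7 : ψ ^ 2 ^ j = 1 := by
    have h8 : ∀ i : ℕ, ∃ m, ψ ^ i = MulAut.conj m * φ ^ i := fun i => by
      induction i with
      | zero => exact ⟨1, by simp⟩
      | succ i ih =>
        obtain ⟨m, e⟩ := ih
        refine ⟨m * (φ ^ i) l, ?_⟩
        rw [pow_succ, e, hψ]
        ext x
        simp [pow_succ, mul_assoc]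
    have fx : ∀ x, ψ x = x → ∀ i : ℕ, (ψ ^ i) x = x := fun x e i => by
      induction i with
      | zero => rfl
      | succ i ih => rw [pow_succ, MulAut.mul_apply, e, ih]
    obtain ⟨m, e⟩ := h8 (2 ^ j)
    rw [hj, mul_one] at e
    have a1 := fx _ h3 (2 ^ j)
    have a2 := fx _ h4 (2 ^ j)
    rw [e, MulAut.conj_apply] at a1 a2
    have a3 : m ∈ h.r.Q := h.zt.cent (h.zQ 1) (h.z_ne one_ne_zero) (mul_inv_eq_iff_eq_mul.1 a2).symm
    rw [e, h.zt.eq_one_of_conj a3 (by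
      rw [mul_assoc, mul_inv_eq_iff_eq_mul.1 a1, ← mul_assoc, h.tt, one_mul]
      exact mem_sup_left a3), map_one]
  classical
  choose σ σ0 hσ using fun a : Fˣ => h6 _ ⟨a, a.ne_zero, rfl⟩
  let τ : F → F := fun a => if ha : a = 0 then 0 else σ (Units.mk0 a ha)
  have τ0 : τ 0 = 0 := dif_pos rfl
  have τ1 : ∀ a, a ≠ 0 → τ a ≠ 0 ∧ ψ (k a) = k (τ a) := fun a ha => by
    simp only [τ, dif_neg ha]; exact ⟨σ0 _, hσ (Units.mk0 a ha)⟩
  have τs : ∀ a, ψ (s a) = s (τ a) := fun a => by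
    by_cases ha : a = 0
    · rw [ha, τ0, h.r.rel.s0, map_one]
    · rw [h.s_eq ha, map_mul, map_mul, map_inv, h5, (τ1 a ha).2, ← h.s_eq (τ1 a ha).1]
  have τz : ∀ b, ∃ c, ψ (z b) = z c := fun b => by
    obtain ⟨a, rfl⟩ := h.exists_norm b
    by_cases ha : a = 0
    · exact ⟨0, by rw [ha, zero_mul, h.r.rel.z0, map_one]⟩
    · exact ⟨τ a * θ (τ a), by
        rw [h.z_eq ha, map_mul, map_mul, map_inv, h4, (τ1 a ha).2, ← h.z_eq (τ1 a ha).1]⟩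
  let f : F →+* F :=
    { toFun := τ
      map_zero' := τ0
      map_one' := (h.r.rel.q_inj (b := 0) (d := 0) (by rw [← τs, h5])).1
      map_add' := fun a c => by
        obtain ⟨d, e⟩ := τz (a * θ c)
        have := congrArg ψ (h.ss a c)
        rw [map_mul, map_mul, τs, τs, τs, e, h.ss] at this
        exact (h.r.rel.q_inj this).1.symm
      map_mul' := fun a c => by
        by_cases ha : a = 0
        · simp [ha, τ0]
        by_cases hc : c = 0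
        · simp [hc, τ0]
        refine h.k_inj (τ1 _ (mul_ne_zero ha hc)).1 (mul_ne_zero (τ1 a ha).1 (τ1 c hc).1) ?_
        rw [← (τ1 _ (mul_ne_zero ha hc)).2, h.kk a c ha hc, map_mul, (τ1 a ha).2, (τ1 c hc).2,
          h.kk _ _ (τ1 a ha).1 (τ1 c hc).1] }
  have : Fact (Nat.Prime 2) := ⟨Nat.prime_two⟩
  let _ : Algebra (ZMod 2) F := ZMod.algebra F 2
  let e : F ≃ₐ[ZMod 2] F := AlgEquiv.ofRingEquiv
    (f := RingEquiv.ofBijective f (Finite.injective_iff_bijective.1 f.injective)) fun x =>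
    DFunLike.congr_fun (Subsingleton.elim (f.comp (algebraMap (ZMod 2) F))
      (algebraMap (ZMod 2) F)) x
  have := Fintype.ofFinite F
  have e1 : Module.finrank (ZMod 2) F = n := Nat.pow_right_injective le_rfl (by
    simpa [← Nat.card_eq_fintype_card, hF] using
      (Module.card_eq_pow_finrank (K := ZMod 2) (V := F)).symm)
  have e2 : e ^ n = 1 := by rw [← e1, ← IsGalois.card_aut_eq_finrank, pow_card_eq_one']
  have e3 : ∀ (i : ℕ) a, (ψ ^ i) (s a) = s ((e ^ i) a) := fun i => by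
    induction i with
    | zero => exact fun a => rfl
    | succ i ih => exact fun a => by rw [pow_succ, pow_succ, MulAut.mul_apply, τs, ih]; rfl
  have e4 : e ^ 2 ^ j = 1 := by
    ext a
    exact (h.r.rel.q_inj (b := 0) (d := 0) (by rw [← e3, h7]; rfl)).1
  have e5 : e = 1 := orderOf_eq_one_iff.1 (Nat.eq_one_of_dvd_coprimes
    ((Nat.coprime_two_right.2 hn).pow_right j) (orderOf_dvd_of_pow_eq_one e2)
    (orderOf_dvd_of_pow_eq_one e4))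
  refine h.ext_aut h3 h4 h5 fun a ha => ?_
  rw [(τ1 a ha).2, show τ a = e a from rfl, e5]
  rfl

end SzC

end Cfsg.Agent.P14
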