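/-
P14, chapter Z: primitive prime divisors and inverted elements of Suzuki groups.
-/
import Cfsg.Agent.P14.Z1
import Cfsg.Agent.P10.K7
import Cfsg.Agent.P4.Eppo

set_option autoImplicit false
set_option linter.unusedSectionVars false

namespace Cfsg.Agent.P14

open Subgroup Cfsg Cfsg.Agent Cfsg.Agent.FT Cfsg.Agent.P2 Polynomial
open Cfsg.Agent.P10K (eval_cyc_mul_pow two_pow_ge)
open Cfsg.Agent.P4 (cast_ne_zero)
open Cfsg.Agent.P4.Mart (U T pow_orderOf U_mul U_zero T_T)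
open scoped commutatorElement

universe u

theorem zsigmondy4 {m : ℕ} (hm : 4 ∣ m) (h1 : 1 < m) :
    ∃ s : ℕ, s.Prime ∧ orderOf (2 : ZMod s) = m := by
  by_contra hc
  push Not at hc
  set N := (cyclotomic m ℤ).eval ((2 : ℕ) : ℤ) with hN
  have hN1 : 1 < N.natAbs := sub_one_lt_natAbs_cyclotomic_eval (q := 2) h1 (by norm_num)
  have hdvd : N ∣ 2 ^ m - 1 := by
    simpa [hN] using eval_dvd (x := ((2 : ℕ) : ℤ)) (cyclotomic.dvd_X_pow_sub_one m ℤ)
  have key : ∀ s : ℕ, s.Prime → s ∣ N.natAbs → s ≠ 2 ∧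
      ∃ j, m = orderOf (2 : ZMod s) * s * s ^ j ∧ orderOf (2 : ZMod s) ∣ s - 1 := by
    intro s hs h
    rw [← Int.natCast_dvd] at h
    have h2 : s ≠ 2 := by
      rintro rfl
      have := h.trans hdvd
      have h3 : ((2 : ℕ) : ℤ) ∣ 2 ^ m := dvd_pow_self 2 (by omega)
      omega
    have h3 : ¬ s ∣ 2 := fun h => h2 ((Nat.prime_dvd_prime_iff_eq hs Nat.prime_two).1 h)
    obtain ⟨j, hj⟩ := (S4230.result s 2 m hs h2 h3).1 h
    have := Fact.mk hs
    refine ⟨h2, ?_⟩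
    rcases j with _ | j
    · exact absurd (by simpa using hj.symm) (hc s hs)
    · refine ⟨j, by rw [mul_assoc, ← pow_succ']; exact hj, ZMod.orderOf_dvd_card_sub_one ?_⟩
      have : ((2 : ℕ) : ZMod s) ≠ 0 := by rwa [Ne, ZMod.natCast_eq_zero_iff]
      simpa using this
  have hlt : ∀ s t : ℕ, s.Prime → t.Prime → s ∣ N.natAbs → t ∣ N.natAbs → ¬ s < t := by
    intro s t hs ht h h' hlt
    obtain ⟨-, j, e1, e2⟩ := key s hs h
    obtain ⟨-, k, e3, -⟩ := key t ht h'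
    have a1 : t ∣ orderOf (2 : ZMod s) * (s * s ^ j) := by
      rw [← mul_assoc, ← e1, e3]; exact (Dvd.intro_left _ rfl).mul_right _
    rcases (Nat.Prime.dvd_mul ht).1 a1 with a2 | a2
    · have := Nat.le_of_dvd (by have := hs.two_le; omega) (a2.trans e2)
      omega
    · rw [← pow_succ'] at a2
      have := (Nat.prime_dvd_prime_iff_eq ht hs).1 (ht.dvd_of_dvd_pow a2)
      omega
  obtain ⟨s, hs, hsN⟩ := Nat.exists_prime_and_dvd hN1.ne'
  have := Fact.mk hs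
  obtain ⟨h2, j, e1, e2⟩ := key s hs hsN
  set e := orderOf (2 : ZMod s) with he
  have hs2 := hs.two_le
  have hpow : N.natAbs = s ^ N.natAbs.primeFactorsList.length :=
    Nat.eq_prime_pow_of_unique_prime_dvd (by omega) fun {t} ht h =>
      le_antisymm (not_lt.1 (hlt s t hs ht hsN h)) (not_lt.1 (hlt t s ht hs h hsN))
  have hsq : ¬ s ^ 2 ∣ N.natAbs := by
    intro h
    rw [← Int.natCast_dvd] at h
    have hd : e * s ^ j ∈ m.properDivisors := by
      rw [Nat.mem_properDivisors]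
      refine ⟨⟨s, by rw [e1]; ring⟩, ?_⟩
      have : 0 < e * s ^ j := Nat.pos_of_ne_zero fun h => by
        rw [mul_right_comm, h] at e1; omega
      rw [e1, mul_right_comm]
      nlinarith
    have a1 := eval_dvd (x := ((2 : ℕ) : ℤ))
      (X_pow_sub_one_mul_cyclotomic_dvd_X_pow_sub_one_of_dvd ℤ hd)
    simp only [eval_mul, eval_sub, eval_pow, eval_X, eval_one, ← hN] at a1
    set x : ℤ := ((2 : ℕ) : ℤ) ^ (e * s ^ j) with hx
    have a2 : ((2 : ℕ) : ℤ) ^ m - 1 = (x - 1) * ∑ i ∈ Finset.range s, x ^ i * 1 ^ (s - 1 - i) := by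
      rw [mul_comm, geom_sum₂_mul, hx, ← pow_mul, mul_right_comm, ← e1, one_pow]
    have a3 : x - 1 ≠ 0 := by
      have : 1 < x := one_lt_pow₀ (by norm_num) fun h => by
        rw [mul_right_comm, h] at e1; omega
      omega
    rw [a2, mul_dvd_mul_iff_left a3] at a1
    have a4 : (s : ℤ) ∣ x - 1 := by
      rw [← ZMod.intCast_zmod_eq_zero_iff_dvd]
      simp [hx, pow_mul, he, pow_orderOf_eq_one]
    have a5 := emultiplicity_geom_sum₂_eq_one (Nat.prime_iff_prime_int.1 hs)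
      (hs.odd_of_ne_two h2) a4 (fun h => by
        have := (dvd_sub h a4)
        rw [sub_sub_cancel] at this
        exact hs.not_dvd_one (by exact_mod_cast this))
    have a6 := le_emultiplicity_of_pow_dvd (Nat.cast_pow (α := ℤ) s 2 ▸ h.trans a1)
    rw [a5] at a6
    exact absurd a6 (by decide)
  have hNs : N.natAbs = s := by
    generalize N.natAbs.primeFactorsList.length = a at hpow
    rcases a with _ | _ | a
    · rw [pow_zero] at hpow; omega
    · simpa using hpow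
    · exact absurd (hpow ▸ pow_dvd_pow s (by omega)) hsq
  have he0 : 0 < e := Nat.pos_of_ne_zero fun h => by rw [h] at e1; omega
  have hse : ¬ s ∣ e := fun h => by
    have := Nat.le_of_dvd (by omega) (h.trans e2)
    omega
  have hs5 : 5 ≤ s := by
    refine hs.five_le_of_ne_two_of_ne_three h2 ?_
    rintro rfl
    rw [e1, mul_assoc, ← pow_succ'] at hm
    have := (Nat.Coprime.dvd_of_dvd_mul_right (Nat.Coprime.pow_right _ (by norm_num)) hm).trans e2
    norm_num at this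
  set b : ℝ := 2 ^ s ^ j with hb
  have hb2 : 2 ≤ b := le_self_pow₀ (by norm_num) (by positivity)
  have r1 : (cyclotomic (e * s) ℝ).eval b ≤ s := by
    rw [← eval_cyc_mul_pow hs, ← e1, ← hNs]
    have := cyclotomic.eval_apply ((2 : ℕ) : ℤ) m (algebraMap ℤ ℝ)
    simp only [Nat.cast_ofNat, eq_intCast, Int.cast_ofNat, algebraMap_int_eq] at this
    rw [this, Nat.cast_natAbs, Int.cast_abs]
    exact le_abs_self _
  have r2 := congrArg (eval b) (cyclotomic_expand_eq_cyclotomic_mul hs hse ℝ)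
  rw [expand_eval, eval_mul] at r2
  have hbs : (s : ℝ) * (b + 1) < b ^ s - 1 := by
    obtain ⟨t, rfl⟩ : ∃ t, s = t + 1 := ⟨s - 1, by omega⟩
    have a1 : (2 * t + 4 : ℝ) ≤ 2 ^ t := by exact_mod_cast two_pow_ge (s := t) (by omega)
    have a2 : (2 : ℝ) ^ t ≤ b ^ t := pow_le_pow_left₀ (by norm_num) hb2 t
    have a3 : (0 : ℝ) ≤ t := by positivity
    push_cast
    rw [pow_succ]
    nlinarith
  have r3 := sub_one_pow_totient_le_cyclotomic_eval (q := b ^ s) (by nlinarith) e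
  have r4 := cyclotomic_eval_le_add_one_pow_totient (q := b) (by linarith) e
  have r5 := cyclotomic_nonneg e (show (1 : ℝ) ≤ b by linarith)
  have hφ : 0 < e.totient := Nat.totient_pos.2 he0
  have r6 : ((s : ℝ) * (b + 1)) ^ e.totient < (b ^ s - 1) ^ e.totient :=
    pow_lt_pow_left₀ hbs (by positivity) hφ.ne'
  have r7 : (s : ℝ) ≤ s ^ e.totient := le_self_pow₀ (by exact_mod_cast hs.one_le) hφ.ne'
  rw [mul_pow] at r6
  have r8 : (s : ℝ) * (b + 1) ^ e.totient ≤ s ^ e.totient * (b + 1) ^ e.totient :=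
    mul_le_mul_of_nonneg_right r7 (by positivity)
  have r9 := mul_le_mul r1 r4 r5 (by positivity)
  linarith

theorem exists_dvd_orderOf {F : Type*} [Field F] [Fintype F] [hc : CharP F 2] {θ : F ≃+* F}
    (h2 : ∀ x, θ (θ x) = x ^ 2) {r n : ℕ} (hθ : ∀ x, θ x = x ^ r) (n1 : 1 < n)
    (hd : n ∣ Fintype.card F ^ 2 + 1)
    (hn : n = Fintype.card F + r + 1 ∨ n + r = Fintype.card F + 1) {j : ℕ} (hr : r = 2 ^ j) :
    ∃ b, n ∣ orderOf (U h2 0 b * T θ) := by
  obtain ⟨k, -, hk⟩ := FiniteField.card F 2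
  have : NeZero (n : F) := ⟨cast_ne_zero (Nat.Coprime.coprime_dvd_left hd (by simp [sq]))⟩
  obtain ⟨ζ, hζ⟩ := HasEnoughRootsOfUnity.exists_primitiveRoot (AlgebraicClosure F) n
  have z0 := hζ.ne_zero (by omega)
  have h1 : (ζ ^ Fintype.card F) ^ Fintype.card F = ζ⁻¹ := eq_inv_of_mul_eq_one_left (by
    rw [← pow_mul, ← sq, ← pow_succ, (hζ.pow_eq_one_iff_dvd _).2 hd])
  have h3 : ζ ^ r = (ζ * ζ ^ Fintype.card F)⁻¹ ∨ ζ ^ r = ζ * ζ ^ Fintype.card F :=
    hn.imp (fun e => eq_inv_of_mul_eq_one_left (by rw [← hζ.pow_eq_one, e]; ring))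
      fun e => by rw [← pow_succ', ← e, pow_add, hζ.pow_eq_one, one_mul]
  obtain ⟨c, hc⟩ := (splits_X_pow_nat_card_sub_X (K := F)).mem_range_of_isRoot
    (FiniteField.X_pow_card_sub_X_ne_zero F Finite.one_lt_card)
    (i := algebraMap F (AlgebraicClosure F))
    (x := ζ + ζ⁻¹ + ζ ^ Fintype.card F + (ζ ^ Fintype.card F)⁻¹) (by
      rw [Nat.card_eq_fintype_card]
      simp only [Polynomial.map_sub, Polynomial.map_pow, map_X, IsRoot.def, eval_sub, eval_pow,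
        eval_X]
      nth_rw 3 [hk]
      simp only [add_pow_char_pow, inv_pow]
      rw [← hk, h1, inv_inv]
      ring)
  obtain ⟨b, rfl⟩ := θ.surjective c
  refine ⟨_, (hζ.pow_eq_one_iff_dvd _).1 (pow_orderOf h2 b (hζ.ne_one n1) ?_)⟩
  rw [← map_pow, ← h2, hθ (θ b), map_pow, hc, hr]
  simp only [add_pow_char_pow, inv_pow]
  rw [← hr, pow_right_comm]
  have e0 := pow_ne_zero (Fintype.card F) z0
  rcases h3 with e | e <;> simp only [e, inv_pow, mul_pow, h1] <;> field_simp <;> grind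


/-- A power of a product of two involutions of given prime order. -/
theorem exists_inverted_pow {X : Type*} [Group X] [Finite X] {a b : X} (aa : a * a = 1)
    (bb : b * b = 1) {p : ℕ} (hd : p ∣ orderOf (a * b)) :
    ∃ y : X, orderOf y = p ∧ b * y * b = y⁻¹ := by
  refine ⟨(a * b) ^ (orderOf (a * b) / p), orderOf_pow_orderOf_div (orderOf_pos _).ne' hd, ?_⟩
  have h1 : b * (a * b) * b⁻¹ = (a * b)⁻¹ := by
    rw [mul_inv_rev, mul_assoc, mul_inv_cancel_right, inv_eq_of_mul_eq_one_right aa,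
      inv_eq_of_mul_eq_one_right bb]
  nth_rewrite 4 [← inv_eq_of_mul_eq_one_right bb]
  rw [← conj_pow, h1, inv_pow]

theorem exists_inverted_sz {X : Type*} [Group X] [Finite X] {F : Type*} [Field F] [Fintype F]
    {m : ℕ} (hm : 1 ≤ m) (hF : Fintype.card F = 2 ^ (2 * m + 1))
    (e : X ≃* Lie.Sz F (2 ^ (m + 1))) {p : ℕ} (hp : p.Prime)
    (hd : p ∣ (2 ^ (2 * m + 1)) ^ 2 + 1) :
    ∃ y w : X, orderOf y = p ∧ w * w = 1 ∧ w * y * w = y⁻¹ := by
  obtain ⟨_, θ, h1, h2⟩ := exists_theta hF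
  rw [Model.Sz_eq h1] at e
  have h3 : 2 ^ (m + 1) < 2 ^ (2 * m + 1) := Nat.pow_lt_pow_right one_lt_two (by omega)
  obtain ⟨n, hn⟩ := Nat.exists_eq_add_of_le (show 2 ^ (m + 1) ≤ 2 ^ (2 * m + 1) + 1 by omega)
  have e1 : (2 ^ (2 * m + 1) + 2 ^ (m + 1) + 1) * n = (2 ^ (2 * m + 1)) ^ 2 + 1 := by
    zify at hn ⊢
    rw [show (n : ℤ) = 2 ^ (2 * m + 1) + 1 - 2 ^ (m + 1) by linarith]
    ring
  obtain ⟨k, k5, kd, hk⟩ : ∃ k, p ∣ k ∧ k ∣ (2 ^ (2 * m + 1)) ^ 2 + 1 ∧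
      (k = 2 ^ (2 * m + 1) + 2 ^ (m + 1) + 1 ∨ k + 2 ^ (m + 1) = 2 ^ (2 * m + 1) + 1) := by
    rcases (hp.dvd_mul).1 (e1 ▸ hd) with h5 | h5
    exacts [⟨_, h5, Dvd.intro _ e1, Or.inl rfl⟩, ⟨_, h5, Dvd.intro_left _ e1, Or.inr (by omega)⟩]
  have k1 : 1 < k := hp.one_lt.trans_le (Nat.le_of_dvd (Nat.pos_of_dvd_of_pos kd (by positivity)) k5)
  obtain ⟨b, hb⟩ := exists_dvd_orderOf h2 h1 k1 (hF ▸ kd) (hF ▸ hk) rfl
  have : Finite (Model.S θ) := Finite.of_equiv _ e.toEquiv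
  obtain ⟨y, hy, h4⟩ := exists_inverted_pow (a := U h2 0 b) (b := T θ) (by
    rw [U_mul, ← U_zero h2]; congr 1 <;> grind) T_T (k5.trans hb)
  exact ⟨e.symm y, e.symm (T θ), by rw [MulEquiv.orderOf_eq, hy], by rw [← map_mul, T_T, map_one],
    by rw [← map_mul, ← map_mul, h4, map_inv]⟩

variable {X : Type u} [Group X] [Finite X]

theorem ZTG.iso (h : ZTG X) (h3 : ¬ 3 ∣ Nat.card X) : ∃ m, 1 ≤ m ∧
    Nonempty (X ≃* Lie.Sz (GaloisField 2 (2 * m + 1)) (2 ^ (m + 1))) := by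
  obtain ⟨Q, H, t, h⟩ := h
  rcases h.main with ⟨n, h1, h4, h5, -⟩ | ⟨m, h1, -, -, h2⟩
  · refine absurd ?_ h3
    rw [h.card_G, h4, h5]
    have h6 : 0 < 2 ^ n := by positivity
    have h7 : ¬ 3 ∣ 2 ^ n := fun e => absurd (Nat.prime_three.dvd_of_dvd_pow e) (by norm_num)
    generalize 2 ^ n = q at h6 h7
    rcases (by omega : 3 ∣ q - 1 ∨ 3 ∣ q + 1) with e | e
    exacts [(e.mul_left q).mul_right _, e.mul_left _]
  · exact ⟨m, h1, h2⟩

theorem card_GF (m : ℕ) : Nat.card (GaloisField 2 (2 * m + 1)) = 2 ^ (2 * m + 1) :=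
  GaloisField.card 2 _ (by omega)

/-- Coordinates adapted to a given Sylow subgroup. -/
theorem exists_szC {m : ℕ} (hm : 1 ≤ m)
    (e : X ≃* Lie.Sz (GaloisField 2 (2 * m + 1)) (2 ^ (m + 1))) {S : Subgroup X}
    (hS : IsSyl 2 S ⊤) : ∃ (θ : GaloisField 2 (2 * m + 1) ≃+* GaloisField 2 (2 * m + 1))
      (s z k : GaloisField 2 (2 * m + 1) → X) (t : X) (h : SzC θ s z k t), h.r.Q = S := by
  have := Fintype.ofFinite (GaloisField 2 (2 * m + 1))
  obtain ⟨_, θ, s, z, k, t, h, -, h2⟩ := exists_szRel_of_iso (m := m)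
    (by rw [← Nat.card_eq_fintype_card, card_GF]) e
  have big : 2 < Nat.card (GaloisField 2 (2 * m + 1)) :=
    card_GF m ▸ Nat.pow_lt_pow_right (a := 2) (m := 1) one_lt_two (by omega)
  have h0 : SzC θ s z k t := ⟨h, h2, big⟩
  obtain ⟨g, -, rfl⟩ := hS.exists_conj_eq Nat.prime_two h0.syl
  refine ⟨θ, _, _, _, _, ⟨h.map (MulAut.conj g), h2, big⟩, ?_⟩
  ext x
  rw [mem_conj]
  refine exists_congr fun a => exists_congr fun b => ?_
  simp only [MulAut.conj_apply]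
  constructor
  · rintro rfl; group
  · intro e; rw [conj_mul, ← e]; group

theorem ZTG.exists_inverted (h : ZTG X) (h3 : ¬ 3 ∣ Nat.card X) {p : ℕ} (hp : p.Prime) (p2 : p ≠ 2)
    (hd : p ∣ Nat.card X) : ∃ y w : X, orderOf y = p ∧ w * w = 1 ∧ w * y * w = y⁻¹ := by
  obtain ⟨m, hm, ⟨e⟩⟩ := h.iso h3
  have := Fintype.ofFinite (GaloisField 2 (2 * m + 1))
  have hF : Fintype.card (GaloisField 2 (2 * m + 1)) = 2 ^ (2 * m + 1) := by
    rw [← Nat.card_eq_fintype_card, card_GF]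
  obtain ⟨Q, H, t, h, h1, h2⟩ := exists_zt_of_iso hm hF e
  rw [h.card_G, hp.dvd_mul, hp.dvd_mul] at hd
  rcases hd with (hd | hd) | hd
  · exact absurd (eq_of_prime_dvd_card_of_isPGroup Nat.prime_two hp h.isPGroup hd) p2
  · obtain ⟨y, hy, h4⟩ := exists_mem_orderOf_eq_prime hp hd
    exact ⟨y, t, h4, h.tt, h.inverts y hy⟩
  · exact exists_inverted_sz hm hF e hp (h1 ▸ hd)

end Cfsg.Agent.P14
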