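/-
`p`-stability (`p ≥ 5`) of groups in which no element of order three is real.
-/
import Cfsg.Agent.H2.Puig
import Cfsg.Agent.H8.ACGroup
import Cfsg.Agent.P14.Defs

set_option autoImplicit false

namespace Cfsg.Agent.P14.St

open Subgroup Cfsg Cfsg.Agent Cfsg.Agent.H2 Cfsg.Agent.FT
open scoped Pointwise commutatorElement

/-- No element of order three is real. -/
def I3 (H : Type*) [Group H] : Prop := ∀ x g : H, x ^ 3 = 1 → g * x * g⁻¹ = x⁻¹ → x = 1

theorem I3.of_not_dvd {H : Type*} [Group H] [Finite H] (h : ¬ 3 ∣ Nat.card H) : I3 H :=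
  fun x _ hx _ => by
    rcases (Nat.dvd_prime Nat.prime_three).1 (orderOf_dvd_of_pow_eq_one hx) with e | e
    · exact orderOf_eq_one_iff.1 e
    · exact absurd (e ▸ orderOf_dvd_natCard x) h

theorem I3.of_injective {H K : Type*} [Group H] [Group K] (h : I3 K) (f : H →* K)
    (hf : Function.Injective f) : I3 H := fun x g hx hg =>
  hf ((h (f x) (f g) (by rw [← map_pow, hx, map_one])
    (by rw [← map_inv, ← map_mul, ← map_mul, hg, map_inv])).trans (map_one f).symm)

theorem I3.subgroup {H : Type*} [Group H] (h : I3 H) (K : Subgroup H) : I3 K :=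
  h.of_injective K.subtype K.subtype_injective

theorem I3.pow {H : Type*} [Group H] (h : I3 H) {x g : H} {k : ℕ} (hx : x ^ 3 ^ k = 1)
    (hg : g * x * g⁻¹ = x⁻¹) : x = 1 := by
  induction k generalizing x with
  | zero => simpa using hx
  | succ k ih =>
    refine h x g (ih (by rw [← pow_mul, ← pow_succ', hx]) ?_) hg
    rw [← conj_pow, hg, inv_pow]

theorem map_of_isSyl {G H : Type*} [Group G] [Finite G] [Group H] {f : G →* H} (hf : Function.Surjective f) {p : ℕ}
    (hp : p.Prime) {X : Subgroup H} (hX : IsPGroup p X) {Y : Subgroup G}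
    (hY : IsSyl p Y (X.comap f)) : Y.map f = X := by
  haveI := Fact.mk hp
  haveI := Finite.of_surjective f hf
  have hle : Y.map f ≤ X := map_le_iff_le_comap.2 hY.le
  refine le_antisymm hle (relIndex_eq_one.1 ?_)
  obtain ⟨k, hk⟩ := hX.exists_card_eq
  obtain ⟨j, -, hj⟩ := (Nat.dvd_prime_pow hp).1 (hk ▸ relIndex_dvd_card (Y.map f) X)
  have h1 : (Y.map f).relIndex X ∣ Y.relIndex (X.comap f) := by
    conv_lhs => rw [← map_comap_eq_self_of_surjective hf X]
    rw [← relIndex_comap]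
    exact relIndex_dvd_of_le_left _ (le_comap_map _ _)
  cases j with
  | zero => exact hj
  | succ j => exact absurd ((hj ▸ dvd_pow_self p j.succ_ne_zero).trans h1) hY.ndvd

theorem sq_comm {H : Type*} [Group H] {g x : H} (h : g * x * g⁻¹ = x⁻¹) : Commute (g * g) x := by
  rw [Commute, SemiconjBy, ← mul_inv_eq_iff_eq_mul]
  calc _ = g * (g * x * g⁻¹) * g⁻¹ := by group
    _ = g * x⁻¹ * g⁻¹ := by rw [h]
    _ = (g * x * g⁻¹)⁻¹ := by group
    _ = x := by rw [h, inv_inv]

theorem I3.of_surjective {H K : Type*} [Group H] [Finite H] [Group K] (h : I3 H) (f : H →* K)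
    (hf : Function.Surjective f) : I3 K := by
  intro x g hx hg
  haveI : Finite K := Finite.of_surjective f hf
  haveI := Fact.mk Nat.prime_three
  obtain ⟨g, rfl⟩ := hf g
  have hinv : f g ∈ 𝐍(zpowers x) :=
    mem_norm_of_conj_le (by rw [← zpowers_conj, hg, zpowers_inv])
  obtain ⟨L, hL⟩ : ∃ L, L = (zpowers x).comap f := ⟨_, rfl⟩
  have hgL : g ∈ normalizer (L : Set H) := hL ▸ le_normalizer_comap f hinv
  obtain ⟨P, hPs⟩ := exists_isSyl Nat.prime_three L
  have hP := hPs.pgrp
  obtain ⟨l, hl, hn⟩ := H1.frattini_argument hPs.le hP hPs.ndvd hgL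
  have hl' : f l ∈ zpowers x := by rw [hL] at hl; exact hl
  have hc : Commute (f l) x := by
    obtain ⟨k, hk⟩ := mem_zpowers_iff.1 hl'
    rw [← hk]; exact (Commute.refl x).zpow_left k
  have h1 : f (l * g) * x * (f (l * g))⁻¹ = x⁻¹ := by
    rw [map_mul, mul_inv_rev]
    calc _ = f l * (f g * x * (f g)⁻¹) * (f l)⁻¹ := by group
      _ = _ := by rw [hg, hc.inv_right.eq, mul_inv_cancel_right]
  generalize l * g = n at hn h1
  obtain ⟨t, u, ht, hu, e, cm, ⟨k, hk⟩, c⟩ := H8.exists_pPart_pPrimePart Nat.prime_two n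
  have hux : Commute (f u) x := by
    refine commute_of_conj_eq_or_inv (c.coprime_dvd_left (orderOf_map_dvd f u)) ?_
    obtain ⟨j, hj⟩ := mem_zpowers_iff.1 hu
    rw [← hj, map_zpow]
    have b : ∀ i : ℤ, Commute (f n ^ (2 * i)) x := fun i => by
      rw [zpow_mul, zpow_two]; exact (sq_comm h1).zpow_left i
    rcases Int.even_or_odd' j with ⟨i, rfl | rfl⟩
    · left; rw [(b i).eq, mul_inv_cancel_right]
    · right
      rw [zpow_add, zpow_one, mul_inv_rev]
      calc _ = f n ^ (2 * i) * (f n * x * (f n)⁻¹) * (f n ^ (2 * i))⁻¹ := by group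
        _ = _ := by rw [h1, (b i).inv_right.eq, mul_inv_cancel_right]
  have h2 : f t * x * (f t)⁻¹ = x⁻¹ := by
    rw [← h1, e, map_mul, mul_inv_rev]
    calc _ = f t * (f u * x * (f u)⁻¹) * (f t)⁻¹ := by rw [hux.eq, mul_inv_cancel_right]
      _ = _ := by group
  have htP : t ∈ normalizer (P : Set H) := zpowers_le.2 hn ht
  have hxP : x ∈ P.map f := by
    rw [map_of_isSyl hf Nat.prime_three (isPGroup_zpowers_of_pow_eq_one (k := 1)
      (by rwa [pow_one])) (hL ▸ hPs)]
    exact mem_zpowers x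
  have hcop : (Nat.card (zpowers (t * t))).Coprime (Nat.card P) := by
    refine H1.coprime_card_of_isPGroup hP ?_
    rw [Nat.card_zpowers]
    refine Nat.Coprime.coprime_dvd_left (k := 2 ^ k) (orderOf_dvd_of_pow_eq_one ?_)
      (Nat.Coprime.pow_left k (by norm_num))
    rw [← pow_two, ← pow_mul, mul_comm, pow_mul, ← hk, pow_orderOf_eq_one, one_pow]
  have h3 := H1.map_inf_centralizer_map f (zpowers_le.2 (mul_mem htP htP)) hcop
    (Or.inr (H1.isSolvable_of_isPGroup hP))
  have h4 : x ∈ P.map f ⊓ centralizer (((zpowers (t * t)).map f : Subgroup K) : Set K) := by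
    refine ⟨hxP, fun y hy => ?_⟩
    rw [MonoidHom.map_zpowers] at hy
    obtain ⟨j, rfl⟩ := mem_zpowers_iff.1 hy
    rw [map_mul]
    exact ((sq_comm h2).zpow_left j).eq
  rw [h3] at h4
  obtain ⟨y, ⟨hy, hyc⟩, rfl⟩ := h4
  have hyc' : t * t * y = y * (t * t) := hyc _ (mem_zpowers _)
  have hz : y * (t * y * t⁻¹)⁻¹ ∈ P := mul_mem hy (inv_mem ((mem_normalizer_iff.1 htP y).1 hy))
  obtain ⟨j, hj⟩ := hP ⟨_, hz⟩
  have h5 := h.pow (g := t) (congrArg Subtype.val hj) (by
    change t * (y * (t * y * t⁻¹)⁻¹) * t⁻¹ = (y * (t * y * t⁻¹)⁻¹)⁻¹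
    calc _ = t * y * t⁻¹ * ((t * t * y) * (t * t)⁻¹)⁻¹ := by group
      _ = _ := by rw [hyc']; group)
  have h6 := congrArg f h5
  change f (y * (t * y * t⁻¹)⁻¹) = f 1 at h6
  rw [map_mul, map_inv, map_mul, map_mul, map_inv, h2, inv_inv, map_one] at h6
  calc f y = f y ^ 3 * (f y * f y)⁻¹ := by group
    _ = 1 := by rw [hx, h6]; simp

theorem isPGroup_of_conj {H : Type*} [Group H] [Finite H] {p : ℕ} [hp : Fact p.Prime]
    (hp5 : 5 ≤ p) (hgen : ∀ K : Subgroup H, (∀ g : H, (∃ k, g ^ p ^ k = 1) → g ∈ K) → K = ⊤)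
    (h3 : I3 H) (hu : ∀ x y : H, orderOf x = 2 → orderOf y = 2 → x = y)
    (hc : ∀ x h : H, (orderOf x).Coprime p → Commute x (h * x * h⁻¹) →
      h * x * h⁻¹ = x ∨ h * x * h⁻¹ = x⁻¹) : IsPGroup p H := by
  have fin : ∀ r : ℕ, r.Prime → r ≠ p → HasNormalPComplement r H → ¬ r ∣ Nat.card H := by
    intro r hr hrp h _
    have := Fact.mk hr
    have h1 := H8.hasNPC_iff_forall_mem_pPrimeCore.1 h
    have h2 := hgen (pPrimeCore r H) fun g ⟨k, hk⟩ => h1 g
      (Nat.Coprime.coprime_dvd_left (orderOf_dvd_of_pow_eq_one hk)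
        (Nat.Coprime.pow_left k ((Nat.coprime_primes hp.out hr).2 hrp.symm)))
    refine L.not_dvd_card_pPrimeCore (G := H) hr ?_
    rwa [h2, card_top]
  have key : ∀ r : ℕ, r.Prime → r ≠ p → r ≠ 2 → (r = 3 ∨ ¬ 2 ∣ Nat.card H) →
      ¬ r ∣ Nat.card H := by
    intro r hr hrp r2 hr2
    have := Fact.mk hr
    obtain ⟨R⟩ : Nonempty (Sylow r H) := inferInstance
    have hco : ∀ s : ℕ, s.Prime → r ≠ s → ∀ x ∈ (R : Subgroup H), (orderOf x).Coprime s :=
      fun s hs hrs x hx => by
        obtain ⟨k, hk⟩ := H8.exists_orderOf_eq_pow_of_mem R.isPGroup' hx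
        rw [hk]
        exact Nat.Coprime.pow_left k ((Nat.coprime_primes hr hs).2 hrs)
    have hcop := hco p hp.out hrp
    have hR : IsMulCommutative (R : Subgroup H) := by
      by_contra hne
      obtain ⟨N, h1, h2, h3, h4⟩ := H1.exists_minimal_nontrivial (B := (R : Subgroup H))
        (A := (R : Subgroup H)) (P := (R : Subgroup H)) le_normalizer fun e => hne ⟨⟨fun x y =>
          Subtype.ext (commutator_eq_bot_iff_le_centralizer.1 e y.2 x x.2)⟩⟩
      have h5 := commutator_eq_bot_iff_le_centralizer.1 (h4 _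
        (commutator_lt_of_isPGroup (R.isPGroup'.to_le h1) R.isPGroup' h2
          fun e => h3 (by rw [e, commutator_bot_left])) H1.le_normalizer_commutator_self)
      refine h3 (commutator_eq_bot_iff_le_centralizer.2 fun x hx h hh => ?_)
      refine (commute_of_conj_eq_or_inv (hco 2 Nat.prime_two r2 h hh)
        (hc x h (hcop x (h1 hx)) ?_)).eq
      have h6 : Commute x ⁅x, h⁆ := h5 (commutator_mem_commutator hx hh) x (h1 hx)
      have h7 : h * x * h⁻¹ = ⁅x, h⁆⁻¹ * x := by rw [commutatorElement_def]; group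
      rw [h7]
      exact h6.inv_right.mul_right (Commute.refl x)
    refine fin r hr hrp (H8.hasNPC_of_normalizer_le_centralizer R fun g hg x hx => ?_)
    have h1 := hc x g (hcop x hx)
      (le_centralizer_of_comm hR ((mem_normalizer_iff.1 hg x).1 hx) x hx)
    rcases hr2 with rfl | hr2
    · rcases h1 with h1 | h1
      · exact (mul_inv_eq_iff_eq_mul.1 h1).symm
      · obtain ⟨k, hk⟩ := H8.exists_orderOf_eq_pow_of_mem R.isPGroup' hx
        rw [h3.pow (hk ▸ pow_orderOf_eq_one x) h1, one_mul, mul_one]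
    · exact (commute_of_conj_eq_or_inv ((Nat.Prime.coprime_iff_not_dvd Nat.prime_two).2
        fun h1 => hr2 (h1.trans (orderOf_dvd_natCard g))).symm h1).eq.symm
  have k3 := key 3 Nat.prime_three (by omega) (by omega) (Or.inl rfl)
  have h2 : ¬ 2 ∣ Nat.card H := by
    refine fin 2 Nat.prime_two (by omega) ?_
    obtain ⟨S⟩ : Nonempty (Sylow 2 H) := inferInstance
    refine H8.hasNPC_of_primePow_centralizes S fun X hX _ g hg q k hq q2 hgq => ?_
    have hX2 := S.isPGroup'.to_le hX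
    have hac : H8.AC X := fun A hA => by
      rcases H3.isCyclic_or_quaternion_of_unique_involution (G := A) (hX2.to_subgroup A)
        (fun x y hx hy => Subtype.ext (Subtype.ext (hu _ _ (by rwa [orderOf_coe, orderOf_coe])
          (by rwa [orderOf_coe, orderOf_coe])))) with h | ⟨j, hj, ⟨e⟩⟩
      · exact h
      · exfalso
        obtain ⟨x, y, a1, -, -, -, a2⟩ := H3.exists_gens_of_mulEquiv_quaternion e
        rw [hA.is_comm.comm y x, mul_inv_cancel_right, eq_inv_iff_mul_eq_one, ← pow_two] at a2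
        have a3 := Nat.le_of_dvd (by norm_num) (a1 ▸ orderOf_dvd_of_pow_eq_one a2)
        have := Nat.pow_le_pow_right (by norm_num : 0 < 2) hj
        omega
    by_contra hne
    have h1 : orderOf (X.normalizerMonoidHom ⟨g, hg⟩) ∣ q ^ k := by
      rw [← hgq, ← Subgroup.orderOf_mk g hg]
      exact orderOf_map_dvd _ _
    obtain ⟨m, hmk, hm⟩ := (Nat.dvd_prime_pow hq).1 h1
    have hm0 : m ≠ 0 := by
      rintro rfl
      exact hne (H8.mem_centralizer_of_normalizerMonoidHom hg (orderOf_eq_one_iff.1 hm))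
    have h2 : q ∣ orderOf (X.normalizerMonoidHom ⟨g, hg⟩) := hm ▸ dvd_pow_self q hm0
    rcases hac.aut_two hX2 with h4 | ⟨⟨e⟩⟩
    · obtain ⟨r, hr⟩ := IsPGroup.iff_orderOf.1 h4 (X.normalizerMonoidHom ⟨g, hg⟩)
      rw [hr] at h2
      exact q2 ((Nat.prime_dvd_prime_iff_eq hq Nat.prime_two).1 (hq.dvd_of_dvd_pow h2))
    · have h4 := h2.trans (orderOf_dvd_natCard _)
      rw [H8.card_mulAut_of_quat e, show 24 = 2 ^ 3 * 3 from rfl, hq.dvd_mul] at h4
      rcases h4 with h4 | h4
      · exact q2 ((Nat.prime_dvd_prime_iff_eq hq Nat.prime_two).1 (hq.dvd_of_dvd_pow h4))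
      · obtain rfl := (Nat.prime_dvd_prime_iff_eq hq Nat.prime_three).1 h4
        exact k3 ((hgq ▸ dvd_pow_self 3 (by omega)).trans (orderOf_dvd_natCard g))
  rw [IsPGroup.iff_card]
  refine ⟨_, Nat.eq_prime_pow_of_unique_prime_dvd Nat.card_pos.ne' fun {d} hd hdd => ?_⟩
  by_contra hne
  exact key d hd hne (fun e => h2 (e ▸ hdd)) (Or.inr h2) hdd

theorem map_eq_one_of_schur3 {R : Type*} [Ring R] {p : ℕ} [hp : Fact p.Prime] (hp5 : 5 ≤ p)
    (hR : (p : R) = 0) {H : Type*} [Group H] [Finite H] (ρ : H →* R) {a b : H}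
    (hgen : closure ({a, b} : Set H) = ⊤)
    (hab : I3 H)
    (ha : (ρ a - 1) * (ρ a - 1) = 0) (hb : (ρ b - 1) * (ρ b - 1) = 0)
    (hschur : ∀ u : H, (∀ h, Commute (2 - (ρ u + ρ u⁻¹)) (ρ h)) →
      2 - (ρ u + ρ u⁻¹) = 0 ∨ ∀ d, (2 - (ρ u + ρ u⁻¹)) * d = 0 → d = 0)
    {g : H} (hg : (orderOf g).Coprime p) : ρ g = 1 := by
  have htr : ∀ u h : H, Commute (ρ u + ρ u⁻¹) (ρ h) := fun u h => by
    obtain ⟨h1, h2⟩ := commute_trace_of_quadratic ha hb ρ (a := a) (b := b) (by simp) (by simp)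
      (g := u) (hgen ▸ mem_top u)
    have hh : h ∈ Submonoid.closure ({a, b} : Set H) := by
      rw [← closure_toSubmonoid_of_finite, hgen]; exact mem_top h
    induction hh using Submonoid.closure_induction with
    | mem x hx =>
      rcases hx with rfl | rfl
      · simpa using h1.add_right (Commute.one_right _)
      · simpa using h2.add_right (Commute.one_right _)
    | one => simp
    | mul x y _ _ k1 k2 => rw [map_mul]; exact k1.mul_right k2
  let f := ρ.toHomUnits.rangeRestrict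
  have hf : Function.Surjective f := ρ.toHomUnits.rangeRestrict_surjective
  have hker : ∀ x y, f x = f y ↔ ρ x = ρ y := fun x y => by
    rw [Subtype.ext_iff, Units.ext_iff]; rfl
  have : Finite ρ.toHomUnits.range := Finite.of_surjective f hf
  have hone : ∀ x, ρ x ^ p = 1 → f x ^ p ^ 1 = 1 := fun x hx => by
    rw [pow_one, ← map_pow, ← map_one f, hker, map_pow, hx, map_one]
  have hP : IsPGroup p ρ.toHomUnits.range := by
    refine isPGroup_of_conj hp5 (fun K hK => ?_) (hab.of_surjective f hf) (fun x y hx hy => ?_)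
      fun x h hx hc => ?_
    · have h1 : closure ({a, b} : Set H) ≤ K.comap f := by
        rw [closure_le]
        rintro x (rfl | rfl)
        · exact hK _ ⟨1, hone _ (pow_prime_eq_one_of_sq_zero hR ha)⟩
        · exact hK _ ⟨1, hone _ (pow_prime_eq_one_of_sq_zero hR hb)⟩
      rw [eq_top_iff]
      intro y _
      obtain ⟨x, rfl⟩ := hf y
      exact h1 (hgen ▸ mem_top x)
    · have h2 : ∀ d : R, 2 * d = 0 → d = 0 := fun d hd => by
        obtain ⟨k, hk⟩ := hp.out.odd_of_ne_two (by omega)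
        have e : (p : R) = k * 2 + 1 := by rw [hk]; push_cast; rw [(Nat.cast_commute k 2).eq]
        calc d = (p : R) * d := by rw [e, add_mul, mul_assoc, hd, mul_zero, zero_add, one_mul]
          _ = 0 := by rw [hR, zero_mul]
      have key : ∀ z, orderOf (f z) = 2 → ρ z = -1 := fun z hz => by
        have a1 : f (z * z) = f 1 := by rw [map_mul, map_one, ← pow_two, ← hz, pow_orderOf_eq_one]
        rw [hker, map_mul, map_one] at a1
        have a2 : ρ z⁻¹ = ρ z := by
          rw [← one_mul (ρ z⁻¹), ← a1, mul_assoc, ← map_mul, mul_inv_cancel, map_one, mul_one]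
        rcases hschur z (fun k => (Commute.ofNat_left 2 _).sub_left (htr z k)) with h1 | h1
        · exfalso
          have a3 := h2 (1 - ρ z) (by rw [← h1, a2, mul_sub, mul_one, two_mul])
          rw [sub_eq_zero, eq_comm, ← map_one ρ, ← hker, map_one] at a3
          rw [a3, orderOf_one] at hz
          omega
        · have a3 := h1 (ρ z + 1) (by
            rw [a2]
            calc _ = 2 - 2 * (ρ z * ρ z) := by noncomm_ring
              _ = 0 := by rw [a1, mul_one, sub_self])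
          exact eq_neg_of_add_eq_zero_left a3
      obtain ⟨x, rfl⟩ := hf x
      obtain ⟨y, rfl⟩ := hf y
      rw [hker, key x hx, key y hy]
    · have hco := hc.inv_left.orderOf_mul_dvd_mul_orderOf
      rw [orderOf_inv, (show orderOf (h * x * h⁻¹) = orderOf x from
        (MulAut.conj h).orderOf_eq x)] at hco
      have hu := (hx.mul_left hx).coprime_dvd_left hco
      obtain ⟨x, rfl⟩ := hf x
      obtain ⟨h, rfl⟩ := hf h
      simp only [← map_inv, ← map_mul] at hc hu ⊢
      obtain ⟨y, hy⟩ : ∃ y, y = h * x * h⁻¹ := ⟨_, rfl⟩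
      rw [← hy] at hc hu ⊢
      have hc' : ρ x * ρ y = ρ y * ρ x := by
        rw [← map_mul, ← map_mul, ← hker, map_mul, map_mul]; exact hc
      have e0 : ∀ z, ρ z * ρ z⁻¹ = 1 := fun z => by rw [← map_mul, mul_inv_cancel, map_one]
      have e0' : ∀ z, ρ z⁻¹ * ρ z = 1 := fun z => by rw [← map_mul, inv_mul_cancel, map_one]
      have e1 : ρ y + ρ y⁻¹ = ρ x + ρ x⁻¹ := by
        rw [← mul_one (ρ x + ρ x⁻¹), ← e0 h, ← mul_assoc, (htr x h).eq, hy]
        simp only [mul_inv_rev, inv_inv, map_mul, mul_add, add_mul, mul_assoc]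
      have e2 : (ρ (x⁻¹ * y) - 1) * (ρ (x * y) - 1) = 0 := by
        have a1 : ρ (x⁻¹ * y) * ρ (x * y) = ρ y * ρ y := by
          rw [map_mul, map_mul, mul_assoc, ← mul_assoc (ρ y), ← hc', mul_assoc, ← mul_assoc,
            e0', one_mul]
        calc _ = ρ (x⁻¹ * y) * ρ (x * y) - (ρ x + ρ x⁻¹) * ρ y + 1 := by
              simp only [map_mul]; noncomm_ring
          _ = 0 := by rw [a1, ← e1, add_mul, e0']; noncomm_ring
      obtain ⟨u, hu'⟩ : ∃ u, u = x⁻¹ * y := ⟨_, rfl⟩
      rw [← hu'] at hu e2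
      have e3 : 2 - (ρ u + ρ u⁻¹) = (ρ u⁻¹ - 1) * (ρ u - 1) := by
        rw [sub_mul, mul_sub, mul_sub, e0', ← one_add_one_eq_two]; noncomm_ring
      rcases hschur u (fun k => (Commute.ofNat_left 2 _).sub_left (htr u k)) with h1 | h1
      · left
        have a1 : (ρ u - 1) * (ρ u - 1) = 0 := by
          calc _ = -(ρ u * ((ρ u⁻¹ - 1) * (ρ u - 1))) := by
                rw [← mul_assoc, mul_sub (ρ u), e0]; noncomm_ring
            _ = 0 := by rw [← e3, h1, mul_zero, neg_zero]
        have a2 := hone u (pow_prime_eq_one_of_sq_zero hR a1)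
        have a3 : f u = 1 := orderOf_eq_one_iff.1 (Nat.eq_one_of_dvd_coprimes hu dvd_rfl
          (by simpa using orderOf_dvd_of_pow_eq_one a2))
        rw [hu', map_mul, map_inv, inv_mul_eq_one] at a3
        exact a3.symm
      · right
        have a1 := h1 (ρ (x * y) - 1) (by rw [e3, mul_assoc, e2, mul_zero])
        rw [sub_eq_zero, ← map_one ρ, ← hker, map_mul, map_one] at a1
        rw [map_inv]
        exact eq_inv_of_mul_eq_one_right a1
  obtain ⟨k, hk⟩ := hP (f g)
  rw [← map_one ρ, ← hker, map_one, ← orderOf_eq_one_iff]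
  exact Nat.eq_one_of_dvd_coprimes (hg.pow_right k) (orderOf_map_dvd f g)
    (orderOf_dvd_of_pow_eq_one hk)

theorem rep_eq_one_of_quadratic3 {p : ℕ} [hp : Fact p.Prime] (hp5 : 5 ≤ p) {H : Type*} [Group H]
    [Finite H] {a b : H} (hgen : closure ({a, b} : Set H) = ⊤)
    (hab : I3 H) {g : H}
    (hg : (orderOf g).Coprime p) {V : Type*} [AddCommGroup V] [Module (ZMod p) V] [Finite V]
    (ρ : Representation (ZMod p) H V) (ha : (ρ a - 1) * (ρ a - 1) = 0)
    (hb : (ρ b - 1) * (ρ b - 1) = 0) : ρ g = 1 := by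
  induction hn : Nat.card V using Nat.strong_induction_on generalizing V with
  | _ n ih =>
  have hR : (p : Module.End (ZMod p) V) = 0 := by
    rw [← map_natCast (algebraMap (ZMod p) (Module.End (ZMod p) V)), ZMod.natCast_self, map_zero]
  have sub : ∀ W : Submodule (ZMod p) V, W ≠ ⊤ → (∀ h, W ≤ W.comap (ρ h)) → ∀ w ∈ W, ρ g w = w := by
    intro W hW hinv w hw
    have h1 := ih (Nat.card W) (hn ▸ Finite.card_subtype_lt (x := (Classical.choose
      (SetLike.exists_not_mem_of_ne_top W hW))) (Classical.choose_spec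
        (SetLike.exists_not_mem_of_ne_top W hW))) (ρ.subrepresentation W hinv)
      (by
        ext v
        exact LinearMap.congr_fun ha v)
      (by
        ext v
        exact LinearMap.congr_fun hb v) rfl
    exact congrArg Subtype.val (LinearMap.congr_fun h1 ⟨w, hw⟩)
  by_contra hne
  refine hne (map_eq_one_of_schur3 hp5 hR ρ hgen hab ha hb (fun u hc => ?_) hg)
  generalize 2 - (ρ u + ρ u⁻¹) = c at hc
  by_contra hcon
  rw [not_or] at hcon
  have hni : ¬ Function.Injective c := fun h => hcon.2 fun d hd => by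
    ext v
    exact h ((LinearMap.congr_fun hd v).trans (map_zero c).symm)
  have k1 := sub (LinearMap.ker c) (fun e => hcon.1 (LinearMap.ker_eq_top.1 e)) fun h v hv => by
    rw [Submodule.mem_comap, LinearMap.mem_ker]
    have := LinearMap.congr_fun (hc h).eq v
    simp only [Module.End.mul_apply] at this
    rw [this, LinearMap.mem_ker.1 hv, map_zero]
  have k2 := sub (LinearMap.range c) (fun e => hni
    (Finite.injective_iff_surjective.2 (LinearMap.range_eq_top.1 e))) fun h => by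
    rintro _ ⟨v, rfl⟩
    exact ⟨ρ h v, LinearMap.congr_fun (hc h).eq v⟩
  have k3 : (ρ g - 1) * (ρ g - 1) = 0 := by
    ext v
    have a1 : ρ g v - v ∈ LinearMap.ker c := by
      rw [LinearMap.mem_ker, map_sub, sub_eq_zero]
      exact (LinearMap.congr_fun (hc g).eq v).trans (k2 _ ⟨v, rfl⟩)
    simpa [sub_eq_zero] using k1 _ a1
  have k4 := pow_prime_eq_one_of_sq_zero hR k3
  refine hne (orderOf_eq_one_iff.1 (Nat.eq_one_of_dvd_coprimes hg (orderOf_map_dvd ρ g)
    (orderOf_dvd_of_pow_eq_one k4)))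

variable {G : Type*} [Group G]

open scoped IsMulCommutative in
theorem mem_centralizer_of_quadratic_pair3 [Finite G] {p : ℕ} [hp : Fact p.Prime] (hp5 : 5 ≤ p)
    {Y : Subgroup G} (hY : IsPGroup p Y) {a b : G}
    (hn : closure ({a, b} : Set G) ≤ normalizer (Y : Set G))
    (hab : I3 G)
    (ha : ∀ y ∈ Y, ⁅a, ⁅a, y⁆⁆ = 1) (hb : ∀ y ∈ Y, ⁅b, ⁅b, y⁆⁆ = 1) {g : G}
    (hgE : g ∈ closure ({a, b} : Set G)) (hg : (orderOf g).Coprime p) :
    g ∈ centralizer (Y : Set G) := by
  have := hY.isNilpotent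
  have := H7.isMulCommutative_quotient_frattini (G := Y)
  let φ := (H7.quotAut (frattini Y)).comp (H1.conjAut hn)
  have he := H7.pow_eq_one_quotient_frattini hY
  have hq : ∀ c : closure ({a, b} : Set G), (∀ y ∈ Y, ⁅(c : G), ⁅(c : G), y⁆⁆ = 1) →
      (H1.autRep he φ c - 1) * (H1.autRep he φ c - 1) = 0 := fun c hc => by
    rw [← pow_two, H1.autRep_sub_one_pow_eq_zero_iff]
    intro v
    obtain ⟨y, rfl⟩ := QuotientGroup.mk_surjective v
    have h1 : (fun w => H1.conjAut hn c w * w⁻¹)^[2] y = 1 :=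
      Subtype.ext ((H1.coe_iterate_conjAut hn c 2 y).trans (hc y y.2))
    exact congrArg (QuotientGroup.mk (s := frattini Y)) h1
  have ham : a ∈ closure ({a, b} : Set G) := subset_closure (by simp)
  have hbm : b ∈ closure ({a, b} : Set G) := subset_closure (by simp)
  have h1 := rep_eq_one_of_quadratic3 hp5 (a := (⟨a, ham⟩ : closure ({a, b} : Set G)))
    (b := ⟨b, hbm⟩) (by
      rw [← map_subtype_inj, MonoidHom.map_closure, Set.image_pair, ← MonoidHom.range_eq_map,
        range_subtype]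
      rfl)
    (hab.subgroup _)
    (g := ⟨g, hgE⟩) (by rwa [← orderOf_coe]) (H1.autRep he φ) (hq _ ha) (hq _ hb)
  rw [H1.autRep_eq_one_iff] at h1
  have h2 := (H7.mem_ker_quotAut _ _).1 h1
  refine H1.le_centralizer_of_commutator_le_frattini (zpowers_le.2 (hn hgE))
    (H1.coprime_card_of_isPGroup hY (by rwa [Nat.card_zpowers])) ?_ (mem_zpowers g)
  refine H1.commutator_zpowers_le (H1.le_normalizer_frattiniOf hn hgE) fun y hy => ?_
  rw [← commutatorElement_inv]
  exact inv_mem ⟨_, h2 ⟨y, hy⟩, rfl⟩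

theorem snIn_sup_centralizer_of_quadratic3 [Finite G] {p : ℕ} [hp : Fact p.Prime] (hp5 : 5 ≤ p)
    {M Y X : Subgroup G} (hY : IsPGroup p Y) (hMY : M ≤ normalizer (Y : Set G))
    (hab : I3 G) (hXM : X ≤ M) (hq : ⁅⁅Y, X⁆, X⁆ = ⊥)
    {H : Type*} [Group H] [Finite H] (f : M →* H) (hf : Function.Surjective f)
    (hker : ∀ m : M, f m = 1 ↔ (m : G) ∈ centralizer (Y : Set G)) :
    (X.subgroupOf M).map f ≤ pCore p H := by
  rintro _ ⟨a, ha, rfl⟩
  refine L.baer_suzuki fun h => ?_
  obtain ⟨h, rfl⟩ := hf h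
  have hqa : ∀ y ∈ Y, ⁅(a : G), ⁅(a : G), y⁆⁆ = 1 := fun y hy => by
    rw [commutator_comm, commutator_comm Y] at hq
    exact mem_bot.1 (hq ▸ commutator_mem_commutator ha (commutator_mem_commutator ha hy))
  have hE : closure ({(a : G), h * a * (h : G)⁻¹} : Set G) ≤ M := by
    rw [closure_le]
    rintro _ (rfl | rfl)
    · exact a.2
    · exact (h * a * h⁻¹).2
  have key : ∀ g ∈ closure ({a, h * a * h⁻¹} : Set M), (orderOf g).Coprime p → f g = 1 := by
    intro g hg hgo
    refine (hker g).2 (mem_centralizer_of_quadratic_pair3 hp5 hY (hE.trans hMY)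
      hab hqa (fun y hy => ?_) ?_ (by rwa [orderOf_coe]))
    · have := hqa _ (H1.conj_mem_of_le_normalizer' hMY h.2 hy)
      calc _ = h * ⁅(a : G), ⁅(a : G), (h : G)⁻¹ * y * h⁆⁆ * (h : G)⁻¹ := by
            simp only [commutatorElement_def]; group
        _ = 1 := by rw [this]; group
    · have := mem_map_of_mem M.subtype hg
      rwa [MonoidHom.map_closure, Set.image_pair] at this
  rw [← map_inv, ← map_mul, ← map_mul, ← Set.image_pair, ← MonoidHom.map_closure]
  rintro ⟨_, g, hg, rfl⟩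
  obtain ⟨u, v, hu, hv, e, -, ⟨k, hk⟩, c⟩ := H8.exists_pPart_pPrimePart hp.out g
  refine ⟨k, Subtype.ext ?_⟩
  change f g ^ p ^ k = 1
  rw [e, map_mul, key v (zpowers_le.2 hg hv) c, mul_one, ← map_pow, ← hk, pow_orderOf_eq_one,
    map_one]

theorem pStab [Finite G] {p : ℕ} [hp : Fact p.Prime] (hp5 : 5 ≤ p) (hab : I3 G) : PStab p G := by
  intro Y _ hY A hA
  have := snIn_sup_centralizer_of_quadratic3 hp5 (M := ⊤) hY
    (le_top.trans (normalizer_eq_top Y).ge) hab le_top hA
    ((QuotientGroup.mk' (centralizer (Y : Set G))).comp (⊤ : Subgroup G).subtype)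
    ((QuotientGroup.mk'_surjective _).comp fun x => ⟨⟨x, mem_top x⟩, rfl⟩)
    (fun m => QuotientGroup.eq_one_iff _)
  rwa [← map_map, subgroupOf_map_subtype, inf_top_eq] at this

/-- The `ZJ`-theorem for a subgroup `U` of characteristic `p`. -/
theorem le_norm_zl [Finite G] {p : ℕ} (hp : p.Prime) (hp5 : 5 ≤ p) (hab : I3 G) {U S : Subgroup G}
    (hc : U ⊓ 𝐂(pCoreOf p U) ≤ pCoreOf p U) (hS : IsSyl p S U) : U ≤ 𝐍(zl S) := by
  haveI := Fact.mk hp
  have hn := (pStab (G := U) hp5 (hab.subgroup U)).zl_normal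
    (centralizer_map_subtype_le_iff.2 hc) (S := S.subgroupOf U) hS.pgrp.comap_subtype hS.ndvd
  have hzl : (zl (S.subgroupOf U)).map U.subtype = zl S := by
    rw [← zl_map (ker_inf_eq_bot_of_injective U.subtype_injective _),
      subgroupOf_map_subtype, inf_of_le_left hS.le]
  rw [← hzl]
  exact le_normalizer_map_subtype _

end Cfsg.Agent.P14.St
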