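/-
P14, chapter Z: quasisimple groups over Suzuki groups.
-/
import Cfsg.Agent.P14.Z2
import Cfsg.Agent.H7.AutPGroup
import Cfsg.Agent.H5.Real

set_option autoImplicit false
set_option linter.unusedSectionVars false
set_option linter.style.haveILetI false

namespace Cfsg.Agent.P14

open Subgroup Cfsg Cfsg.Agent Cfsg.Agent.FT Cfsg.Agent.P2
open scoped commutatorElement

universe u

variable {G : Type u} [Group G] [Finite G] {K : Subgroup G}

/-- The projection to the central quotient. -/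
abbrev cq (K : Subgroup G) : K →* K ⧸ center K := QuotientGroup.mk' (center K)

theorem cq_surj : Function.Surjective (cq K) := QuotientGroup.mk'_surjective _

theorem cq_eq_one {v : K} : cq K v = 1 ↔ (v : G) ∈ 𝐂(K) := by
  rw [QuotientGroup.mk'_apply, QuotientGroup.eq_one_iff, mem_center_iff, mem_cent]
  exact ⟨fun e g hg => congrArg Subtype.val (e ⟨g, hg⟩), fun e g => Subtype.ext (e g g.2)⟩

theorem cq_eq {v w : K} : cq K v = cq K w ↔ (v : G)⁻¹ * w ∈ 𝐂(K) := by
  rw [← inv_mul_eq_one, ← map_inv, ← map_mul, cq_eq_one]; rfl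

/-- The preimage in `G` of a subgroup of the central quotient. -/
def up (Y : Subgroup (K ⧸ center K)) : Subgroup G := (Y.comap (cq K)).map K.subtype

theorem coe_mem_up {Y : Subgroup (K ⧸ center K)} {v : K} : (v : G) ∈ up Y ↔ cq K v ∈ Y :=
  mem_map_iff_mem K.subtype_injective

theorem up_le (Y : Subgroup (K ⧸ center K)) : up Y ≤ K := map_subtype_le _

theorem up_top : up (⊤ : Subgroup (K ⧸ center K)) = K := by
  rw [up, comap_top, ← MonoidHom.range_eq_map, range_subtype]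

theorem up_bot : up (⊥ : Subgroup (K ⧸ center K)) = K ⊓ 𝐂(K) := by
  ext x
  exact ⟨fun h => ⟨up_le _ h, cq_eq_one.1 ((coe_mem_up (v := ⟨x, up_le _ h⟩)).1 h)⟩,
    fun h => (coe_mem_up (v := ⟨x, h.1⟩)).2 (cq_eq_one.2 h.2)⟩

theorem relIndex_up (A B : Subgroup (K ⧸ center K)) : (up A).relIndex (up B) = A.relIndex B := by
  rw [up, up, relIndex_map_map_of_injective _ _ K.subtype_injective, relIndex_comap,
    map_comap_eq_self_of_surjective cq_surj]

theorem relIndex_cent_up (B : Subgroup (K ⧸ center K)) : 𝐂(K).relIndex (up B) = 𝐨(B) := by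
  rw [← relIndex_bot_left, ← relIndex_up, up_bot, ← inf_relIndex_right 𝐂(K),
    ← inf_relIndex_right (K ⊓ 𝐂(K)), inf_comm K, inf_assoc, inf_eq_right.2 (up_le B)]

/-- The image of a subgroup in the central quotient. -/
def dn (K A : Subgroup G) : Subgroup (K ⧸ center K) := (A.subgroupOf K).map (cq K)

theorem up_dn {A : Subgroup G} (hA : A ≤ K) : up (dn K A) = A ⊔ (K ⊓ 𝐂(K)) := by
  rw [up, dn, comap_map_eq, Subgroup.map_sup, subgroupOf_map_subtype, inf_eq_left.2 hA,
    QuotientGroup.ker_mk', H2.map_subtype_center]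

theorem dn_le {A : Subgroup G} {Y : Subgroup (K ⧸ center K)} (hA : A ≤ K) :
    dn K A ≤ Y ↔ A ≤ up Y := by
  rw [dn, map_le_iff_le_comap]
  exact ⟨fun h x hx => (coe_mem_up (v := ⟨x, hA hx⟩)).2 (h hx), fun h x hx => coe_mem_up.1 (h hx)⟩

theorem dn_comm {A B : Subgroup G} (hA : A ≤ K) (hB : B ≤ K) : dn K ⁅A, B⁆ = ⁅dn K A, dn K B⁆ := by
  rw [dn, dn, dn, ← map_commutator]
  congr 1
  rw [← map_subtype_inj, map_commutator, subgroupOf_map_subtype, subgroupOf_map_subtype,
    subgroupOf_map_subtype, inf_eq_left.2 hA, inf_eq_left.2 hB, inf_eq_left.2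
      ((commutator_mono hA hB).trans (der_le K))]

theorem dn_sup {A B : Subgroup G} (hA : A ≤ K) (hB : B ≤ K) : dn K (A ⊔ B) = dn K A ⊔ dn K B := by
  rw [dn, dn, dn, ← Subgroup.map_sup, subgroupOf_sup hA hB]

theorem coe_mem_norm_up {Y : Subgroup (K ⧸ center K)} {v : K} :
    (v : G) ∈ 𝐍(up Y) ↔ cq K v ∈ 𝐍(Y) := by
  rw [mem_normalizer_iff, mem_normalizer_iff, cq_surj.forall]
  constructor
  · intro h x
    rw [← map_inv, ← map_mul, ← map_mul, ← coe_mem_up, ← coe_mem_up]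
    exact h x
  · intro h x
    by_cases hx : x ∈ K
    · have := h ⟨x, hx⟩
      rwa [← map_inv, ← map_mul, ← map_mul, ← coe_mem_up, ← coe_mem_up] at this
    · exact iff_of_false (fun e => hx (up_le _ e)) fun e => hx (by
        simpa [mul_mem_cancel_left, mul_mem_cancel_right] using up_le _ e)

/-- The action of the normalizer on the central quotient. -/
def act (K : Subgroup G) : 𝐍(K) →* MulAut (K ⧸ center K) :=
  (H7.quotAut (center K)).comp K.normalizerMonoidHom

theorem act_cq (x : 𝐍(K)) (v : K) :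
    act K x (cq K v) = cq K ⟨x * v * x⁻¹, (mem_normalizer_iff.1 x.2 v).1 v.2⟩ := rfl

theorem act_eq_one (hK : ⁅K, K⁆ = K) {x : 𝐍(K)} : act K x = 1 ↔ (x : G) ∈ 𝐂(K) := by
  constructor
  · intro h
    have h1 : ⁅K, zpowers (x : G)⁆ ≤ 𝐂(K) := H1.commutator_zpowers_le
      (H1.normalizer_le_normalizer_centralizer _ x.2) fun c hc => by
        have := act_cq x ⟨c, hc⟩⁻¹
        rw [h, MulAut.one_apply, cq_eq] at this
        simpa [commutatorElement_def, mul_assoc] using this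
    have h3 := commutator_eq_bot_iff_le_centralizer.2 h1
    have h4 := commutator_commutator_eq_bot_of_rotate h3 (by rwa [commutator_comm (zpowers _)])
    rw [hK] at h4
    exact H1.commutator_eq_bot_iff_le_centralizer'.1 h4 (mem_zpowers _)
  · intro h
    ext v
    obtain ⟨v, rfl⟩ := cq_surj v
    rw [act_cq, MulAut.one_apply]
    congr 1
    exact Subtype.ext (by simp [← mem_cent.1 h v v.2])

theorem zStmt : ZStmt.{u} := by
  intro G _ _ K T qs hZ h3 kh hT
  have pf := H2.QS.commutator_eq qs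
  have c1 : Nat.card (K ⧸ center K) = 𝐂(K).relIndex K := by
    rw [← card_top, ← relIndex_cent_up, up_top]
  have n3 : ¬ 3 ∣ Nat.card (K ⧸ center K) := fun e => h3 (e.trans (card_quotient_dvd_card _))
  have zg : ZTG (K ⧸ center K) := kh _ (by omega) n3 qs.2 fun e => by
    haveI := H1.isSolvable_of_isMulCommutative (X := center K) inferInstance
    haveI := H1.isSolvable_of_isMulCommutative e
    exact H2.QS.not_isSolvable qs
      (Group.isSolvable_of_ker_le_range (center K).subtype (cq K) (by simp))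
  obtain ⟨m, hm, ⟨e⟩⟩ := zg.iso n3
  have hS : IsSyl 2 (dn K T) ⊤ := H7.SC.isSyl_map cq_surj ((isSyl_map_iff K.subtype_injective).1 (by
    rwa [subgroupOf_map_subtype, inf_eq_left.2 hT.le, ← MonoidHom.range_eq_map, range_subtype]))
  obtain ⟨θ, s, z, k, t, h, hQ⟩ := exists_szC hm e hS
  have ZT : K ⊓ 𝐂(K) ≤ T := hT.le_of_le_norm Nat.prime_two hZ inf_le_left
    (hT.le.trans (H1.le_normalizer_inf (le_norm_self K) (H1.le_normalizer_centralizer (le_norm_self K))))
  have eT : up h.r.Q = T := by rw [hQ, up_dn hT.le, sup_eq_left.2 ZT]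
  obtain ⟨r, hr, ho⟩ := zsigmondy4 (m := 4 * (2 * m + 1)) (dvd_mul_right _ _) (by omega)
  have ord : ∀ d : ℕ, 0 < d → r ∣ 2 ^ d - 1 → 4 * (2 * m + 1) ≤ d := fun d d0 hd => by
    refine ho ▸ orderOf_le_of_pow_eq_one d0 ?_
    have := (ZMod.natCast_eq_zero_iff _ _).2 hd
    rwa [Nat.cast_sub Nat.one_le_two_pow, sub_eq_zero, Nat.cast_pow, Nat.cast_one] at this
  have lift : ∀ d ∈ h.r.K, ∃ x : K, cq K x = d ∧ (x : G) ∈ K ⊓ 𝐍(T) ∧ Odd (orderOf (x : G)) :=
    fun d hd => by
      have o1 : Odd (orderOf d) := h.zt.odd.of_dvd_nat (orderOf_dvd_card_of_mem hd)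
      obtain ⟨j, hj⟩ := exists_card_eq_pow Nat.prime_two hZ
      obtain ⟨x, hx, h1⟩ := H5.exists_lift_orderOf_eq (center K) d (by
        rw [← card_map_inj K.subtype_injective, H2.map_subtype_center, hj]
        exact (Nat.coprime_two_right.2 o1).pow_right j)
      refine ⟨x, hx, mem_inf.2 ⟨x.2, ?_⟩, by rwa [orderOf_coe, h1]⟩
      rw [← eT, coe_mem_norm_up, hx]
      exact h.zt.normQ (mem_sup_right hd)
  subst eT
  have uZ : up h.zt.Z ≤ up h.r.Q := map_mono (comap_mono h.zt.Z_le)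
  refine ⟨up h.zt.Z, 2 * m + 1, r, qs, hT, odd_two_mul_add_one m, by omega, fun x => ?_, ?_,
    fun x hx => ?_, ?_, ?_, ?_, ?_, fun x hx x1 y hy y1 => ?_, fun x hx x1 y hy y1 => ?_,
    fun x hx x1 g hg hc => ?_, fun x hx x1 g hg hc => ?_, fun A hA B hB hc hs => ?_,
    fun x hx ⟨j, hj⟩ => ?_, fun x hx hxo hc => ?_, fun Y h1 h2 => ?_, hr, ord, fun w hw w1 => ?_⟩
  · refine ⟨fun hx => ⟨uZ hx, ?_⟩, fun ⟨hx, h1⟩ => ?_⟩
    · lift x to K using up_le _ hx
      exact (cq_eq_one (v := x * x)).1 ((map_mul _ x x).trans (coe_mem_up.1 hx).2)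
    · lift x to K using up_le _ hx
      exact coe_mem_up.2 ⟨coe_mem_up.1 hx, (map_mul _ x x).symm.trans (cq_eq_one.2 h1)⟩
  · refine commutator_le.2 fun x hx y hy => ?_
    lift x to K using up_le _ hx
    lift y to K using up_le _ hy
    rw [coe_mem_up] at hx hy
    exact (cq_eq_one (v := ⁅x, y⁆)).1 (by
      rw [map_commutatorElement]; exact (h.zt.central hy.1 hy.2 hx).commutator_eq)
  · lift x to K using up_le _ hx
    exact (coe_mem_up (v := x * x)).2 (map_mul (cq K) x x ▸ h.sq_mem (coe_mem_up.1 hx))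
  · rw [← up_dn ((der_le _).trans (up_le _)), dn_comm (up_le _) (up_le _), ← hQ]
    exact map_mono (comap_mono h.der)
  · rw [relIndex_cent_up, h.card_Z, card_GF]
  · rw [relIndex_up, h.rel_Z, card_GF]
  · rw [← c1, h.zt.card_G, h.r.card_Q, h.r.card_K, card_GF]
  · lift x to K using up_le _ hx
    lift y to K using up_le _ hy
    rw [coe_mem_up] at hx hy
    obtain ⟨d, hd, e⟩ := h.zt.trans hx.1 (mt cq_eq_one.1 x1) hx.2 hy.1 (mt cq_eq_one.1 y1) hy.2
    obtain ⟨d, rfl, h1, h2⟩ := lift d hd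
    exact ⟨d, h1, h2, (cq_eq (v := d * x * d⁻¹)).1 (by simpa using e)⟩
  · lift x to K using up_le _ hx
    lift y to K using up_le _ hy
    rw [coe_mem_up] at hx hy x1 y1
    obtain ⟨d, hd, e⟩ := h.zt.trans_mod (h.rel_Z.trans (h.card_Z.symm.trans h.zt.card_Z)) hx x1 hy y1
    obtain ⟨d, rfl, h1, h2⟩ := lift d hd
    exact ⟨d, h1, h2, (coe_mem_up (v := (d * x * d⁻¹)⁻¹ * y)).2 (by simpa using e)⟩
  · lift x to K using up_le _ hx
    lift g to K using hg
    rw [coe_mem_up] at hx ⊢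
    refine h.zt.cent hx (mt cq_eq_one.1 x1) (commutatorElement_eq_one_iff_commute.1 ?_).symm
    rw [← map_commutatorElement]
    exact cq_eq_one.2 hc
  · lift x to K using up_le _ hx
    lift g to K using hg
    rw [coe_mem_norm_up, h.norm_Q]
    exact h.zt.ti (coe_mem_up.1 hx) (mt cq_eq_one.1 x1) (mem_sup_left (by
      simpa using (coe_mem_up (v := g * x * g⁻¹)).1 hc))
  · have a1 := hA.trans (up_le _)
    have a2 := hB.trans (up_le _)
    rw [← dn_le a1, ← dn_le a2]
    refine h.cp ((dn_le a1).2 hA) ((dn_le a2).2 hB) ?_ fun v hv => ?_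
    · rw [← dn_comm a1 a2, eq_bot_iff, dn_le ((commutator_mono a1 a2).trans (der_le K)), up_bot]
      exact le_inf ((commutator_mono a1 a2).trans (der_le K)) hc
    · obtain ⟨v, rfl⟩ := cq_surj v
      rw [← dn_sup a1 a2, ← coe_mem_up, up_dn (sup_le a1 a2)]
      obtain ⟨a, ha, c, hc, e⟩ := (mem_sup_of_norm ((cent_anti (sup_le a1 a2)).trans
        (cent_le_norm _))).1 (hs (coe_mem_up.2 hv))
      rw [← e]
      exact mul_mem_sup ha ⟨(mul_mem_cancel_left (sup_le a1 a2 ha)).1 (e ▸ v.2), hc⟩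
  · obtain ⟨g, hg⟩ := h.inner (odd_two_mul_add_one m) (card_GF m) (φ := act K ⟨x, hx⟩) (j := j) (by
      rw [← map_pow, act_eq_one pf]; exact hj)
    obtain ⟨g, rfl⟩ := cq_surj g
    have h1 : act K (⟨g, le_norm_self K g.2⟩⁻¹ * ⟨x, hx⟩) = 1 := by
      rw [map_mul, map_inv, hg, inv_mul_eq_one]
      ext v
      obtain ⟨v, rfl⟩ := cq_surj v
      rfl
    rw [show x = g * ((g : G)⁻¹ * x) by group]
    exact mul_mem_sup g.2 ((act_eq_one pf).1 h1)
  · refine (act_eq_one pf (x := ⟨x, hx⟩)).1 (h.oddAut (hxo.of_dvd_nat ((orderOf_map_dvd _ _).trans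
      (by rw [← orderOf_coe]))) fun w hw => ?_)
    obtain ⟨w, rfl⟩ := cq_surj w
    have := hc w (coe_mem_up.2 hw)
    rw [act_cq, eq_comm, cq_eq]
    have h1 := mem_cent.1 this w w.2
    simp only [commutatorElement_def] at this h1
    change (w : G)⁻¹ * (x * w * x⁻¹) ∈ _
    rwa [show (w : G)⁻¹ * (x * w * x⁻¹) = (w : G)⁻¹ * (x * w * x⁻¹ * (w : G)⁻¹ * w) by group, ← h1,
      inv_mul_cancel_left]
  · have h4 : up (dn K Y) = Y := by rw [up_dn h2, sup_eq_left.2 (ZT.trans h1)]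
    refine (h.ovr (Y := dn K Y) fun v hv => ?_).imp (fun e => by rw [← h4, e, up_top]) fun e y hy => ?_
    · obtain ⟨v, rfl⟩ := cq_surj v
      exact coe_mem_up.1 (h4.symm ▸ h1 (coe_mem_up.2 hv))
    · lift y to K using h2 hy
      exact coe_mem_norm_up.2 (e (coe_mem_up.1 (h4.symm ▸ hy)))
  · lift w to K using up_le _ hw
    rw [coe_mem_up] at hw
    have r2 : r ≠ 2 := by
      rintro rfl
      have : (2 : ZMod 2) ^ (4 * (2 * m + 1)) = 1 := ho ▸ pow_orderOf_eq_one _
      rw [show (2 : ZMod 2) = 0 from rfl, zero_pow (by omega)] at this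
      exact zero_ne_one this
    have r3 : ¬ r ∣ 𝐨((h.r.Q ⊔ h.r.K : Subgroup _)) := by
      rw [h.zt.card_B, hr.dvd_mul, h.r.card_K, card_GF]
      rintro (e | e)
      · exact r2 (eq_of_prime_dvd_card_of_isPGroup Nat.prime_two hr h.zt.isPGroup e)
      · have := ord _ (by omega) e; omega
    have r4 : r ∣ (2 ^ (2 * m + 1)) ^ 2 + 1 := by
      have h1 : r ∣ 2 ^ (4 * (2 * m + 1)) - 1 := by
        rw [← ZMod.natCast_eq_zero_iff, Nat.cast_sub Nat.one_le_two_pow, sub_eq_zero, Nat.cast_pow,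
          Nat.cast_one, ← ho]
        exact pow_orderOf_eq_one _
      rw [show 2 ^ (4 * (2 * m + 1)) = ((2 ^ (2 * m + 1)) ^ 2) ^ 2 by ring, ← one_pow 2,
        Nat.sq_sub_sq, hr.dvd_mul, one_pow] at h1
      refine h1.resolve_right fun e => ?_
      rw [← pow_mul] at e
      have := ord _ (by omega) e
      omega
    have := Fintype.ofFinite (GaloisField 2 (2 * m + 1))
    obtain ⟨y, v, hy, vv, hv⟩ := exists_inverted_sz hm
      (by rw [← Nat.card_eq_fintype_card, card_GF]) e hr r4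
    have v1 : v ≠ 1 := by
      rintro rfl
      rw [one_mul, mul_one] at hv
      have := orderOf_dvd_of_pow_eq_one (show y ^ 2 = 1 by rw [pow_two]; nth_rewrite 1 [hv]; simp)
      exact r2 ((Nat.prime_dvd_prime_iff_eq hr Nat.prime_two).1 (hy ▸ this))
    obtain ⟨g, hg⟩ := h.zt.invol_conj vv
    obtain ⟨c, -, hc⟩ := h.zt.trans hg (by simpa using v1) (by rw [conj_mul, vv]; simp) hw.1
      (mt cq_eq_one.1 w1) hw.2
    obtain ⟨y', hy'⟩ := cq_surj (c * g * y * (c * g)⁻¹)
    have o1 : orderOf (cq K y') = r := by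
      rw [hy', ← hy]; exact (MulAut.conj (c * g)).orderOf_eq y
    refine ⟨y', y'.2, fun e => r3 ?_, (cq_eq_one (v := y' ^ r)).1 ?_,
      (cq_eq_one (v := w * y' * w⁻¹ * y')).1 ?_⟩
    · rw [coe_mem_norm_up, h.norm_Q] at e
      exact o1 ▸ orderOf_dvd_card_of_mem e
    · rw [map_pow, ← o1, pow_orderOf_eq_one]
    · rw [map_mul, map_mul, map_mul, map_inv, hy', ← hc]
      calc _ = c * g * (v * y * v⁻¹ * y) * (c * g)⁻¹ := by group
        _ = 1 := by rw [inv_eq_of_mul_eq_one_right vv, hv]; group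

end Cfsg.Agent.P14
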