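/-
An odd `p`-group that centralizes every invariant 2-subgroup centralizes the layer.
-/
import Cfsg.Agent.P14.Z
import Cfsg.Agent.P14.B1
import Cfsg.Agent.P14.C0

set_option autoImplicit false
set_option linter.unusedSectionVars false

namespace Cfsg.Agent.P14.CB

open Subgroup Cfsg Cfsg.Agent Cfsg.Agent.FT Cfsg.Agent.H2
open scoped commutatorElement Pointwise

universe u

variable {G : Type u} [Group G] [Finite G]

theorem exists_inv_syl {p q : ℕ} (hp : p.Prime) {T K S : Subgroup G} (hT : IsPGroup p T)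
    (hTK : T ≤ 𝐍(K)) (hq : q.Prime) (hS : IsSyl q S K) (hn : ¬ p ∣ 𝐍(S).relIndex K) :
    ∃ S', IsSyl q S' K ∧ T ≤ 𝐍(S') := by
  have hK : K ⊲ K ⊔ T := ⟨le_sup_left, sup_le (le_norm_self K) hTK⟩
  have h1 := hS.frattini hq hK
  obtain ⟨P, hP⟩ := exists_isSyl hp ((K ⊔ T) ⊓ 𝐍(S))
  have h2 : ¬ p ∣ ((K ⊔ T) ⊓ 𝐍(S)).relIndex (K ⊔ T) := by
    intro hd
    refine hn ?_
    have h3 := relIndex_sup_left_of_le_normalizer (S := (K ⊔ T) ⊓ 𝐍(S)) (C := K)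
      (inf_le_left.trans hK.2)
    rw [sup_comm _ K, h1] at h3
    rwa [h3, ← inf_relIndex_right, inf_comm, ← inf_assoc, inf_eq_left.2 hK.1, inf_comm,
      inf_relIndex_right] at hd
  obtain ⟨g, hg, hl⟩ := (hP.trans hp inf_le_left h2).exists_le_conj hp hT le_sup_right
  refine ⟨S ^ᵍ g, hS.conj_of_mem_norm (hK.2 hg), hl.trans ?_⟩
  rw [norm_conj]
  exact conj_mono (hP.le.trans inf_le_right) g

theorem sz_facts {K T : Subgroup G} (qs : IsQuasisimple K) (h3 : ¬ 3 ∣ 𝐨(K))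
    (kh : KH.{u} (𝐨(K) + 1)) (hT : IsSyl 2 T K) :
    (∃ j : ℕ, 𝐍(T).relIndex K ∣ (2 ^ j) ^ 2 + 1) ∧
      ∀ x ∈ 𝐍(K), Odd (orderOf x) → x ∈ 𝐂(T) → x ∈ 𝐂(K) := by
  have pf := H2.QS.commutator_eq qs
  have n3 : ¬ 3 ∣ Nat.card (K ⧸ center K) := fun e => h3 (e.trans (card_quotient_dvd_card _))
  have zg : ZTG (K ⧸ center K) := kh _ (Nat.lt_succ_of_le
      (Nat.le_of_dvd Nat.card_pos (card_quotient_dvd_card _))) n3 qs.2 fun e => by
    haveI := H1.isSolvable_of_isMulCommutative (X := center K) inferInstance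
    haveI := H1.isSolvable_of_isMulCommutative e
    exact H2.QS.not_isSolvable qs
      (Group.isSolvable_of_ker_le_range (center K).subtype (cq K) (by simp))
  obtain ⟨m, hm, ⟨e⟩⟩ := zg.iso n3
  have hS : IsSyl 2 (dn K T) ⊤ := H7.SC.isSyl_map cq_surj ((isSyl_map_iff K.subtype_injective).1 (by
    rwa [subgroupOf_map_subtype, inf_eq_left.2 hT.le, ← MonoidHom.range_eq_map, range_subtype]))
  obtain ⟨θ, s, z, k, t, h, hQ⟩ := exists_szC hm e hS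
  have eT : up h.r.Q = T ⊔ (K ⊓ 𝐂(K)) := by rw [hQ, up_dn hT.le]
  refine ⟨⟨2 * m + 1, ?_⟩, fun x hx hxo hc => ?_⟩
  · have h1 : up 𝐍(h.r.Q) ≤ 𝐍(T) := fun x hx => by
      lift x to K using up_le _ hx
      have h2 := coe_mem_norm_up.2 (coe_mem_up.1 hx)
      rw [eT] at h2
      have h4 : T ⊔ (K ⊓ 𝐂(K)) ≤ 𝐍(T) := sup_le (le_norm_self T)
        ((inf_le_right.trans (cent_anti hT.le)).trans (cent_le_norm T))
      have h5 := (hT.of_le le_sup_left (sup_le hT.le inf_le_left)).pCoreOf_eq Nat.prime_two h4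
      rw [← h5]
      exact normalizer_le_normalizer_pCoreOf 2 _ h2
    have h2 := relIndex_up 𝐍(h.r.Q) ⊤
    rw [up_top, relIndex_top_right] at h2
    refine (relIndex_dvd_of_le_left K h1).trans ?_
    have h4 := card_mul_index 𝐍(h.r.Q)
    rw [h.zt.card_G, h.norm_Q, h.zt.card_B] at h4
    rw [h2, h.norm_Q, Nat.eq_of_mul_eq_mul_left (Nat.mul_pos Nat.card_pos Nat.card_pos) h4,
      h.r.card_Q, card_GF]
  · refine (act_eq_one pf (x := ⟨x, hx⟩)).1 (h.oddAut (hxo.of_dvd_nat ((orderOf_map_dvd _ _).trans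
      (by rw [← orderOf_coe]))) fun w hw => ?_)
    obtain ⟨w, rfl⟩ := cq_surj w
    have h1 : (w : G) ∈ T ⊔ (K ⊓ 𝐂(K)) := eT ▸ coe_mem_up.2 (h.zt.Z_le hw)
    obtain ⟨a, ha, c, hc', e1⟩ := (mem_sup_of_norm (hT.le.trans (H1.le_normalizer_inf
      (le_norm_self K) (H1.le_normalizer_centralizer (le_norm_self K))))).1
      (sup_comm T _ ▸ h1)
    rw [act_cq, eq_comm, cq_eq]
    change (w : G)⁻¹ * (x * w * x⁻¹) ∈ _
    have h2 : x * a * x⁻¹ ∈ 𝐂(K) := cjm (norm_cent hx) ha.2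
    have h4 := mem_cent.1 hc c hc'
    have h5 := mem_cent.1 (mul_mem (inv_mem ha.2) h2) c (hT.le hc')
    rw [← e1]
    have : (a * c)⁻¹ * (x * (a * c) * x⁻¹) = a⁻¹ * (x * a * x⁻¹) := by
      calc _ = c⁻¹ * (a⁻¹ * (x * a * x⁻¹) * (x * c * x⁻¹)) := by group
        _ = _ := by rw [← h4, mul_inv_cancel_right, ← h5, inv_mul_cancel_left]
    rw [this]
    exact mul_mem (inv_mem ha.2) h2

theorem syl_not_le {K T : Subgroup G} (qs : IsQuasisimple K) (hT : IsSyl 2 T K) : ¬ T ≤ 𝐂(K) := by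
  intro h
  have h1 := burnside_npc Nat.prime_two hT (inf_le_left.trans (cent_comm.1 h))
  refine H2.QS.not_isSolvable qs ?_
  have h2 := h1.sdProd Nat.prime_two hT
  rw [← h2.sup, sup_comm]
  exact isSolvable_sup_of_le_normalizer h2.norm
    (isSolvable_of_isNilpotent (isNilpotent_of_isPGroup Nat.prime_two hT.pgrp))
    (P4.solvable_of_odd (Nat.coprime_two_right.1 (coprime_card_pPrimeCoreOf 2 K)))

theorem layer_cent {X : Subgroup G} (h3 : ¬ 3 ∣ 𝐨(X)) (kh : KH.{u} (𝐨(X) + 1)) {p : ℕ}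
    (hp : p.Prime) (p2 : p ≠ 2) (hj : ∀ j : ℕ, ¬ p ∣ (2 ^ j) ^ 2 + 1) {T : Subgroup G}
    (hT : IsPGroup p T) (hTX : T ≤ X)
    (hc : ∀ S ≤ X, IsPGroup 2 S → T ≤ 𝐍(S) → T ≤ 𝐂(S)) {K : Subgroup G}
    (hK : CompIn X K) : T ≤ 𝐂(K) := by
  have k3 : ¬ 3 ∣ 𝐨(K) := fun e => h3 (e.trans (FT.card_dvd_of_le hK.le))
  have kk : KH.{u} (𝐨(K) + 1) := kh.mono (Nat.succ_le_succ (card_le_of_le hK.le))
  obtain ⟨S0, hS0⟩ := exists_isSyl Nat.prime_two K
  obtain ⟨⟨j, h1⟩, -⟩ := sz_facts hK.2 k3 kk hS0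
  obtain ⟨S, hS, hn⟩ := exists_inv_syl hp (hT.to_le (inf_le_left : T ⊓ 𝐍(K) ≤ T)) inf_le_right
    Nat.prime_two hS0 fun e => hj j (e.trans h1)
  obtain ⟨W, hW⟩ : ∃ W, W = sSup {A : Subgroup G | ∃ d ∈ T, A = S ^ᵍ d} := ⟨_, rfl⟩
  have hle : ∀ d ∈ T, S ^ᵍ d ≤ W := fun d hd => hW ▸ le_sSup ⟨d, hd, rfl⟩
  have hW2 : IsPGroup 2 W := by
    haveI := Fact.mk Nat.prime_two
    rw [hW]
    refine prop_sSup_of_normal (fun A => IsPGroup 2 A) IsPGroup.of_bot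
      (fun A B h1 _ hA hB => IsPGroup.to_sup_of_normal_right' hA hB h1) (B := W) ?_
    rintro _ ⟨d, hd, rfl⟩
    refine ⟨hle d hd, hW ▸ sSup_le ?_, (hS.conj d).pgrp⟩
    rintro _ ⟨e, he, rfl⟩
    by_cases h : K ^ᵍ e = K ^ᵍ d
    · have h2 : d⁻¹ * e ∈ 𝐍(K) := by rw [← conj_eq_self_iff, ← conj_conj, h, conj_conj_inv]
      have h4 := conj_eq_of_mem_norm (hn (mem_inf.2 ⟨mul_mem (inv_mem hd) he, h2⟩))
      rw [← conj_inv_conj (S ^ᵍ e) d, conj_conj S, h4]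
      exact le_norm_self _
    · exact ((conj_mono hS.le e).trans (((comp_conj hK (hTX he)).le_centralizer_of_ne
        (comp_conj hK (hTX hd)) h).trans (cent_anti (conj_mono hS.le d)))).trans (cent_le_norm _)
  have hTW : T ≤ 𝐍(W) := fun t ht => mem_norm_of_conj_le (by
    rw [← conj_le_conj_iff (g := t⁻¹), conj_conj_inv]
    conv_lhs => rw [hW]
    refine sSup_le ?_
    rintro _ ⟨d, hd, rfl⟩
    rw [le_conj_iff, inv_inv, conj_conj]
    exact hle _ (mul_mem ht hd))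
  have h2 := (hc W (hW ▸ sSup_le (by
    rintro _ ⟨d, hd, rfl⟩
    exact conj_le_of_mem (hS.le.trans hK.le) (hTX hd))) hW2 hTW).trans
    (cent_anti ((conj_one S).ge.trans (hle 1 (one_mem T))))
  obtain ⟨s, hs, hsK⟩ := SetLike.not_le_iff_exists.1 (syl_not_le hK.2 hS)
  intro x hx
  refine (sz_facts hK.2 k3 kk hS).2 x (comp_norm hK (hTX hx) (hS.le hs) ?_)
    (odd_of_mem (P6.odd_of_isPGroup hp p2 hT) hx) (h2 hx)
  rwa [← mem_cent.1 (h2 hx) s hs, mul_inv_cancel_right]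

end Cfsg.Agent.P14.CB
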