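/-
P14, chapter C: case B.
-/
import Cfsg.Agent.P14.CB1
import Cfsg.Agent.P14.CB2
import Cfsg.Agent.P14.C2

set_option autoImplicit false
set_option linter.unusedSectionVars false

namespace Cfsg.Agent.P14

open Subgroup Cfsg Cfsg.Agent Cfsg.Agent.FT Cfsg.Agent.H2 MulAction Cfsg.Agent.P6
open scoped commutatorElement Pointwise

universe u

variable {G : Type u} [Group G] [Finite G]

theorem CB.fstar_le {H H' W T R : Subgroup G} (h3 : ¬ 3 ∣ 𝐨(H)) (kh : KH.{u} (𝐨(H) + 1)) {p : ℕ}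
    (hp : p.Prime) (p2 : p ≠ 2) (hj : ∀ j : ℕ, ¬ p ∣ (2 ^ j) ^ 2 + 1) (hW : W ⊲ H')
    (ho : Odd 𝐨(W)) (hT : IsPGroup p T) (hTW : T ≤ W) (hTH : T ≤ H)
    (hU : ∀ X : Subgroup G, 𝐨(X).Coprime p → T ≤ 𝐍(X) → X ≤ H') (hR : IsSyl p R H)
    (hRH : R ≤ H') [((pPrimeCoreOf p H).subgroupOf H).Normal] :
    H1.unbar H (pPrimeCoreOf p H) (fstarOf ⊤) ≤ H' := by
  haveI := Fact.mk hp
  have hY := pPrimeCoreOf_normal p H
  have hYc := coprime_card_pPrimeCoreOf p H
  have hYH : pPrimeCoreOf p H ≤ H' := hU _ hYc (hTH.trans hY.2)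
  refine le_trans ?_ (inf_le_right (a := H))
  rw [← H1.unbar_bar_of_le (Y := H) (le_inf hY.1 hYH) inf_le_left, H1.unbar_le_unbar_iff]
  have k1 : ∀ S : Subgroup (H ⧸ (pPrimeCoreOf p H).subgroupOf H), IsPGroup 2 S →
      H1.bar H (pPrimeCoreOf p H) T ≤ 𝐍(S) → H1.unbar H (pPrimeCoreOf p H) S ≤ H' :=
    fun S hS hn => hU _ (by
      obtain ⟨k, hk⟩ := exists_card_eq_pow Nat.prime_two hS
      rw [H1.card_unbar hY.1, hk]
      exact hYc.mul_left (((Nat.coprime_primes Nat.prime_two hp).2 p2.symm).pow_left k))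
      (H1.le_normalizer_unbar hTH hn)
  have k2 : ∀ S ≤ (⊤ : Subgroup (H ⧸ (pPrimeCoreOf p H).subgroupOf H)), IsPGroup 2 S →
      H1.bar H (pPrimeCoreOf p H) T ≤ 𝐍(S) → H1.bar H (pPrimeCoreOf p H) T ≤ 𝐂(S) := by
    intro S _ hS hn
    rw [← H1.commutator_eq_bot_iff_le_centralizer', eq_bot_iff]
    have a1 : ⁅S, H1.bar H (pPrimeCoreOf p H) T⁆ ≤ S := comm_le_left_iff.2 hn
    have a2 : Odd 𝐨(⁅S, H1.bar H (pPrimeCoreOf p H) T⁆) := by
      rw [← H1.bar_unbar S, ← H1.bar_commutator (H1.unbar_le S) hTH]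
      exact (odd_of_le ((commutator_mono (k1 S hS hn) hTW).trans (comm_le_right_iff.2 hW.2))
        ho).of_dvd_nat (H1.card_bar_dvd _)
    exact fun x hx => eq_one_of_odd_of_mem hS (a1 hx) (odd_orderOf_of_mem a2 hx)
  have hc : 𝐨((⊤ : Subgroup (H ⧸ (pPrimeCoreOf p H).subgroupOf H))) ∣ 𝐨(H) := by
    rw [card_top]; exact card_quotient_dvd_card _
  rw [fstarOf_eq, layerOf_eq_sSup]
  refine sup_le (sSup_le fun K hK => ?_) ((fittingOf_le_sup hp _).trans (sup_le ?_ ?_))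
  · have a1 := CB.layer_cent (fun e => h3 (e.trans hc))
      (kh.mono (Nat.succ_le_succ (Nat.le_of_dvd Nat.card_pos hc))) hp p2 hj (H1.isPGroup_bar hT)
      le_top k2 hK
    obtain ⟨S, hS⟩ := exists_isSyl Nat.prime_two K
    have a2 := (H2.QS.eq_or_le_centralizer hK.2 (SnIn.of_normal (nclIn_le hS.le)
      (le_normalizer_nclIn K S))).resolve_right
      fun e => CB.syl_not_le hK.2 hS ((le_nclIn K S).trans e)
    rw [← a2, nclIn_le_iff]
    intro g hg
    have a3 := hS.conj_of_mem_norm (le_norm_self K hg)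
    have a4 := k1 _ a3.pgrp ((a1.trans (cent_anti a3.le)).trans (cent_le_norm _))
    refine le_trans (H1.bar_unbar (S ^ᵍ g)).ge (H1.bar_mono (le_inf (H1.unbar_le _) a4))
  · have a1 := hR.bar (Y := H) (N := pPrimeCoreOf p H) hp le_rfl
    rw [H1.bar_top] at a1
    exact (a1.pCoreOf_le hp).trans (H1.bar_mono (le_inf hR.le hRH))
  · rw [← H1.bar_top, pPrimeCoreOf_bar hp hY.1 le_rfl hYc, H1.bar_self]
    exact bot_le

theorem CB.core_le {H H' : Subgroup G} {p : ℕ} (hp : p.Prime)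
    [((pPrimeCoreOf p H).subgroupOf H).Normal]
    (h : H1.unbar H (pPrimeCoreOf p H) (fstarOf ⊤) ≤ H') (hY : pPrimeCoreOf p H' ≤ H) :
    pPrimeCoreOf p H' ≤ pPrimeCoreOf p H := by
  have hN := pPrimeCoreOf_normal p H
  obtain ⟨Z, hZ⟩ : ∃ Z, Z = H1.bar H (pPrimeCoreOf p H) (pPrimeCoreOf p H') := ⟨_, rfl⟩
  have h1 : fstarOf ⊤ ≤ 𝐍(Z) := by
    rw [hZ, ← H1.bar_unbar (fstarOf ⊤)]
    exact H1.bar_le_normalizer (h.trans (le_normalizer_pPrimeCoreOf p H'))
  have h2 : fstarOf ⊤ ⊓ Z = ⊥ := by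
    rw [eq_bot_iff, ← H1.bar_self, ← pPrimeCoreOf_bar hp hN.1 le_rfl
      (coprime_card_pPrimeCoreOf p H), H1.bar_top]
    refine ((SnIn.of_normal inf_le_left (H1.le_normalizer_inf (le_norm_self _) h1)).trans
      (snIn_fstarOf ⊤)).le_pPrimeCoreOf ?_
    refine (coprime_card_pPrimeCoreOf p H').coprime_dvd_left
      ((FT.card_dvd_of_le inf_le_right).trans ?_)
    rw [hZ]; exact H1.card_bar_dvd _
  have h3 : Z ≤ 𝐂(fstarOf ⊤) :=
    le_cent_of_norm_of_disj (le_top.trans (le_normalizer_fstarOf ⊤)) h1 h2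
  rw [← H1.bar_eq_bot_iff (Y := H) hY, ← hZ, eq_bot_iff, ← h2]
  exact le_inf ((le_inf le_top h3).trans (inf_centralizer_fstarOf_le ⊤)) le_rfl

theorem CB.layer_le {H H' : Subgroup G} (h1 : layerOf H ≤ H') (h2 : fstarOf H' ≤ H) :
    layerOf H ≤ layerOf H' := by
  conv_lhs => rw [layerOf_eq_sSup]
  refine sSup_le fun K hK => ?_
  have hK' := hK.le_layerOf.trans h1
  have hD : CompIn (H ⊓ H') K := hK.mono (le_inf hK.le hK') inf_le_left
  have hn : ∀ L, L ⊲ H' → L ≤ fstarOf H' → SnIn (H ⊓ H') L := fun L a b =>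
    SnIn.of_normal (le_inf (b.trans h2) a.1) (inf_le_right.trans a.2)
  refine (hD.le_or_le_centralizer (hn _ ⟨layerOf_le _, le_normalizer_layerOf _⟩
    (layerOf_le_fstarOf _))).resolve_right fun e => H2.QS.not_isSolvable hK.2 ?_
  have h3 := hD.le_centralizer_of_isSolvable (hn _ ⟨fittingOf_le _, le_normalizer_fittingOf _⟩
    (fittingOf_le_fstarOf _)) (isSolvable_of_isNilpotent inferInstance)
  have h4 : K ≤ 𝐂(fstarOf H') := by
    rw [fstarOf_eq, cent_comm]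
    exact sup_le (cent_comm.1 e) (cent_comm.1 h3)
  exact H1.isSolvable_of_le ((le_inf hK' h4).trans (inf_centralizer_fstarOf_le_fittingOf H'))
    (isSolvable_of_isNilpotent inferInstance)

theorem C.caseBStmt : C.CaseBStmt.{u} := by
  intro G _ _ _ Ω _ h hmax p hp p2 hnw hj R α β hne hRβ hR
  have h0 := h.toMin0
  obtain ⟨u, huN, hu, eu⟩ := h0.exists_swap_norm hp p2 hne
    (hR.of_le (le_inf hR.le hRβ) inf_le_left)
  have eu' : u • β = α := hu.smul_eq eu
  have hs : stabilizer G β = stabilizer G α ^ᵍ u := by rw [← stabilizer_smul', eu]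
  have hR' : IsSyl p R (stabilizer G β) := by
    have := hR.conj u
    rwa [conj_eq_of_mem_norm huN, ← hs] at this
  have huα : u • α ≠ α := eu ▸ hne.symm
  have hlt : ∀ δ : Ω, 𝐨(stabilizer G δ) + 1 ≤ Nat.card G := fun δ => by
    have := H1.card_lt_of_lt (lt_top_iff_ne_top.2 (h0.stab_ne_top δ))
    rwa [card_top] at this
  have h3 : ∀ δ : Ω, ¬ 3 ∣ 𝐨(stabilizer G δ) := fun δ e =>
    h0.three (e.trans (card_subgroup_dvd_card _))
  have inst : ∀ δ : Ω, ((pPrimeCoreOf p (stabilizer G δ)).subgroupOf (stabilizer G δ)).Normal :=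
    fun δ => H1.normal_subgroupOf_of_le (le_normalizer_pPrimeCoreOf p _)
  have key : ∀ δ ε : Ω, IsSyl p R (stabilizer G δ) → IsSyl p R (stabilizer G ε) →
      H1.unbar (stabilizer G δ) (pPrimeCoreOf p (stabilizer G δ)) (fstarOf ⊤) ≤ stabilizer G ε ∧
        pPrimeCoreOf p (stabilizer G δ) ≤ stabilizer G ε := fun δ ε a b => by
    have hT := b.inf_normal hp (Od_normal _)
    exact ⟨CB.fstar_le (h3 δ) (h0.kh.mono (hlt δ)) hp p2 hj (Od_normal _) (odd_Od _) hT.pgrp hT.le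
      (inf_le_left.trans a.le) (fun X => h0.le_stab_of_syl hp p2 hnw hT) a b.le,
      h0.le_stab_of_syl hp p2 hnw hT (coprime_card_pPrimeCoreOf p _)
        ((inf_le_left.trans a.le).trans (le_normalizer_pPrimeCoreOf p _))⟩
  have fin : ∀ X : Subgroup G, X ≤ stabilizer G α → stabilizer G α ≤ 𝐍(X) → X ≤ X ^ᵍ u →
      X = ⊥ := fun X a b c => by
    by_contra hc
    refine h0.norm_ne_top_of_le hc a (hmax α _ u b ?_ huα)
    rw [← conj_eq_self_iff]
    exact (H1.eq_of_le_of_card_le c (card_conj X u).le).symm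
  have hY : pPrimeCoreOf p (stabilizer G α) = ⊥ := by
    refine fin _ (pPrimeCoreOf_le p _) (le_normalizer_pPrimeCoreOf p _) ?_
    rw [← pPrimeCoreOf_conj _ _ hp, ← hs]
    exact CB.core_le hp (key β α hR' hR).1 (key α β hR hR').2
  have hY' : pPrimeCoreOf p (stabilizer G β) = ⊥ := by
    rw [hs, pPrimeCoreOf_conj _ _ hp, hY, conj_bot]
  have hF : ∀ δ ε : Ω, IsSyl p R (stabilizer G δ) → IsSyl p R (stabilizer G ε) →
      pPrimeCoreOf p (stabilizer G δ) = ⊥ → fstarOf (stabilizer G δ) ≤ stabilizer G ε := by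
    intro δ ε a b c
    refine le_trans ?_ (key δ ε a b).1
    rw [fstarOf_eq (stabilizer G δ), layerOf_eq_sSup]
    refine sup_le (sSup_le fun K hK => ?_) ?_
    · rw [← H1.bar_le_iff hK.le]
      refine CompIn.le_fstarOf ⟨?_, H2.QS.map _ ((H2.QS.subgroupOf_iff hK.le).2 hK.2) ?_⟩
      · exact snIn_top_iff.2 ((snIn_iff.1 hK.1).2.map (QuotientGroup.mk'_surjective _))
      · intro e
        have := (H1.bar_eq_bot_iff (N := pPrimeCoreOf p (stabilizer G δ)) hK.le).1 e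
        rw [c, le_bot_iff] at this
        exact H2.QS.ne_bot hK.2 this
    · rw [← H1.bar_le_iff (fittingOf_le _)]
      refine (bar_fittingOf_le le_rfl).trans ?_
      rw [H1.bar_top]
      exact fittingOf_le_fstarOf _
  have hE : layerOf (stabilizer G α) = ⊥ := by
    refine fin _ (layerOf_le _) (le_normalizer_layerOf _) ?_
    have := conj_smul_layerOf u (stabilizer G α)
    change layerOf _ ^ᵍ u = layerOf (_ ^ᵍ u) at this
    rw [this, ← hs]
    exact CB.layer_le ((layerOf_le_fstarOf _).trans (hF α β hR hR' hY)) (hF β α hR' hR hY')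
  have hT0 := h0.syl_ne_bot hp p2 hnw (hR.inf_normal hp (Od_normal _))
  have hR0 : R ≠ ⊥ := fun e => hT0 (by rw [e, bot_inf_eq])
  have p5 : 5 ≤ p := by
    have : p ≠ 3 := by
      rintro rfl
      exact hR0 ((hR.eq_bot_iff hp).2 (h3 α))
    have := hp.two_le
    have : p ≠ 4 := by rintro rfl; exact absurd hp (by decide)
    omega
  haveI := isNilpotent_of_isPGroup hp hR.pgrp
  have hfit : fittingOf (stabilizer G α) = pCoreOf p (stabilizer G α) :=
    le_antisymm ((fittingOf_le_sup hp _).trans (by rw [hY, sup_bot_eq])) (pCoreOf_le_fittingOf hp _)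
  refine zl_ne_bot hR0 (fin _ ((zl_le R).trans hR.le) (St.le_norm_zl hp p5
    (St.I3.of_not_dvd h0.three) ?_ hR) (conj_eq_of_mem_norm (normalizer_le_normalizer_zl R huN)).ge)
  rw [← hfit]
  exact inf_centralizer_fittingOf_le_of_layerOf_eq_bot hE

end Cfsg.Agent.P14
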