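/-
P14, chapter C: the setup `CHyp ⇒ Min0`.
-/
import Cfsg.Agent.P14.C2
import Cfsg.Agent.P6.Sol
import Cfsg.Agent.P4.Basic

set_option autoImplicit false
set_option linter.unusedSectionVars false

namespace Cfsg.Agent.P14.C

open Subgroup Cfsg Cfsg.Agent Cfsg.Agent.FT MulAction Cfsg.Agent.P6

universe u

variable {G : Type u} [Group G] [Finite G] {A W : Subgroup G}

/-- The conjugates of the non-identity elements of `A`. -/
def clA (A : Subgroup G) : Set G := {b | ∃ a ∈ A, a ≠ 1 ∧ ∃ g : G, g * a * g⁻¹ = b}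

theorem clA_conj {b : G} (hb : b ∈ clA A) (g : G) : g * b * g⁻¹ ∈ clA A := by
  obtain ⟨a, ha, a1, k, rfl⟩ := hb
  exact ⟨a, ha, a1, g * k, by group⟩

theorem mem_clA {a : G} (ha : a ∈ A) (a1 : a ≠ 1) : a ∈ clA A := ⟨a, ha, a1, 1, by simp⟩

namespace CS

variable (h : CHyp A W)
include h

theorem sq {a : G} (ha : a ∈ A) : a * a = 1 := by rw [← pow_two]; exact h.el.2 a ha

theorem cm : A ≤ 𝐂(A) := isMulComm_iff_le_cent.1 h.el.1

theorem inv {b : G} (hb : b ∈ clA A) : Inv b := by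
  obtain ⟨a, ha, a1, k, rfl⟩ := hb
  exact ⟨P4.conj_ne_one a1 k, P4.conj_sq (sq h ha) k⟩

theorem mem_of {P : Subgroup G} (hP : IsPGroup 2 P) (hA : A ≤ P) {b : G} (hb : b ∈ clA A)
    (hbP : b ∈ P) : b ∈ A := by
  obtain ⟨a, ha, -, k, rfl⟩ := hb
  exact h.sc P le_top hP hA a ha k trivial hbP

theorem key {K P : Subgroup G} (hA : A ≤ K) (hP : IsPGroup 2 P) (hK : P ≤ K) :
    ∃ k ∈ K, ∀ b ∈ clA A, b ∈ P → k * b * k⁻¹ ∈ A := by
  obtain ⟨S, hS, h1⟩ := exists_isSyl_ge Nat.prime_two (elemAb_isPGroup h.el) hA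
  obtain ⟨k, hk, h2⟩ := hS.exists_conj_le Nat.prime_two hP hK
  exact ⟨k, hk, fun b hb hbP => mem_of h hS.pgrp h1 (clA_conj hb k) (h2 (conj_mem_conj hbP k))⟩

theorem two {a b : G} {P : Subgroup G} (hP : IsPGroup 2 P) (ha : a ∈ clA A) (hb : b ∈ clA A)
    (haP : a ∈ P) (hbP : b ∈ P) : a * b = b * a := by
  obtain ⟨k, -, h1⟩ := key h le_top hP le_top
  have := mem_cent.1 (cm h (h1 b hb hbP)) _ (h1 a ha haP)
  rw [conj_mul, conj_mul] at this
  simpa using this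

theorem two_sup {a : G} (ha : a * a = 1) {P : Subgroup G} (hP : IsPGroup 2 P) (hc : a ∈ 𝐂(P)) :
    IsPGroup 2 (zpowers a ⊔ P : Subgroup G) :=
  isPGroup_sup (P4.isPGroup_zpowers_of_sq ha) hP ((zpowers_le_of_mem hc).trans (cent_le_norm P))

theorem mul {a b : G} (ha : a ∈ clA A) (hb : b ∈ clA A) (ne : a ≠ b) (hc : a * b = b * a) :
    a * b ∈ clA A := by
  obtain ⟨k, -, h1⟩ := key h le_top (two_sup h (inv h ha).sq (P4.isPGroup_zpowers_of_sq
    (inv h hb).sq) (cent_zpowers b ▸ mem_cent1.2 hc.symm)) le_top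
  have h2 := mul_mem (h1 a ha (mem_sup_left (mem_zpowers a))) (h1 b hb (mem_sup_right (mem_zpowers b)))
  rw [conj_mul] at h2
  refine ⟨_, h2, P4.conj_ne_one (fun e => ne ?_) k, k⁻¹, by group⟩
  exact mul_right_cancel (e.trans (inv h hb).sq.symm)

theorem le : A ≤ W ⊔ 𝐍(A) := (le_norm_self A).trans le_sup_right

theorem ti {a x : G} (ha : a ∈ A) (a1 : a ≠ 1) (hx : x * a * x⁻¹ ∈ A) : x ∈ W ⊔ 𝐍(A) := by
  have h1 := h.cent _ hx (P4.conj_ne_one a1 x)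
  obtain ⟨c, hc, h2⟩ := key h (K := 𝐂[x * a * x⁻¹]) (P := A ^ᵍ x)
    (mem_cent_iff_cent1.1 (cm h hx)) ((elemAb_isPGroup h.el).map _)
    (by rw [cent1_conj]; exact conj_mono (mem_cent_iff_cent1.1 (cm h ha)) x)
  refine (mul_mem_cancel_left (h1 hc)).1 (mem_sup_right (mem_norm_of_conj_le ?_))
  intro y hy
  obtain ⟨b, hb, rfl⟩ := mem_conj'.1 hy
  by_cases b1 : b = 1
  · simp [b1]
  have := h2 _ (clA_conj (mem_clA hb b1) x) (conj_mem_conj hb x)
  rwa [show c * (x * b * x⁻¹) * c⁻¹ = c * x * b * (c * x)⁻¹ by group] at this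

theorem fix {b g : G} (hb : b ∈ clA A) (hg : b • (g : G ⧸ (W ⊔ 𝐍(A))) = g) :
    ∃ k ∈ W ⊔ 𝐍(A), k * g⁻¹ * b * (k * g⁻¹)⁻¹ ∈ A := by
  have h1 := clA_conj hb g⁻¹
  obtain ⟨k, hk, h2⟩ := key h (le h) (P4.isPGroup_zpowers_of_sq (inv h h1).sq)
    (zpowers_le_of_mem (by simpa using smul_mk_eq_iff.1 hg))
  exact ⟨k, hk, by convert h2 _ h1 (mem_zpowers _) using 1; group⟩

/-- The class of `A^#`. -/
@[reducible] def icl : ICl G := ⟨clA A, inv h, clA_conj, mul h, two h⟩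

end CS

theorem exists_min0 (hs : IsSimpleGroup G) (h3 : ¬ 3 ∣ Nat.card G) (hk : KH.{u} (Nat.card G))
    (h : CHyp A W) : ∃ _ : ICl G, Min0 G (G ⧸ (W ⊔ 𝐍(A))) := by
  letI := CS.icl h
  refine ⟨inferInstance, ⟨fun {a} ha α β => ?_, fun {a} ha => ?_⟩, hs, h3, hk, ?_, fun α => ?_⟩
  · induction α using QuotientGroup.induction_on with | H g => ?_
    induction β using QuotientGroup.induction_on with | H g' => ?_
    intro e e'
    obtain ⟨k, hk, h1⟩ := CS.fix h ha.mem e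
    obtain ⟨k', hk', h2⟩ := CS.fix h ha.mem e'
    have h4 := CS.ti h h2 (P4.conj_ne_one ha.ne _) (x := k * g⁻¹ * (k' * g'⁻¹)⁻¹)
      (by convert h1 using 1; group)
    rw [mul_inv_rev, inv_inv, mul_assoc k, mul_mem_cancel_left hk, ← mul_assoc,
      mul_mem_cancel_right (inv_mem hk')] at h4
    exact QuotientGroup.eq.2 h4
  · obtain ⟨b, hb, -, g, rfl⟩ := ha.mem
    exact ⟨(g : G ⧸ (W ⊔ 𝐍(A))), smul_mk_eq_iff.2 (by simpa [mul_assoc] using CS.le h hb)⟩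
  · obtain ⟨g, hg⟩ := not_forall.1 fun e => h.ne ((eq_top_iff' _).2 e)
    exact ⟨⟨((1 : G) : G ⧸ (W ⊔ 𝐍(A))), g, fun e => hg (by simpa using QuotientGroup.eq.1 e)⟩⟩
  · induction α using QuotientGroup.induction_on with | H g => ?_
    rw [stab_mk]
    refine ⟨_, Pt.conj (A := A) ⟨h.el, h.eight, fun a ha a1 => ⟨⟨a1, CS.sq h ha⟩, mem_clA ha a1⟩,
      fun a ha hc => CS.mem_of h (CS.two_sup h ha.sq (elemAb_isPGroup h.el) hc) le_sup_right
        ha.mem (mem_sup_left (mem_zpowers a)), CS.le h, sup_le_sup (le_Od ⟨le_sup_left,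
          sup_le (le_norm_self W) h.nrm⟩ h.odd) (le_inf le_sup_right le_rfl)⟩ g⟩

end Cfsg.Agent.P14.C
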