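/-
P14, chapter C, piece BT: groups with trivial odd core.
-/
import Cfsg.Agent.P14.C0
import Cfsg.Agent.P14.B2
import Cfsg.Agent.P6.End4

set_option autoImplicit false
set_option linter.unusedSectionVars false

namespace Cfsg.Agent.P14.C

open Subgroup Cfsg Cfsg.Agent Cfsg.Agent.FT MulAction Cfsg.Agent.P6
open Cfsg.Agent.H2 (CompIn)
open scoped commutatorElement

universe u v

variable {G : Type u} [Group G] [Finite G] [ICl G] {Ω : Type v} [MulAction G Ω]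

omit [ICl G] in
/-- The centre of a perfect group meets a Sylow subgroup inside its derived group. -/
theorem ct_cent_le_der {K T : Subgroup G} (hK : ⁅K, K⁆ = K) (hT : IsSyl 2 T K) :
    T ⊓ 𝐂(K) ≤ ⁅T, T⁆ := fun z hz => by
  have h1 : ⁅(⊤ : Subgroup K), (⊤ : Subgroup K)⁆ = ⊤ := map_injective K.subtype_injective (by
    rw [map_commutator, ← MonoidHom.range_eq_map, range_subtype, hK])
  have h2 := pow_index_mem_der h1 (H := T.subgroupOf K) (y := ⟨z, hT.le hz.1⟩) hz.1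
    fun k g _ => ⟨1, one_mem _, Subtype.ext (by
      push_cast
      rw [pow_mem hz.2 k g g.2]; group)⟩
  have h3 := mem_map_of_mem K.subtype h2
  rw [map_commutator, map_subgroupOf_eq_of_le hT.le] at h3
  obtain ⟨k, hk⟩ := pow_two_pow hT.pgrp hz.1
  refine zpowers_le.2 h3 (mem_zpowers_pow_iff (k := T.relIndex K).2 ?_)
  exact (((Nat.coprime_two_left.2 (Nat.not_even_iff_odd.1 fun e => hT.ndvd e.two_dvd)).pow_left
    k).coprime_dvd_left (orderOf_dvd_of_pow_eq_one hk)).symm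

/-- The members of the class in a 2-subgroup, together with `1`. -/
def ctB {T : Subgroup G} (hT : IsPGroup 2 T) : Subgroup G where
  carrier := {x | x ∈ T ∧ (x = 1 ∨ In x)}
  one_mem' := ⟨one_mem T, Or.inl rfl⟩
  mul_mem' := fun {a b} ha hb => ⟨mul_mem ha.1 hb.1, by
    rcases ha.2 with rfl | h1
    · simpa using hb.2
    rcases hb.2 with rfl | h2
    · exact Or.inr (by simpa using h1)
    by_cases e : a = b
    · exact Or.inl (e ▸ h1.sq)
    · exact Or.inr (h1.mul h2 e (h1.comm_of_two h2 hT ha.1 hb.1))⟩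
  inv_mem' := fun {a} ha => ⟨inv_mem ha.1, ha.2.imp (by simp) fun h : In a => h.inv_eq.symm ▸ h⟩

/-- The situation in `N / O(N)`. -/
structure Co (G : Type u) (Ω : Type v) [Group G] [Finite G] [ICl G] [MulAction G Ω] : Prop
    extends SE G Ω where
  od : Od (⊤ : Subgroup G) = ⊥
  two : (Fx Ω (⊤ : Subgroup G)).Nontrivial
  sz : ∀ K T : Subgroup G, CompIn ⊤ K → IsSyl 2 T K → ∃ Zh n r, SzT K T Zh n r

namespace Co

variable (h : Co G Ω)
include h

theorem conj {a b : G} (ha : In a) (hb : In b) : ∃ g, g * a * g⁻¹ = b :=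
  (h.toSE.exists_conj h.two ha hb (mem_top _) (mem_top _)).imp fun _ e => e.2

theorem other (δ : Ω) : ∃ b : G, In b ∧ b • δ ≠ δ := by
  obtain ⟨α, ⟨a, -, ha, ea⟩, β, ⟨b, -, hb, eb⟩, hne⟩ := h.two
  by_contra hc
  push Not at hc
  exact hne ((h.uniq ha ea (hc a ha)).trans (h.uniq hb eb (hc b hb)).symm)

theorem not_mem_core {a : G} (ha : In a) : a ∉ pCoreOf 2 (⊤ : Subgroup G) := fun hm => by
  obtain ⟨δ, e⟩ := h.ex ha
  obtain ⟨b, hb, e'⟩ := h.other δ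
  obtain ⟨g, rfl⟩ := h.conj ha hb
  exact e' (h.toSE.fix_of_commute ha e (ha.comm_of_two hb (H2.isPGroup_pCoreOf 2 ⊤) hm
    (cjm ((pCoreOf_normal 2 ⊤).2 (mem_top g)) hm)))

theorem mem_cent_core {a : G} (ha : In a) : a ∈ 𝐂(pCoreOf 2 (⊤ : Subgroup G)) := fun x hx => by
  obtain ⟨S, hS, hA⟩ := exists_isSyl_ge (M := ⊤) Nat.prime_two ha.isPGroup le_top
  have aS := hA (mem_zpowers a)
  have xS := hS.pCoreOf_le Nat.prime_two hx
  by_contra hn
  refine h.not_mem_core (ha.mul (ha.conj x) (fun e => hn (eq_mul_inv_iff_mul_eq.1 e).symm)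
    (ha.comm_of_two (ha.conj x) hS.pgrp aS (cjm (le_normalizer xS) aS))) ?_
  have := cmr ((pCoreOf_normal 2 ⊤).2 (mem_top a)) hx
  rwa [commutatorElement_def, ha.inv_eq, mul_assoc, mul_assoc, ← mul_assoc x] at this

theorem fit : fittingOf (⊤ : Subgroup G) = pCoreOf 2 ⊤ := fittingOf_eq_pCoreOf Nat.prime_two h.od

theorem ex_comp {a : G} (ha : In a) : ∃ K, CompIn ⊤ K ∧ a ∉ 𝐂(K) := by
  by_contra hc
  push Not at hc
  refine h.not_mem_core ha ?_
  have h1 := h.mem_cent_core ha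
  rw [← h.fit] at h1 ⊢
  refine H2.inf_centralizer_fstarOf_le_fittingOf ⊤ ⟨mem_top _, ?_⟩
  rw [H2.fstarOf_eq, cent_sup, H2.layerOf_eq_sSup]
  exact ⟨mem_cent_iff_cent1.2 (sSup_le fun K hK => mem_cent_iff_cent1.1 (hc K hK)), h1⟩

theorem mem_norm {a : G} (ha : In a) {K : Subgroup G} (hK : CompIn ⊤ K) : a ∈ 𝐍(K) := by
  by_contra hn
  obtain ⟨S, hS, hA⟩ := exists_isSyl_ge (M := ⊤) Nat.prime_two ha.isPGroup le_top
  have aS := hA (mem_zpowers a)
  obtain ⟨Zh, n, r, z⟩ := h.sz K _ hK (syl_comp hS hK)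
  refine z.not_le fun s hs => (z.zh s).2 ⟨hs, ?_⟩
  have a1 : a * s⁻¹ * a⁻¹ ∈ 𝐂(K) := by
    by_contra e
    exact hn (comp_norm hK (mem_top a) (inv_mem hs.2) e)
  have a2 : (s * (a * s⁻¹ * a⁻¹)) ^ 2 = 1 := by
    have := (ha.conj s).comm_of_two ha hS.pgrp (cjm (le_normalizer hs.1) aS) aS
    rw [ha.inv_eq, show s * (a * s⁻¹ * a) = s * a * s⁻¹ * a by group, Commute.mul_pow this,
      pow_two, pow_two, (ha.conj s).sq, ha.sq, one_mul]
  rw [Commute.mul_pow (a1 s hs.2), mul_eq_one_iff_eq_inv] at a2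
  rw [← pow_two, a2]
  exact inv_mem (pow_mem a1 2)

theorem not_mem_cent {a : G} (ha : In a) {K : Subgroup G} (hK : CompIn ⊤ K) (h1 : a ∈ K) :
    a ∉ 𝐂(K) := fun e => h.not_mem_core ha (h.fit ▸ hK.inf_centralizer_le_fittingOf ⟨h1, e⟩)

theorem ex_mem : ∃ K, CompIn (⊤ : Subgroup G) K ∧ ∃ b ∈ K, In b := by
  obtain ⟨α, -⟩ := h.two.nonempty
  obtain ⟨a, ha, -⟩ := h.other α
  obtain ⟨K, hK, hc⟩ := h.ex_comp ha
  obtain ⟨S, hS, hA⟩ := exists_isSyl_ge (M := ⊤) Nat.prime_two ha.isPGroup le_top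
  have aS := hA (mem_zpowers a)
  obtain ⟨Zh, n, r, z⟩ := h.sz K _ hK (syl_comp hS hK)
  have nK := h.mem_norm ha hK
  obtain ⟨s, hs, c, hc', e⟩ := z.dec2 ha.sq nK
    (H1.le_normalizer_inf (hA.trans (le_norm_self S)) (zpowers_le.2 nK) (mem_zpowers a))
  have s1 : s ∉ 𝐂(K) := fun e' => hc (e ▸ mul_mem e' hc')
  obtain ⟨y, hy, y1, y2⟩ : ∃ y ∈ Zh, y ∉ 𝐂(K) ∧ s⁻¹ * y ∉ 𝐂(K) := by
    by_contra hn
    push Not at hn
    have : ¬ 𝐂(K).relIndex Zh ∣ 2 := fun e => by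
      have := Nat.le_of_dvd two_pos e
      have := Nat.pow_le_pow_right two_pos z.three
      have := z.cardZ
      omega
    refine this (relIndex_dvd_two_iff.2 ⟨s⁻¹, inv_mem hs, fun y hy => ?_⟩)
    by_cases e' : y ∈ 𝐂(K)
    · exact Or.inr e'
    have := cjm (norm_cent (le_normalizer (z.zle hs).2)) (hn y hy e')
    rw [mul_inv_cancel_left] at this
    exact Or.inl this
  obtain ⟨d, hd, -, e'⟩ := z.trZ s hs s1 y hy y1
  have e1 : d * a * d⁻¹ = d * s * d⁻¹ * c := by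
    rw [← e, ← mul_assoc, mul_assoc (d * s), ← hc' _ (inv_mem hd.1), mul_assoc (d * s)]
  have e2 : d * a * d⁻¹ ∈ S := by
    rw [e1, eq_inv_mul_of_mul_eq e]
    exact mul_mem (cjm hd.2 (z.zle hs)).1 (mul_mem (inv_mem (z.zle hs).1) aS)
  refine ⟨K, hK, _, ?_, ha.mul (ha.conj d) (fun e3 => y2 ?_)
    (ha.comm_of_two (ha.conj d) hS.pgrp aS e2)⟩
  · have := cmr nK hd.1
    rwa [commutatorElement_def, ha.inv_eq, mul_assoc, mul_assoc, ← mul_assoc d] at this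
  · rw [e1] at e3
    rwa [← mul_right_cancel (e.trans e3)] at e'

theorem normal {K : Subgroup G} (hK : CompIn ⊤ K) {b : G} (hb : In b) (h1 : b ∈ K) (g : G) :
    g ∈ 𝐍(K) := by
  have key : ∀ {J J' : Subgroup G} {a c : G} {δ : Ω}, CompIn ⊤ J → CompIn ⊤ J' → In a → a ∈ J →
      c ∈ J' → a • δ = δ → c • δ ≠ δ → J' = J := fun hJ hJ' ha aJ cJ e e' => by
    by_contra hn
    exact e' (h.toSE.fix_of_commute ha e (hJ'.le_centralizer_of_ne hJ hn cJ _ aJ))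
  obtain ⟨δ, e⟩ := h.ex hb
  have c1 := comp_conj hK (mem_top g)
  refine conj_eq_self_iff.1 ?_
  by_cases e' : (g * b * g⁻¹) • δ = δ
  · obtain ⟨c, hc, e2⟩ := h.other δ
    obtain ⟨x, rfl⟩ := h.conj hb hc
    have c2 := comp_conj hK (mem_top x)
    exact (key c1 c2 (hb.conj g) (conj_mem_conj h1 g) (conj_mem_conj h1 x) e' e2).symm.trans
      (key hK c2 hb h1 (conj_mem_conj h1 x) e e2)
  · exact key hK c1 hb h1 (conj_mem_conj h1 g) e e'

theorem ex_normal : ∃ K, CompIn (⊤ : Subgroup G) K ∧ ⊤ ≤ 𝐍(K) ∧ ∀ a, In a → a ∈ K := by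
  obtain ⟨K, hK, b, h1, hb⟩ := h.ex_mem
  refine ⟨K, hK, fun g _ => h.normal hK hb h1 g, fun a ha => ?_⟩
  obtain ⟨g, rfl⟩ := h.conj hb ha
  exact cjm (h.normal hK hb h1 g) h1

/-- The component has trivial centre. -/
theorem cent_eq_bot {K T Zh : Subgroup G} {n r : ℕ} (hK : CompIn ⊤ K) (z : SzT K T Zh n r) {b : G}
    (hb : In b) (h1 : b ∈ T) : K ⊓ 𝐂(K) = ⊥ ∧ ∀ y ∈ Zh, y = 1 ∨ In y := by
  have BT : ctB z.syl.pgrp ≤ T := fun x hx => hx.1
  have b0 : ∀ x ∈ ctB z.syl.pgrp, x ∈ 𝐂(K) → x = 1 := fun x hx e =>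
    hx.2.resolve_right fun hi => h.not_mem_cent hi hK (z.le hx.1) e
  have b1 : ctB z.syl.pgrp ≤ Zh := fun x hx => (z.zh x).2 ⟨hx.1, by
    rcases hx.2 with rfl | hi
    · simp
    · rw [hi.sq]; exact one_mem _⟩
  have b2 : 𝐍(T) ≤ 𝐍(ctB z.syl.pgrp) := fun d hd => mem_norm_of_conj_le fun x hx => by
    obtain ⟨y, hy, rfl⟩ := mem_conj'.1 hx
    exact ⟨cjm hd hy.1, hy.2.imp (fun e => by simp [e]) fun hi => hi.conj d⟩
  have b3 : Zh ≤ ctB z.syl.pgrp ⊔ K ⊓ 𝐂(K) := fun y hy => by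
    by_cases e : y ∈ 𝐂(K)
    · exact mem_sup_right ⟨z.le (z.zle hy), e⟩
    have hB : b ∈ ctB z.syl.pgrp := ⟨h1, Or.inr hb⟩
    obtain ⟨d, hd, -, e'⟩ := z.trZ b (b1 hB) (h.not_mem_cent hb hK (z.le h1)) y hy e
    rw [← mul_inv_cancel_left (d * b * d⁻¹) y]
    exact mul_mem (mem_sup_left (cjm (b2 hd.2) hB)) (mem_sup_right
      ⟨z.le (mul_mem (inv_mem (cjm hd.2 h1)) (z.zle hy)), e'⟩)
  have b4 : ctB z.syl.pgrp ≤ 𝐂(T) := fun x hx t ht =>
    commutatorElement_eq_one_iff_mul_comm.1 (b0 _ (cmr (b2 (le_normalizer ht)) hx)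
      (z.cen (commutator_mem_commutator ht (b1 hx))))
  have b5 : ∀ x ∈ ctB z.syl.pgrp, x = 1 ∨ In x := fun x hx => hx.2
  generalize ctB z.syl.pgrp = B at BT b0 b1 b2 b3 b4 b5
  suffices e : K ⊓ 𝐂(K) = ⊥ from ⟨e, fun y hy => b5 y (by simpa [e] using b3 hy)⟩
  have v9 : Zh ≤ 𝐂(T) := b3.trans (sup_le b4 (inf_le_right.trans (cent_anti z.le)))
  suffices w1 : ⁅T, T⁆ ≤ B from eq_bot_iff.2 fun x hx => b0 x
    (w1 (ct_cent_le_der (H2.isQuasisimple_subgroup_iff.1 z.qs).1 z.syl ⟨z.zle (z.cle hx), hx.2⟩))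
    hx.2
  by_contra e
  obtain ⟨J, j1, j2, j3⟩ := exists_two (z.syl.pgrp.to_le (sup_le z.der_le_zh b1 |>.trans z.zle))
    (right_lt_sup.2 e)
  have j4 : J ≤ Zh := j2.trans (sup_le z.der_le_zh b1)
  have j5 : T ≤ 𝐍(J) := (cent_comm.1 (j4.trans v9)).trans (cent_le_norm J)
  have j7 : K ⊓ 𝐍(T) ≤ 𝐍(J) := by
    refine comm_le_left_iff.1 (le_trans ?_ j1)
    rw [commutator_comm]
    refine (commutator_mono le_rfl (j4.trans b3)).trans (H1.commutator_sup_le (le_norm_self B)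
      ((inf_le_right.trans (cent_anti (BT.trans z.le))).trans (cent_le_norm B))
      (comm_le_right_iff.2 (inf_le_right.trans b2)) ?_)
    exact (comm_eq_bot_iff.2 (inf_le_left.trans (cent_comm.1 inf_le_right))).le.trans bot_le
  obtain ⟨m, hm⟩ := even_codim z.syl.pgrp j5
    (j3 ▸ relIndex_le_of_le_right le_sup_left (H2.relIndex_pos _ _).ne')
  have j8 : Zh ≤ H1.commStab T J := H1.le_commStab_iff.2 ⟨z.zle.trans j5,
    (comm_eq_bot_iff.2 (cent_comm.1 v9)).le.trans bot_le⟩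
  rcases z.eq_or j8 (fun g hg => mem_norm_of_conj_le fun x hx => by
    obtain ⟨y, hy, rfl⟩ := mem_conj'.1 hx
    refine ⟨mul_mem (mul_mem (j7 hg) hy.1) (inv_mem (j7 hg)), fun u hu => ?_⟩
    have := cjm (j7 hg) (hy.2 _ (cjm (inv_mem hg.2) hu))
    convert this using 1
    simp only [commutatorElement_def]; group) with e' | e'
  · rw [← inf_relIndex_left, le_antisymm e' (le_inf z.zle j8), z.cardT] at hm
    have := Nat.pow_right_injective le_rfl hm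
    have := z.odd
    rw [Nat.odd_iff] at this
    omega
  · rw [relIndex_eq_one.2 (sup_le (H1.le_commStab_iff.1 e').2 j1)] at j3
    omega

end Co

end Cfsg.Agent.P14.C
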