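/-
P14, chapter C, piece BT: passage to `N / O(N)`.
-/
import Cfsg.Agent.P14.CT2
import Cfsg.Agent.P14.B4
import Cfsg.Agent.P14.Z

set_option autoImplicit false
set_option linter.unusedSectionVars false

namespace Cfsg.Agent.P14.C

open Subgroup Cfsg Cfsg.Agent Cfsg.Agent.FT MulAction Cfsg.Agent.P6
open Cfsg.Agent.H1 (qmk unbar)
open Cfsg.Agent.H7.SC (od br od_le od_inf)
open scoped commutatorElement

universe u v

variable {G : Type u} [Group G] [Finite G] [ICl G] {Ω : Type v} [MulAction G Ω] {N : Subgroup G}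

/-- `N / O(N)`. -/
abbrev CtQ (N : Subgroup G) : Type u := N ⧸ (od N).subgroupOf N

omit [ICl G] in
theorem ct_inv {a : N} (ha : Inv (a : G)) : Inv (qmk N (od N) a) :=
  ⟨fun e => ha.not_mem_of_odd (odd_Od N) (H1.qmk_eq_one_iff.1 e), by
    rw [← map_mul, (inv_coe.1 ha).sq, map_one]⟩

omit [ICl G] in
theorem ct_syl {P : Subgroup (CtQ N)} (hP : IsPGroup 2 P) {T : Subgroup G}
    (hT : IsSyl 2 T (unbar N (od N) P)) : br N T = P ∧ unbar N (od N) P = T ⊔ od N := by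
  have := bar_eq_of_hall_unbar ((isPi_singleton_iff Nat.prime_two).2 hP)
    ((isSyl_iff_hall Nat.prime_two).1 hT)
  exact ⟨this, this ▸ H1.unbar_bar (od_le N) (hT.le.trans (H1.unbar_le P))⟩

/-- The image of the class in `N / O(N)`. -/
@[reducible] def ctCl (N : Subgroup G) : ICl (CtQ N) where
  carrier := {z | ∃ a : N, In (a : G) ∧ qmk N (od N) a = z}
  inv := fun ⟨_, ha, e⟩ => e ▸ ct_inv ha.toInv
  conj := fun ⟨a, ha, e⟩ g => by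
    obtain ⟨g, rfl⟩ := H1.qmk_surjective g
    exact ⟨g * a * g⁻¹, ha.conj g, by rw [← e, map_mul, map_mul, map_inv]⟩
  mul := by
    rintro _ _ ⟨a, ha, rfl⟩ ⟨b, hb, rfl⟩ hne hc
    have h1 := (ct_inv ha.toInv).mul (ct_inv hb.toInv) hne hc
    rw [← map_mul] at h1 ⊢
    obtain ⟨c, h2, h3, -⟩ := ha.exists_central hb fun ho => by
      have h4 : Odd (orderOf (a * b)) := by rwa [← orderOf_coe]
      have := h4.of_dvd_nat (orderOf_map_dvd (qmk N (od N)) _)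
      rw [h1.orderOf_eq] at this
      exact absurd this (by decide)
    have h4 : c ∈ N := zpowers_le.2 (a * b).2 h2
    have h5 := H1.qmk_mem_bar (N := od N) (y := ⟨c, h4⟩) (H := zpowers ((a * b : N) : G)) h2
    rw [H1.bar_zpowers, h1.mem_zpowers_iff] at h5
    exact ⟨⟨c, h4⟩, h3, h5.resolve_left (ct_inv h3.toInv).ne⟩
  two := by
    rintro _ _ P hP ⟨a, ha, rfl⟩ ⟨b, hb, rfl⟩ h1 h2
    obtain ⟨T, hT, h3⟩ := exists_isSyl_ge Nat.prime_two ha.isPGroup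
      (zpowers_le.2 (H1.coe_mem_unbar.2 h1))
    have h4 := hT.le.trans (H1.unbar_le P)
    obtain ⟨g, hg, h5⟩ := hT.exists_conj_le Nat.prime_two hb.isPGroup
      (zpowers_le.2 (H1.coe_mem_unbar.2 h2))
    rw [(ct_syl hP hT).2, sup_comm] at hg
    obtain ⟨t, ht, o, ho, rfl⟩ := (mem_sup_of_norm' (h4.trans (H7.SC.le_norm_od N))).1 hg
    have h6 := cjm (le_normalizer (inv_mem ht)) (h5 (conj_mem_conj (mem_zpowers _) _))
    have h7 := congrArg (qmk N (od N)) (Subtype.ext (a1 := a * (⟨o, od_le N ho⟩ * b * ⟨o, od_le N ho⟩⁻¹))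
      (a2 := ⟨o, od_le N ho⟩ * b * ⟨o, od_le N ho⟩⁻¹ * a)
      (ha.comm_of_two (hb.conj o) hT.pgrp (h3 (mem_zpowers _)) (by convert h6 using 1; group)))
    simpa only [map_mul, map_inv, (H1.qmk_eq_one_iff (y := ⟨o, od_le N ho⟩)).2 ho, one_mul, inv_one,
      mul_one] using h7

/-- The action of `N / O(N)` on `Fx Ω N`. -/
structure Cv (N : Subgroup G) [ICl (CtQ N)] {Ω' : Type v} [MulAction (CtQ N) Ω'] (ι : Ω' → Ω) :
    Prop where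
  cl : ∀ z : CtQ N, In z ↔ ∃ a : N, In (a : G) ∧ qmk N (od N) a = z
  inj : Function.Injective ι
  range : ∀ α, α ∈ Fx Ω N ↔ ∃ x, ι x = α
  smul : ∀ (g : N) (x : Ω'), ι (qmk N (od N) g • x) = (g : G) • ι x

namespace Cv

variable [ICl (CtQ N)] {Ω' : Type v} [MulAction (CtQ N) Ω'] {ι : Ω' → Ω} (c : Cv N ι)
include c

theorem smul_iff {g : N} {x y : Ω'} : qmk N (od N) g • x = y ↔ (g : G) • ι x = ι y := by
  rw [← c.smul, c.inj.eq_iff]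

theorem mem_Fx (x : Ω') : x ∈ Fx Ω' (⊤ : Subgroup (CtQ N)) := by
  obtain ⟨a, haN, ha, e⟩ := (c.range _).2 ⟨x, rfl⟩
  exact ⟨_, mem_top _, (c.cl _).2 ⟨⟨a, haN⟩, ha, rfl⟩, c.smul_iff.2 e⟩

theorem se (h : SE G Ω) : SE (CtQ N) Ω' where
  uniq hz x y ex ey := by
    obtain ⟨a, ha, rfl⟩ := (c.cl _).1 hz
    exact c.inj (h.uniq ha (c.smul_iff.1 ex) (c.smul_iff.1 ey))
  ex hz := by
    obtain ⟨a, ha, rfl⟩ := (c.cl _).1 hz
    obtain ⟨α, e⟩ := h.ex ha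
    obtain ⟨x, rfl⟩ := (c.range α).1 ⟨a, a.2, ha, e⟩
    exact ⟨x, c.smul_iff.2 e⟩

theorem btp {K P : Subgroup (CtQ N)} {n : ℕ} {x : Ω'} (h : BTp Ω' ⊤ K n x P) :
    ∃ T, BTp Ω N (unbar N (od N) K) n (ι x) T := by
  obtain ⟨T, hT⟩ := exists_isSyl Nat.prime_two (unbar N (od N) P)
  obtain ⟨e1, e2⟩ := ct_syl h.syl.pgrp hT
  have TN := hT.le.trans (H1.unbar_le P)
  have a1 : ∀ t (ht : t ∈ T), qmk N (od N) ⟨t, TN ht⟩ ∈ P := fun t ht => e1 ▸ H1.qmk_mem_bar ht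
  have a2 : ∀ t (ht : t ∈ T), qmk N (od N) ⟨t, TN ht⟩ = 1 → t = 1 := fun t ht e =>
    (od_inf hT.pgrp).le ⟨H1.qmk_eq_one_iff.1 e, ht⟩
  have a3 : ∀ t (ht : t ∈ T), t * t = 1 →
      qmk N (od N) ⟨t, TN ht⟩ * qmk N (od N) ⟨t, TN ht⟩ = 1 := fun t ht e => by
    rw [← map_mul, ← map_one (qmk N (od N))]
    exact congrArg _ (Subtype.ext e)
  refine ⟨T, hT.trans Nat.prime_two (H1.unbar_mono h.syl.le) ?_,
    fun t ht => c.smul_iff.1 (h.le (a1 t ht)), ?_, ?_, fun δ hδ d1 ε hε d2 => ?_,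
    fun t ht δ hδ d1 e => ?_, ?_, fun t ht e s hs => ?_⟩
  · have := h.syl.ndvd
    rwa [← H1.bar_unbar P, ← H1.bar_unbar K, H1.relIndex_bar (od_le N) (H1.unbar_le _)
      (H1.unbar_le _), sup_eq_left.2 (H1.le_unbar (od_le N) P),
      sup_eq_left.2 (H1.le_unbar (od_le N) K)] at this
  · rw [← h.card, ← e1, H1.card_bar TN, ← inf_relIndex_right, od_inf hT.pgrp, relIndex_bot_left]
  · rw [← e2]
    refine H1.le_normalizer_unbar inf_le_left ?_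
    rintro _ ⟨g, hg, rfl⟩
    have := h.norm ⟨mem_top _, c.smul_iff.2 hg.2⟩
    rwa [show Od (⊤ : Subgroup (CtQ N)) = ⊥ from H7.SC.od_br N, sup_bot_eq] at this
  · obtain ⟨y, rfl⟩ := (c.range _).1 hδ
    obtain ⟨z, rfl⟩ := (c.range _).1 hε
    obtain ⟨t, ht, e⟩ := h.tr y (c.mem_Fx y) (fun e => d1 (congrArg ι e)) z (c.mem_Fx z)
      fun e => d2 (congrArg ι e)
    obtain ⟨s, hs, rfl⟩ := e1.ge ht
    exact ⟨s, hs, c.smul_iff.1 e⟩
  · obtain ⟨y, rfl⟩ := (c.range _).1 hδ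
    exact a2 t ht (h.free _ (a1 t ht) y (c.mem_Fx y) (fun e => d1 (congrArg ι e)) (c.smul_iff.2 e))
  · rw [← h.cardI]
    refine Set.ncard_congr (fun t ht => qmk N (od N) ⟨t, TN ht.1⟩)
      (fun t ht => ⟨a1 t ht.1, a3 t ht.1 ht.2⟩) (fun s t hs ht e => ?_) fun z hz => ?_
    · refine inv_mul_eq_one.1 (a2 _ (mul_mem (inv_mem hs.1) ht.1) ?_)
      rw [← inv_mul_eq_one, ← map_inv, ← map_mul] at e
      exact e
    · obtain ⟨t, ht, rfl⟩ := e1.ge hz.1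
      exact ⟨t, ⟨ht, a2 _ (mul_mem ht ht) (by rw [← hz.2, ← map_mul]; rfl)⟩, rfl⟩
  · refine commutatorElement_eq_one_iff_mul_comm.1 (a2 _ (cmr (le_normalizer hs) ht) ?_)
    rw [← commutatorElement_eq_one_iff_mul_comm.2 (h.cen _ (a1 t ht) (a3 t ht e) _ (a1 s hs)),
      ← map_commutatorElement]
    rfl

theorem bt (h : BT Ω' (⊤ : Subgroup (CtQ N))) : BT Ω N := by
  obtain ⟨K, n, h⟩ := h
  refine ⟨unbar N (od N) K, n,
    ⟨H1.unbar_le K, H1.le_normalizer_unbar le_rfl (le_top.trans h.normal.2)⟩,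
    H1.le_unbar (od_le N) K, fun a aN ha => H1.mem_unbar.2
      ⟨aN, h.mem _ (mem_top _) ((c.cl _).2 ⟨⟨a, aN⟩, ha, rfl⟩)⟩, fun t ht hi => ?_, h.odd, h.three,
    ?_, fun g hg α hα β hβ γ hγ d1 d2 d3 e1 e2 e3 => ?_, fun γ hγ => ?_⟩
  · obtain ⟨tN, ht⟩ := H1.mem_unbar.1 ht
    obtain ⟨a, ha, e⟩ := (c.cl _).1 (h.inv _ ht (ct_inv hi))
    obtain ⟨y, -, rfl⟩ := exists_conj_of_odd ha.toInv hi (odd_orderOf_of_mem (odd_Od N)
      ((H1.qmk_eq_one_iff (y := a * ⟨t, tN⟩)).1 (by rw [map_mul, ← e, (ct_inv ha.toInv).sq])))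
    exact ha.conj y
  · rw [← h.card, ← Set.ncard_image_of_injective _ c.inj]
    congr 1
    ext α
    exact (c.range α).trans ⟨fun ⟨x, e⟩ => ⟨x, c.mem_Fx x, e⟩, fun ⟨x, _, e⟩ => ⟨x, e⟩⟩
  · obtain ⟨gN, hg⟩ := H1.mem_unbar.1 hg
    obtain ⟨x, rfl⟩ := (c.range _).1 hα
    obtain ⟨y, rfl⟩ := (c.range _).1 hβ
    obtain ⟨z, rfl⟩ := (c.range _).1 hγ
    exact H1.qmk_eq_one_iff.1 ((H7.SC.od_br N).le (h.fix3 _ hg x (c.mem_Fx x) y (c.mem_Fx y) z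
      (c.mem_Fx z) (fun e => d1 (congrArg ι e)) (fun e => d2 (congrArg ι e))
      (fun e => d3 (congrArg ι e)) (c.smul_iff.2 e1) (c.smul_iff.2 e2) (c.smul_iff.2 e3)))
  · obtain ⟨x, rfl⟩ := (c.range _).1 hγ
    obtain ⟨P, hP⟩ := h.pt x (c.mem_Fx x)
    exact c.btp hP

end Cv

/-- `Fx Ω N` as an `N`-set. -/
def ctSub (Ω : Type v) [MulAction G Ω] (N : Subgroup G) : SubMulAction N Ω where
  carrier := Fx Ω N
  smul_mem' g _ h := smul_mem_Fx' g.2 h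

theorem SE.bt (h : SE G Ω) (h3 : ¬ 3 ∣ 𝐨(N)) (kh : KH.{u} (𝐨(N) + 1)) (h1 : Rk2 N)
    (h2 : (Fx Ω N).Nontrivial) : BT Ω N := by
  have hker : (od N).subgroupOf N ≤ (toPermHom N (ctSub Ω N)).ker := fun x hx =>
    Equiv.ext fun δ => Subtype.ext (h.le_stab_of_rk2 h1 (odd_Od N) (Od_normal N).2 δ.2 hx)
  let _ : MulAction (CtQ N) (ctSub Ω N) :=
    MulAction.compHom _ (QuotientGroup.lift _ (toPermHom N (ctSub Ω N)) hker)
  let _ := ctCl N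
  have c : Cv N (fun x : ctSub Ω N => (x : Ω)) :=
    ⟨fun z => ⟨fun e => e.mem, fun e => In.of_mem e⟩, Subtype.val_injective,
      fun α => ⟨fun e => ⟨⟨α, e⟩, rfl⟩, fun ⟨x, e⟩ => e ▸ x.2⟩, fun _ _ => rfl⟩
  have a1 : 𝐨((⊤ : Subgroup (CtQ N))) ∣ 𝐨(N) :=
    H1.bar_top (Y := N) (N := od N) ▸ H1.card_bar_dvd N
  obtain ⟨α, hα, β, hβ, hne⟩ := h2
  exact c.bt (Co.bt ⟨c.se h, H7.SC.od_br N,
    ⟨⟨α, hα⟩, c.mem_Fx _, ⟨β, hβ⟩, c.mem_Fx _, fun e => hne (congrArg Subtype.val e)⟩,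
    sz_of zStmt (H7.SC.od_br N) (fun e => h3 (e.trans a1))
      (kh.mono (Nat.succ_le_succ (Nat.le_of_dvd Nat.card_pos a1)))⟩)

theorem btStmt : BTStmt.{u} := fun _ _ _ _ _ _ h N hN =>
  h.toSE.bt (fun e => h.three (e.trans (card_subgroup_dvd_card N)))
    (h.kh.mono ((H1.card_lt_of_lt (lt_top_iff_ne_top.2 hN)).trans_eq card_top))

end Cfsg.Agent.P14.C
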