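/-
P14, chapter E4: arithmetic.
-/
import Mathlib

set_option autoImplicit false

namespace Cfsg.Agent.P14.E4

theorem arith {ι : Type*} {s L : Finset ι} (hL : L ⊆ s) {d m : ι → ℕ} (d1 : ∀ i ∈ L, d i = 1)
    (h3 : 3 ≤ L.card) (hd : ∀ i ∈ s, d i ^ 2 < L.card)
    (H : ∀ e : ι → ℝ, ∑ i ∈ s, e i * d i = 0 → 2 * (∑ i ∈ s, e i * m i) ^ 2 ≤ ∑ i ∈ s, e i ^ 2)
    {j : ι} (hj : j ∈ L) {i : ι} (hi : i ∈ s) : m i = d i * m j := by
  classical
  have p : (0 : ℝ) < ∑ i ∈ s, (d i : ℝ) ^ 2 :=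
    Finset.sum_pos' (fun _ _ => sq_nonneg _) ⟨j, hL hj, by simp [d1 j hj]⟩
  obtain ⟨c, hc⟩ : ∃ c : ℝ, c * ∑ i ∈ s, (d i : ℝ) ^ 2 = ∑ i ∈ s, (m i : ℝ) * d i :=
    ⟨_, div_mul_cancel₀ _ p.ne'⟩
  have e0 : ∑ i ∈ s, ((m i : ℝ) - c * d i) * d i = 0 := by
    rw [Finset.mul_sum, ← sub_eq_zero, ← Finset.sum_sub_distrib] at hc
    rw [← neg_eq_zero, ← Finset.sum_neg_distrib, ← hc]
    exact Finset.sum_congr rfl fun _ _ => by ring
  have e1 := H _ e0
  have e2 : ∑ i ∈ s, ((m i : ℝ) - c * d i) * m i = ∑ i ∈ s, ((m i : ℝ) - c * d i) ^ 2 := by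
    rw [← add_zero (∑ i ∈ s, _ ^ 2), ← mul_zero c, ← e0, Finset.mul_sum, ← Finset.sum_add_distrib]
    exact Finset.sum_congr rfl fun _ _ => by ring
  rw [e2] at e1
  have sub : ∀ T ⊆ s, ∑ i ∈ T, ((m i : ℝ) - c * d i) ^ 2 ≤ 1 / 2 := fun T hT =>
    (Finset.sum_le_sum_of_subset_of_nonneg hT fun _ _ _ => sq_nonneg _).trans (by
      nlinarith [Finset.sum_nonneg (s := s) fun i _ => sq_nonneg ((m i : ℝ) - c * d i)])
  have lin : ∀ i ∈ L, m i = m j := fun i hi => by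
    by_contra n
    have ij : i ≠ j := fun e => n (e ▸ rfl)
    obtain ⟨k, hk, hk'⟩ := Finset.exists_mem_notMem_of_card_lt_card (s := {i, j}) (t := L)
      (by rw [Finset.card_pair ij]; omega)
    simp only [Finset.mem_insert, Finset.mem_singleton, not_or] at hk'
    have := sub {k, i, j} (by simp [Finset.insert_subset_iff, hL hk, hL hi, hL hj])
    rw [Finset.sum_insert (by simp [hk']), Finset.sum_pair ij, d1 k hk, d1 i hi, d1 j hj] at this
    have q : ((m i : ℤ) - m j) ^ 2 + ((m i : ℤ) - m k) ^ 2 + ((m j : ℤ) - m k) ^ 2 < 2 := by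
      have : ((m i : ℝ) - m j) ^ 2 + ((m i : ℝ) - m k) ^ 2 + ((m j : ℝ) - m k) ^ 2 < 2 := by
        push_cast at this
        nlinarith [sq_nonneg ((m i : ℝ) + m j + m k - 3 * c)]
      exact_mod_cast this
    have q1 : 0 < ((m i : ℤ) - m j) ^ 2 := sq_pos_of_ne_zero (by omega)
    have q2 : (m i : ℤ) - m k = 0 := by nlinarith [sq_nonneg ((m j : ℤ) - m k)]
    have q3 : (m j : ℤ) - m k = 0 := by nlinarith [sq_nonneg ((m i : ℤ) - m k)]
    omega
  by_cases hiL : i ∈ L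
  · rw [lin i hiL, d1 i hiL, one_mul]
  have := sub (insert i L) (Finset.insert_subset hi hL)
  rw [Finset.sum_insert hiL, Finset.sum_congr rfl fun k hk => by rw [lin k hk, d1 k hk],
    Finset.sum_const, nsmul_eq_mul, Nat.cast_one, mul_one] at this
  have q : ((d i : ℝ)) ^ 2 + 1 ≤ L.card := by exact_mod_cast hd i hi
  have q0 : ((m i : ℤ) - d i * m j) ^ 2 < 1 := by
    have : ((m i : ℝ) - d i * m j) ^ 2 < 1 := by
      have e : (m i : ℝ) - d i * m j = (m i - c * d i) - d i * (m j - c) := by ring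
      rw [e]
      generalize (m i : ℝ) - c * d i = X at this
      generalize (m j : ℝ) - c = Y at this
      by_cases y : Y = 0
      · subst y; nlinarith
      · have := sq_pos_of_ne_zero y
        nlinarith [sq_nonneg (X + d i * Y)]
    exact_mod_cast this
  have : (m i : ℤ) - d i * m j = 0 := by nlinarith
  exact_mod_cast sub_eq_zero.1 this

theorem num1 {k x x' α α' : ℕ} {a a' : ℤ} (hk : 7 ≤ k) (ko : Odd k) (ha : a + a' = 1)
    (hx : x + x' = (k + 1) ^ 2 + 1) (hs : a ^ 2 * x' + a' ^ 2 * x = x * x')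
    (h1 : ((k + 1) * α : ℤ) = x + k * a) (h2 : α + α' = k + 2) (d : (k : ℤ) ∣ x - 1)
    (α1 : α ≤ α') (x1 : x ≠ 1) : False := by
  have e : α = 1 := by
    obtain ⟨c, hc⟩ := d
    have : (α : ℤ) - 1 = k * (c + a - α) := by linear_combination h1 + hc
    have h3 : c + a - α = 0 := by
      by_contra n
      rcases lt_or_gt_of_ne n with n | n <;> nlinarith
    rw [h3] at this
    omega
  subst e
  have hx' : (x' : ℤ) = (k + 1) ^ 2 + 1 - x := by
    rw [eq_sub_iff_add_eq, add_comm]; exact_mod_cast hx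
  have e1 : (x : ℤ) = k + 1 - k * a := by linear_combination -h1
  rw [hx', show a' = 1 - a by omega, e1] at hs
  have e2 : ((k : ℤ) + 1) ^ 2 * ((a - 1) * (2 * a + k)) = 0 := by linear_combination hs
  rcases mul_eq_zero.1 ((mul_eq_zero.1 e2).resolve_left (by positivity)) with e | e
  · apply x1
    rw [show a = 1 by omega] at e1
    omega
  · obtain ⟨j, rfl⟩ := ko
    omega

theorem num2 {k x x' α α' γ γ' : ℕ} {a a' : ℤ} (hk : 7 ≤ k) (ha : a + a' = 1)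
    (hs : a ^ 2 * x' + a' ^ 2 * x = x * x') (h1 : ((k + 1) * α : ℤ) = γ + k * a)
    (h1' : ((k + 1) * α' : ℤ) = γ' + k * a') (h2 : α + α' = k + 2) (hx : (k + 1) ^ 2 * k ≤ x)
    (hx' : (k + 1) ^ 2 * k ≤ x') : False := by
  have b : ∀ {α γ : ℕ} {a : ℤ}, ((k + 1) * α : ℤ) = γ + k * a → α ≤ k + 2 → a ≤ k + 3 :=
    fun {α γ a} e h => by
      by_contra! n
      nlinarith
  have b1 := b h1 (by omega)
  have b2 := b h1' (by omega)
  have c1 : a ^ 2 ≤ (k + 3) ^ 2 := by nlinarith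
  have c2 : a' ^ 2 ≤ (k + 3) ^ 2 := by nlinarith
  have c3 : 2 * (k + 3 : ℤ) ^ 2 < (k + 1) ^ 2 * k := by nlinarith
  have c4 : ((k + 1) ^ 2 * k : ℤ) ≤ x := by exact_mod_cast hx
  have c5 : ((k + 1) ^ 2 * k : ℤ) ≤ x' := by exact_mod_cast hx'
  have p : (0 : ℤ) < (k + 3) ^ 2 := by positivity
  nlinarith

end Cfsg.Agent.P14.E4
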