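/-
P14, endgame E1: involutions in two point stabilizers centralize `A`.
-/
import Cfsg.Agent.P14.E2a
import Cfsg.Agent.P14.C0
import Cfsg.Agent.H7.SC5

set_option autoImplicit false
set_option linter.unusedSectionVars false

namespace Cfsg.Agent.P14

open Subgroup Cfsg Cfsg.Agent Cfsg.Agent.FT MulAction
open Cfsg.Agent.P6 (St2 Od)
open scoped commutatorElement

universe u

variable {G : Type u} [Group G] [Finite G]

theorem inv_cent {n : ℕ} (hn : Odd n) (n1 : 1 < n) {A E : Subgroup G}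
    (hA : IsElementaryAbelian 2 A) (cA : 𝐨(A) = 2 ^ n) (hE : Odd 𝐨(E)) (nA : E ≤ 𝐍(A))
    (hd : 2 ^ n - 1 ∣ 𝐂(A).relIndex E) {z : G} (hz : P6.Inv z) (zA : z ∈ 𝐍(A)) (zE : z ∈ 𝐍(E)) :
    z ∈ 𝐂(A) := by
  obtain ⟨l, hl, l2, hl1, ho⟩ := exists_zsig hn n1
  have := Fact.mk hl
  have := Fact.mk Nat.prime_two
  have pA := elemAb_isPGroup hA
  obtain ⟨P, PE, pP, nd, zP⟩ := H1.exists_invariant_sylow (zpowers_le.2 zE) (hz.coprime hE)
    (Or.inl (P6.Inv.solv z)) l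
  have zP := zpowers_le.1 zP
  have pw : ∀ x ∈ P, ∃ k, x ^ l ^ k = 1 := fun x hx =>
    (pP ⟨x, hx⟩).imp fun _ hk => congrArg Subtype.val hk
  have sq := H7.SC.card_le_sq hA hz.sq zA
  have B1 : A ⊓ 𝐂[z] ≠ ⊥ := fun e => by
    rw [e, card_bot, cA] at sq
    exact absurd (Nat.one_lt_two_pow (by omega : n ≠ 0)) (by omega)
  by_cases hc : ∀ y ∈ P, y⁻¹ * (z * y * z) ∈ 𝐂(A)
  · obtain ⟨x, hx, x1⟩ := SetLike.not_le_iff_exists.1 fun e : P ≤ 𝐂(A) =>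
      nd ((hl1.trans hd).trans (relIndex_dvd_of_le_left _ e))
    obtain ⟨k, hk⟩ := pw x hx
    refine mem_cent_iff_cent1.2 ((zsig_irr hl l2 ho pA cA hk (nA (PE hx)) x1 inf_le_left
      (mem_norm_of_conj_le ?_) B1).1.ge.trans inf_le_right)
    rintro _ ⟨b, hb, rfl⟩
    refine ⟨H1.conj_mem_of_le_normalizer le_rfl (nA (PE hx)) hb.1, mem_cent1.2 ?_⟩
    have e1 := mem_cent.1 (hc x hx) b hb.1
    have e2 := mem_cent1.1 hb.2
    have e3 : z * x = x * (x⁻¹ * (z * x * z)) * z := by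
      rw [mul_inv_cancel_left, hz.mul_cancel_right]
    have e4 : x⁻¹ * (z * x * z) * z * x⁻¹ = x⁻¹ * z := by
      rw [mul_assoc x⁻¹, hz.mul_cancel_right]; group
    change z * (x * b * x⁻¹) = x * b * x⁻¹ * z
    generalize x⁻¹ * (z * x * z) = c at e1 e3 e4
    calc z * (x * b * x⁻¹) = z * x * b * x⁻¹ := by group
      _ = x * (c * (z * b)) * x⁻¹ := by rw [e3]; group
      _ = x * (c * b) * z * x⁻¹ := by rw [e2]; group
      _ = x * b * (c * z * x⁻¹) := by rw [← e1]; group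
      _ = _ := by rw [e4]; group
  push Not at hc
  obtain ⟨y, hy, y1⟩ := hc
  have hx : y⁻¹ * (z * y * z) ∈ P := mul_mem (inv_mem hy) (by
    simpa [hz.inv_eq] using H1.conj_mem_of_le_normalizer le_rfl zP hy)
  have hi := P6.inverts_comm hz.sq y
  generalize y⁻¹ * (z * y * z) = x at hx hi y1
  obtain ⟨k, hk⟩ := pw _ (mul_mem hx hx)
  have xA := nA (PE hx)
  have f := (zsig_irr hl l2 ho pA cA hk (mul_mem xA xA) (fun e => y1 (P6.mem_of_sq_mem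
    (P6.odd_orderOf_of_mem hE (PE hx)) e)) le_rfl (mul_mem xA xA)
    (fun e => B1 (eq_bot_iff.2 (e ▸ inf_le_left)))).2
  have BA : (A ⊓ 𝐂[z]) ^ᵍ x ≤ A := conj_le_of_mem_norm inf_le_left xA
  have e1 := H1.card_sup_mul_card_inf (A := A ⊓ 𝐂[z]) (N := (A ⊓ 𝐂[z]) ^ᵍ x)
    (inf_le_left.trans ((isMulComm_iff_le_cent.1 hA.1).trans
      ((cent_anti BA).trans (cent_le_norm _))))
  have e2 : A ⊓ 𝐂[z] ⊓ (A ⊓ 𝐂[z]) ^ᵍ x = ⊥ := eq_bot_iff.2 fun b hb => by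
    rw [← f]
    refine ⟨?_, hb.1.1⟩
    have h1 : x * z * x⁻¹ ∈ 𝐂[b] := by
      have := mem_cent1.1 (mem_conj.1 hb.2).2
      refine mem_cent1.2 ?_
      calc b * (x * z * x⁻¹) = x * (x⁻¹ * b * x * z) * x⁻¹ := by group
        _ = _ := by rw [← this]; group
    have h2 := mul_mem h1 (mem_cent1_comm.1 hb.1.2)
    have h3 : x * z * x⁻¹ * z = x * x := by
      rw [← hi, mul_assoc x, mul_assoc x, ← mul_assoc z, ← mul_assoc z, hz.sq, one_mul,
        hz.mul_cancel_right]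
    rw [h3] at h2
    rw [cent_zpowers]
    exact mem_cent1_comm.1 h2
  have e3 : 𝐨((A ⊓ 𝐂[z] ⊔ (A ⊓ 𝐂[z]) ^ᵍ x : Subgroup G)) ≤ 𝐨(A) :=
    card_le_of_le (sup_le inf_le_left BA)
  rw [e2, card_bot, mul_one, card_conj] at e1
  obtain ⟨e, he⟩ := IsPGroup.iff_card.1 (pA.to_le (inf_le_left : A ⊓ 𝐂[z] ≤ A))
  rw [e1, he, cA, ← pow_add] at e3
  rw [he, cA, ← pow_mul] at sq
  have h1 := (Nat.pow_le_pow_iff_right one_lt_two).1 e3
  have h2 := (Nat.pow_le_pow_iff_right one_lt_two).1 sq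
  obtain ⟨m, rfl⟩ := hn
  omega

theorem ncard_mul_eq {X Y : Type*} {S : Set X} {T : Set Y} (hS : S.Finite) (hT : T.Finite)
    (r : X → Y → Prop) {m n : ℕ} (hm : ∀ a ∈ S, {b ∈ T | r a b}.ncard = m)
    (hn : ∀ b ∈ T, {a ∈ S | r a b}.ncard = n) : S.ncard * m = T.ncard * n := by
  classical
  rw [Set.ncard_eq_toFinset_card S hS, Set.ncard_eq_toFinset_card T hT]
  refine Finset.card_mul_eq_card_mul r (fun a ha => ?_) fun b hb => ?_
  · rw [← hm a (hS.mem_toFinset.1 ha), ← Set.ncard_coe_finset]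
    congr 1
    ext b
    simp [Finset.bipartiteAbove]
  · rw [← hn b (hT.mem_toFinset.1 hb), ← Set.ncard_coe_finset]
    congr 1
    ext a
    simp [Finset.bipartiteBelow]

namespace C

variable [ICl G] {Ω : Type u} [MulAction G Ω]

/-- The members of the class fixing `α`, and the identity. -/
def Ac (G : Type u) [Group G] [ICl G] {Ω : Type u} [MulAction G Ω] (α : Ω) : Subgroup G :=
  closure (Iv G α)

namespace Mc

variable (h : Mc G Ω)
include h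

theorem se : SE G Ω := h.toSE

theorem exA (α : Ω) : IsElementaryAbelian 2 (Ac G α) ∧ 8 ≤ 𝐨(Ac G α) ∧
    ∀ a, a ∈ Ac G α ↔ a = 1 ∨ In a ∧ a • α = α := by
  obtain ⟨A, hA⟩ := h.pt α
  have m : ∀ a, a ∈ A ↔ a = 1 ∨ In a ∧ a • α = α := fun a => by
    refine ⟨fun ha => ?_, ?_⟩
    · by_cases a1 : a = 1
      · exact Or.inl a1
      · exact Or.inr ⟨hA.mem a ha a1, hA.le ha⟩
    · rintro (rfl | ⟨h1, h2⟩)
      · exact one_mem _
      · refine hA.max a h1 (mem_cent.2 fun b hb => ?_)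
        by_cases b1 : b = 1
        · rw [b1, one_mul, mul_one]
        · exact h.comm b a α (hA.mem b hb b1) h1 (hA.le hb) h2
  have e : Ac G α = A := le_antisymm ((closure_le _).2 fun a ha => (m a).2 (Or.inr ha))
    fun a ha => ((m a).1 ha).elim (fun e => e ▸ one_mem _) fun e => subset_closure e
  rw [e]
  exact ⟨hA.el, hA.eight, m⟩

theorem elem (α : Ω) : IsElementaryAbelian 2 (Ac G α) := (h.exA α).1

theorem eight (α : Ω) : 8 ≤ 𝐨(Ac G α) := (h.exA α).2.1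

theorem mem_Ac {α : Ω} {a : G} : a ∈ Ac G α ↔ a = 1 ∨ In a ∧ a • α = α := (h.exA α).2.2 a

theorem mem {α : Ω} {a : G} (ha : In a) (e : a • α = α) : a ∈ Ac G α := h.mem_Ac.2 (Or.inr ⟨ha, e⟩)

theorem inn {α : Ω} {a : G} (ha : a ∈ Ac G α) (h1 : a ≠ 1) : In a :=
  ((h.mem_Ac.1 ha).resolve_left h1).1

theorem fix {α : Ω} {a : G} (ha : a ∈ Ac G α) : a • α = α :=
  (h.mem_Ac.1 ha).elim (fun e => by rw [e, one_smul]) And.right

theorem norm_A (α : Ω) : stabilizer G α ≤ 𝐍(Ac G α) := fun g hg => mem_norm_of_conj_le (by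
  rintro _ ⟨a, ha, rfl⟩
  by_cases a1 : a = 1
  · simp [a1]
  · exact h.mem ((h.inn ha a1).conj g) (P6.conj_fix' (h.fix ha) hg))

theorem ncard_Iv (α : Ω) (N : Subgroup G) :
    (Iv G α ∩ N).ncard = 𝐨((Ac G α ⊓ N : Subgroup G)) - 1 := by
  rw [← ncard_sharp]
  congr 1
  ext a
  exact ⟨fun ha => ⟨⟨h.mem ha.1.1 ha.1.2, ha.2⟩, ha.1.1.ne⟩,
    fun ha => ⟨⟨h.inn ha.1.1 ha.2, h.fix ha.1.1⟩, ha.1.2⟩⟩

theorem exists_A (α : Ω) : ∃ a ∈ Ac G α, a ≠ 1 :=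
  (bot_or_exists_ne_one _).resolve_left fun e => by
    have := h.eight α
    rw [e, card_bot] at this
    omega

theorem mem_Fx {N : Subgroup G} {α : Ω} (hN : Ac G α ≤ N) : α ∈ Fx Ω N := by
  obtain ⟨a, ha, a1⟩ := h.exists_A α
  exact ⟨a, hN ha, h.inn ha a1, h.fix ha⟩

theorem rk2 {N : Subgroup G} {α : Ω} (hN : Ac G α ≤ N) : Rk2 N := by
  obtain ⟨a, ha, b, hb, h1, h2, h3, h4⟩ := P6.rk2_of_two_lt (A := Ac G α) (fun a ha => by
    rw [← pow_two, (h.elem α).2 a ha]) (lt_of_lt_of_le (by norm_num) (h.eight α))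
  exact ⟨a, hN ha, b, hN hb, h.inn ha h1.ne, h.inn hb h2.ne, h3, h4⟩

theorem card_A (α : Ω) : ∃ n, Odd n ∧ 1 < n ∧ 𝐨(Ac G α) = 2 ^ n := by
  obtain ⟨n, e⟩ := exists_card_eq_pow Nat.prime_two (elemAb_isPGroup (h.elem α))
  have := h.two
  obtain ⟨β, hne⟩ := exists_ne α
  obtain ⟨a, ha, a1⟩ := h.exists_A α
  have e1 := h.se.ncard_Iv (h.inn ha a1) (h.fix ha) hne.symm (mem_top a) (h.mem_Fx le_top)
  rw [h.ncard_Iv, inf_top_eq, e] at e1
  refine ⟨n, odd_of_n3 h.three (e1 ▸ (relIndex_dvd_card' _ _).trans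
    (card_subgroup_dvd_card _)), ?_, e⟩
  have h8 := h.eight α
  rw [e] at h8
  exact (Nat.pow_lt_pow_iff_right one_lt_two).1 (lt_of_lt_of_le (by norm_num) h8)

theorem card_eq (α β : Ω) : 𝐨(Ac G α) = 𝐨(Ac G β) := by
  obtain ⟨g, -, rfl⟩ := h.se.exists_smul_Fx (h.mem_Fx (α := α) le_top) (h.mem_Fx (α := β) le_top)
  have e1 := SE.ncard_Iv_smul g α
  have e2 := h.ncard_Iv α ⊤
  have e3 := h.ncard_Iv (g • α) ⊤
  rw [inf_top_eq, coe_top, Set.inter_univ] at e2 e3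
  have := h.eight α
  have := h.eight (g • α)
  omega

/-- An involution fixing two points centralizes `A`. -/
theorem cent_of_inv {α β : Ω} (hne : α ≠ β) {z : G} (hz : Inv z) (hD : z ∈ St2 G α β) :
    z ∈ 𝐂(Ac G α) := by
  obtain ⟨n, hn, n1, cA⟩ := h.card_A α
  obtain ⟨u, -, hu, eu⟩ := h.se.exists_swap_Fx (h.mem_Fx (α := α) le_top)
    (h.mem_Fx (α := β) le_top) hne
  have eu' := hu.smul_eq eu
  let N : Subgroup G :=
    { carrier := {g | g ∈ St2 G α β ∨ g • α = β ∧ g • β = α}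
      one_mem' := Or.inl (one_mem _)
      mul_mem' := by
        rintro a b (⟨a1, a2⟩ | ⟨a1, a2⟩) (⟨b1, b2⟩ | ⟨b1, b2⟩)
        · exact Or.inl ⟨mul_mem a1 b1, mul_mem a2 b2⟩
        · exact Or.inr ⟨by rw [mul_smul, b1, a2], by rw [mul_smul, b2, a1]⟩
        · exact Or.inr ⟨by rw [mul_smul, b1, a1], by rw [mul_smul, b2, a2]⟩
        · exact Or.inl (P6.mem_St2.2 ⟨by rw [mul_smul, b1, a2], by rw [mul_smul, b2, a1]⟩)
      inv_mem' := by
        rintro a (ha | ⟨a1, a2⟩)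
        · exact Or.inl (inv_mem ha)
        · exact Or.inr ⟨inv_smul_eq_iff.2 a2.symm, inv_smul_eq_iff.2 a1.symm⟩ }
  have nr : ¬ Rk2 N := by
    rintro ⟨a, ha, b, hb, ia, ib, n1, hc⟩
    obtain ⟨a1, a2⟩ := ha.resolve_left (h.se.not_mem_St2 hne ia)
    obtain ⟨b1, b2⟩ := hb.resolve_left (h.se.not_mem_St2 hne ib)
    exact h.se.not_mem_St2 hne (ia.mul ib n1 hc)
      (P6.mem_St2.2 ⟨by rw [mul_smul, b1, a2], by rw [mul_smul, b2, a1]⟩)
  have ED : Od N ≤ stabilizer G α := fun x hx => ((P6.Od_normal N).1 hx).elim And.left fun e =>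
    (hne (P6.eq_of_swap_of_odd (P6.odd_orderOf_of_mem (P6.odd_Od N) hx) e.1 e.2)).elim
  refine inv_cent hn n1 (h.elem α) cA (P6.odd_Od N) (ED.trans (h.norm_A α)) ?_ hz
    (h.norm_A α hD.1) ((P6.Od_normal N).2 (Or.inl hD))
  obtain ⟨a, ha, a1⟩ := h.exists_A α
  refine Dvd.dvd.trans (dvd_of_eq ?_) (relIndex_dvd_of_le_left _ (cent_le_cent1 ha))
  have e1 := h.ncard_Iv α ⊤
  rw [inf_top_eq, coe_top, Set.inter_univ, cA] at e1
  rw [← e1, ← P6.ncard_class]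
  congr 1
  ext b
  refine ⟨fun hb => ?_, ?_⟩
  · obtain ⟨k, hk, ko, e2, e3, -⟩ := h.se.exists_K hu eu hne (h.inn ha a1) hb.1 (h.fix ha) hb.2
    refine ⟨k, P6.mem_of_sq_mem ko ?_, e3⟩
    have := comm_mem_Od nr (show u ∈ N from Or.inr ⟨eu, eu'⟩) hu (show k ∈ N from Or.inl hk)
    rwa [commutatorElement_def, hu.inv_eq, ← e2, show k * u * (u * k * u) * u = k * k by
      simp [mul_assoc, hu.mul_cancel_left, hu.sq]] at this
  · rintro ⟨k, hk, rfl⟩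
    exact ⟨(h.inn ha a1).conj k, P6.conj_fix' (h.fix ha) (ED hk)⟩

end Mc

end C

end Cfsg.Agent.P14
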