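/-
P14, endgame E2 (b), (c): the regular normal subgroup.
-/
import Cfsg.Agent.P14.E2a

set_option autoImplicit false
set_option linter.unusedSectionVars false

namespace Cfsg.Agent.P14

open Subgroup Cfsg Cfsg.Agent Cfsg.Agent.FT MulAction
open Cfsg.Agent.P6
open scoped commutatorElement

universe u

variable {G Ω : Type u} [Group G] [Finite G] [MulAction G Ω]

theorem eq_one_of_two_odd {S D : Subgroup G} (hS : IsPGroup 2 S) (hD : Odd 𝐨(D)) {x : G}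
    (h1 : x ∈ S) (h2 : x ∈ D) : x = 1 :=
  eq_one_of_odd_of_mem hS h1 (odd_orderOf_of_mem hD h2)

namespace Ms

variable (h : Ms G Ω)
include h

theorem A_mem_Fx {N : Subgroup G} {α : Ω} (hN : Av G α ≤ N) : α ∈ Fx Ω N := by
  obtain ⟨a, ha, a1⟩ := h.exists_A α
  exact ⟨a, hN ha, h.inv ha a1, h.fix ha⟩

theorem cent_ne_top {X : Subgroup G} (h1 : X ≠ ⊥) {α : Ω} (h2 : X ≤ stabilizer G α) :
    𝐂(X) ≠ ⊤ := fun e => h.norm_ne_top_of_le h1 h2 (top_le_iff.1 (e ▸ cent_le_norm X))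

theorem exists_T {α β : Ω} (hne : α ≠ β) : ∃ T : Subgroup G, IsPGroup 2 T ∧ Av G α ≤ T ∧
    T ≤ 𝐂(Av G α) ⊓ 𝐂(St2 G α β ⊓ 𝐂(Av G α)) ∧ St2 G α β ≤ 𝐍(T) ∧
    ∀ w ∈ St2 G α β ⊓ 𝐂(Av G α), w ≠ 1 → 𝐨(T) = 𝐨(Av G α) ^ 2 ∧
      ∀ γ, w • γ = γ → γ ≠ α → ∃ s ∈ T, s • β = γ := by
  obtain ⟨W, hW⟩ : ∃ W, W = St2 G α β ⊓ 𝐂(Av G α) := ⟨_, rfl⟩
  rw [← hW]
  have WC : W ≤ 𝐂(Av G α) := hW ▸ inf_le_right
  have WD : W ≤ St2 G α β := hW ▸ inf_le_left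
  have pA := elemAb_isPGroup (h.elem α)
  by_cases W1 : W = ⊥
  · exact ⟨_, pA, le_rfl, le_inf (h.A_comm α) (cent_comm.1 WC), inf_le_left.trans (h.norm_A α),
      fun w hw w1 => (w1 (mem_bot.1 (W1 ▸ hw))).elim⟩
  obtain ⟨u, hu, eu⟩ := h.exists_J hne
  have LW : Av G α ⊔ Av G β ≤ 𝐂(W) := sup_le (cent_comm.1 WC) (by
    rw [← eu, h.A_smul]
    exact conj_le_of_mem (cent_comm.1 WC) (mem_cent_iff_cent1.2 (hW ▸ h.W_le_cent hne hu eu)))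
  have fa := h.A_mem_Fx (N := Av G α ⊔ Av G β) le_sup_left
  have fb := h.A_mem_Fx (N := Av G α ⊔ Av G β) le_sup_right
  obtain ⟨c0, T0, hT0, pT0, tr⟩ := h.bt _ (fun e => h.cent_ne_top W1 (WD.trans inf_le_left)
    (top_le_iff.1 (e ▸ LW))) ((h.rk2_A α).mono le_sup_left) α fa β fb hne.symm
  rw [inf_eq_left.2 le_sup_left] at c0
  have fx : ∀ w ∈ W, w ≠ 1 → ∀ γ, w • γ = γ → γ ∈ Fx Ω (Av G α ⊔ Av G β) := fun w hw w1 γ hγ => by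
    obtain ⟨x, hx, r, hr, r2, -, hp, x1, hD⟩ := h.exists_prime_D hne (WD hw) w1
    have hL := LW.trans (cent_anti (zpowers_le.2 (zpowers_le.2 hw hx)))
    have c1 := (h.bt _ (h.cent_ne_top x1 (hD.trans inf_le_left))
      ((h.rk2_A α).mono (le_sup_left.trans hL)) α (Fx_mono hL fa) β (Fx_mono hL fb) hne.symm).1
    rw [inf_eq_left.2 (le_sup_left.trans hL)] at c1
    rw [Set.eq_of_subset_of_ncard_le (Fx_mono hL) (c1.trans c0.symm).le (h.se.finite_Fx _)]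
    obtain ⟨a, ha, a1⟩ := h.exists_A α
    exact h.L1 hr r2 hp ha a1 (hL (mem_sup_left ha))
      (zpowers_le.2 (zpowers_le (H := stabilizer G γ).2 hγ hx))
  have TH : T0 ⊔ Av G α ≤ stabilizer G α := sup_le (hT0.trans inf_le_right) (h.A_le α)
  have pT : IsPGroup 2 (T0 ⊔ Av G α : Subgroup G) :=
    isPGroup_sup pT0 pA ((hT0.trans inf_le_right).trans (h.norm_A α))
  have TL : T0 ⊔ Av G α ≤ Av G α ⊔ Av G β := sup_le (hT0.trans inf_le_left) le_sup_left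
  have TC : T0 ⊔ Av G α ≤ 𝐂(Av G α) ⊓ 𝐂(W) := le_inf (h.le_C_of_two pT TH) (TL.trans LW)
  obtain ⟨w0, hw0, w1⟩ := (bot_or_exists_ne_one W).resolve_left W1
  have cf : ∀ c ∈ 𝐂(Av G α) ⊓ 𝐂(W), c • β ∈ Fx Ω (Av G α ⊔ Av G β) ∧ c • β ≠ α := fun c hc =>
    ⟨fx w0 hw0 w1 _ (by rw [← mul_smul, mem_cent.1 hc.2 w0 hw0, mul_smul, (WD hw0).2]),
      fun e => hne (smul_left_cancel c ((h.C_le α hc.1).trans e.symm))⟩
  have nT : 𝐂(Av G α) ⊓ 𝐂(W) ≤ 𝐍(T0 ⊔ Av G α) := fun c hc => by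
    obtain ⟨s, hs, e⟩ := tr _ (cf c hc).1 (cf c hc).2
    have h1 := inv_mem (TC (mem_sup_left hs))
    have h2 : s⁻¹ * c ∈ W := hW ▸ ⟨⟨h.C_le α (mul_mem h1.1 hc.1), mem_stabilizer_iff.2 (by
      rw [mul_smul, ← e, inv_smul_smul])⟩, mul_mem h1.1 hc.1⟩
    rw [← mul_inv_cancel_left s c]
    exact mul_mem (le_norm_self _ (mem_sup_left hs))
      (cent_le_norm _ (cent_comm.1 (TC.trans inf_le_right) h2))
  have lT := le_pCoreOf ⟨TC, nT⟩ pT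
  have pS := H2.isPGroup_pCoreOf 2 (𝐂(Av G α) ⊓ 𝐂(W))
  have SC := H2.pCoreOf_le 2 (𝐂(Av G α) ⊓ 𝐂(W))
  refine ⟨_, pS, le_sup_right.trans lT, SC, le_trans ?_ (H2.normalizer_le_normalizer_pCoreOf 2 _),
    fun w hw w1 => ⟨?_, fun γ hγ n1 => ?_⟩⟩
  · have h1 := inf_le_left.trans (h.norm_C α) (a := St2 G α β)
    exact H1.le_normalizer_inf h1 (H1.le_normalizer_centralizer
      (hW ▸ H1.le_normalizer_inf (le_norm_self _) h1))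
  · have e1 := ncard_orbit (pCoreOf 2 (𝐂(Av G α) ⊓ 𝐂(W))) β
    have e2 := H1.card_inf_mul_relIndex (stabilizer G β) (pCoreOf 2 (𝐂(Av G α) ⊓ 𝐂(W)))
    rw [show stabilizer G β ⊓ pCoreOf 2 (𝐂(Av G α) ⊓ 𝐂(W)) = ⊥ from eq_bot_iff.2 fun z hz =>
      eq_one_of_two_odd pS (h.se.odd_St2 hne) hz.2 ⟨h.C_le α (SC hz.2).1, hz.1⟩, card_bot,
      one_mul] at e2
    rw [← e2, ← e1, ← Nat.add_right_cancel_iff (n := 1), ← c0,
      ← Set.ncard_sdiff_singleton_add_one fa (h.se.finite_Fx _)]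
    congr 2
    ext γ
    refine ⟨?_, fun hγ => ?_⟩
    · rintro ⟨y, hy, rfl⟩
      exact cf y (SC hy)
    · obtain ⟨s, hs, e⟩ := tr γ hγ.1 hγ.2
      exact ⟨s, lT (mem_sup_left hs), e⟩
  · obtain ⟨s, hs, e⟩ := tr γ (fx w hw w1 γ hγ) n1
    exact ⟨s, lT (mem_sup_left hs), e⟩

theorem exists_bp {α β : Ω} (hne : α ≠ β) {T : Subgroup G} (pT : IsPGroup 2 T)
    (AT : Av G α ≤ T) (TC : T ≤ 𝐂(Av G α) ⊓ 𝐂(St2 G α β ⊓ 𝐂(Av G α)))
    (DT : St2 G α β ≤ 𝐍(T)) (fx : ∀ w ∈ St2 G α β ⊓ 𝐂(Av G α), w ≠ 1 →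
      ∀ γ, w • γ = γ → γ ≠ α → ∃ s ∈ T, s • β = γ) : ∃ Q : Subgroup G, Bp α β Q ∧ T ≤ Q := by
  obtain ⟨A, hA⟩ : ∃ A, A = Av G α := ⟨_, rfl⟩
  obtain ⟨W, hW⟩ : ∃ W, W = St2 G α β ⊓ 𝐂(A) := ⟨_, rfl⟩
  rw [← hA] at AT TC fx
  rw [← hW] at TC fx
  have AC : T ≤ 𝐂(A) := TC.trans inf_le_left
  have WC : W ≤ 𝐂(A) := hW ▸ inf_le_right
  have CH : 𝐂(A) ≤ stabilizer G α := hA ▸ h.C_le α
  have HC : stabilizer G α ≤ 𝐍(𝐂(A)) := hA ▸ h.norm_C α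
  have WA : W ≤ 𝐍(T) := (cent_comm.1 (TC.trans inf_le_right)).trans (cent_le_norm T)
  have := Fact.mk Nat.prime_two
  obtain ⟨k, hk⟩ := IsPGroup.iff_card.1 pT
  have sq : ∀ x ∈ T ⊔ W, x ∉ T → x ^ 2 ^ k ∈ W ∧ x ^ 2 ^ k ≠ 1 := fun x hx hxA => by
    obtain ⟨a, ha, w, hw, rfl⟩ := (mem_sup_of_norm WA).1 hx
    have c : Commute a w := (mem_cent.1 (TC ha).2 w hw).symm
    have e : (a * w) ^ 2 ^ k = w ^ 2 ^ k := by
      rw [c.mul_pow, ← hk, show a ^ 𝐨(T) = 1 from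
        congrArg Subtype.val (pow_card_eq_one' (x := (⟨a, ha⟩ : T))), one_mul]
    rw [e]
    refine ⟨pow_mem hw _, fun e => hxA ?_⟩
    rw [eq_one_of_two_odd (fp_isPGroup e) (h.se.odd_St2 hne) (mem_zpowers w) (hW ▸ hw).1, mul_one]
    exact ha
  obtain ⟨N, hN, h1, h2, h3⟩ := H6.exists_normal_of_wielandt (G := 𝐂(A))
    (H := (T ⊔ W).subgroupOf 𝐂(A)) (L := T.subgroupOf 𝐂(A)) (subgroupOf_mono _ le_sup_left)
    ⟨fun x hx g => by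
      simpa [mem_subgroupOf] using H1.conj_mem_of_le_normalizer (sup_le (le_norm_self T) WA)
        (mem_subgroupOf.1 g.2) (mem_subgroupOf.1 (mem_subgroupOf.1 hx))⟩
    (fun g hg x hx hgx => by
      by_contra hxA
      obtain ⟨s1, s2⟩ := sq x hx hxA
      have e0 : ((g * x * g⁻¹ : 𝐂(A)) : G) ^ 2 ^ k = g * x ^ 2 ^ k * (g : G)⁻¹ := by
        simp
      have s3 : (g : G) * x ^ 2 ^ k * (g : G)⁻¹ ∈ W := by
        by_cases e : ((g * x * g⁻¹ : 𝐂(A)) : G) ∈ T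
        · rw [← e0, ← hk, show ((g * x * g⁻¹ : 𝐂(A)) : G) ^ 𝐨(T) = 1 from
            congrArg Subtype.val (pow_card_eq_one' (x := (⟨_, e⟩ : T)))]
          exact one_mem _
        · exact e0 ▸ (sq _ hgx e).1
      have e1 : ((x : G) ^ 2 ^ k) • (g : G)⁻¹ • β = (g : G)⁻¹ • β := by
        have := mem_stabilizer_iff.1 (hW ▸ s3).1.2
        rw [eq_inv_smul_iff, smul_smul, smul_smul, this]
      obtain ⟨a, ha, e2⟩ := fx _ s1 s2 _ e1 (fun e => hne (by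
        rw [inv_smul_eq_iff] at e; rw [e, CH g.2]))
      have e3 : (g : G) * a ∈ W := hW ▸ ⟨⟨CH (mul_mem g.2 (AC ha)), mem_stabilizer_iff.2 (by
        rw [mul_smul, e2, smul_inv_smul])⟩, mul_mem g.2 (AC ha)⟩
      refine hg (mem_subgroupOf.2 ?_)
      simpa using mul_mem (mem_sup_right e3 : _ ∈ T ⊔ W) (mem_sup_left (inv_mem ha)))
  have mQ : ∀ g, g ∈ N.map (𝐂(A)).subtype ↔ g ∈ 𝐂(A) ∧
      ∀ x ∈ 𝐂(A), x⁻¹ * g * x ∈ T ⊔ W → x⁻¹ * g * x ∈ T := fun g =>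
    ⟨fun ⟨y, hy, e⟩ => e ▸ ⟨y.2, fun x hx => (h1 y).1 hy ⟨x, hx⟩⟩,
      fun hg => ⟨⟨g, hg.1⟩, (h1 _).2 fun x => hg.2 x x.2, rfl⟩⟩
  have AQ : T ≤ N.map (𝐂(A)).subtype := fun a ha =>
    ⟨⟨a, AC ha⟩, (h2.ge (mem_subgroupOf.2 ha)).1, rfl⟩
  have nC : 𝐂(A) ≤ 𝐍(N.map (𝐂(A)).subtype) := fun c hc => mem_norm_of_conj_le (by
    rintro _ ⟨_, ⟨y, hy, rfl⟩, rfl⟩
    exact ⟨_, hN.conj_mem y hy ⟨c, hc⟩, rfl⟩)
  have hH := h.stab_le hne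
  rw [← hA] at hH
  refine ⟨N.map (𝐂(A)).subtype, ⟨h, hne, hA ▸ map_subtype_le N, hA ▸ AT.trans AQ,
    hH.trans (sup_le nC fun d hd => mem_norm_of_conj_le ?_), fun γ n1 => ?_, fun z hz e => ?_⟩, AQ⟩
  · rintro _ ⟨g, hg, rfl⟩
    obtain ⟨g1, g2⟩ := (mQ g).1 hg
    refine (mQ _).2 ⟨H1.conj_mem_of_le_normalizer HC hd.1 g1, fun x hx hm => ?_⟩
    have dW : d ∈ 𝐍(T ⊔ W) := H1.le_normalizer_sup DT
      (hW ▸ H1.le_normalizer_inf (le_norm_self _) (inf_le_left.trans HC)) hd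
    have := g2 _ (H1.conj_mem_of_le_normalizer' HC hd.1 hx) (by
      simpa [mul_assoc] using H1.conj_mem_of_le_normalizer' le_rfl dW hm)
    simpa [mul_assoc] using H1.conj_mem_of_le_normalizer DT hd this
  · obtain ⟨g, hg, rfl⟩ := h.two_trans hne n1.symm
    obtain ⟨c, hc, d, hd, rfl⟩ := (mem_sup_of_norm (inf_le_left.trans HC)).1 (hH hg)
    obtain ⟨z, hz, y, hy, e⟩ := mem_sup_of_normal_left.1 (h3.ge (mem_top (⟨c, hc⟩ : 𝐂(A))))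
    obtain ⟨a, ha, w, hw, e'⟩ := (mem_sup_of_norm WA).1 (mem_subgroupOf.1 hy)
    refine ⟨z * a, mul_mem ⟨z, hz, rfl⟩ (AQ ha), ?_⟩
    have e2 : c = z * a * w := by rw [mul_assoc, e']; exact (congrArg Subtype.val e).symm
    rw [hW] at hw
    rw [e2, mul_smul _ d, hd.2, mul_smul _ w, hw.1.2]
  · obtain ⟨g1, g2⟩ := (mQ z).1 hz
    have := g2 1 (one_mem _) (by
      simpa using mem_sup_right (hW ▸ ⟨⟨CH g1, e⟩, g1⟩ : z ∈ W))
    exact eq_one_of_two_odd pT (h.se.odd_St2 hne) (by simpa using this) ⟨CH g1, e⟩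

end Ms

namespace Bp

variable {α β : Ω} {Q : Subgroup G} (h : Bp α β Q)
include h

theorem A_le_core : Av G α ≤ pCoreOf 2 Q :=
  le_pCoreOf ⟨h.Ale, h.QH.trans (h.mc.norm_A α)⟩ (elemAb_isPGroup (h.mc.elem α))

theorem norm_core : stabilizer G α ≤ 𝐍(pCoreOf 2 Q) :=
  h.norm.trans (H2.normalizer_le_normalizer_pCoreOf 2 Q)

theorem le_core {T : Subgroup G} (hT : IsPGroup 2 T) (hQ : T ≤ Q) : T ≤ pCoreOf 2 Q := by
  obtain ⟨P, hP, hl⟩ := exists_isSyl_ge Nat.prime_two hT hQ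
  exact hP.eq_pCoreOf_of_isNilpotent Nat.prime_two h.nil ▸ hl

/-- Squares in a nonabelian `O₂(Q)`. -/
theorem sq_mem (hna : ¬ IsMulCommutative (pCoreOf 2 Q)) :
    ∀ x ∈ pCoreOf 2 Q, x * x ∈ Av G α := by
  obtain ⟨u, hu, eu⟩ := h.mc.exists_J h.ne
  obtain ⟨K, hK, cK, hf⟩ := h.exists_K hu eu
  obtain ⟨F, -, -, -, hc⟩ := h.exists_F
  obtain ⟨n, hn, cA⟩ := h.mc.card_A α
  obtain ⟨a, ha, a1⟩ := h.mc.exists_A α
  have := Fact.mk Nat.prime_two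
  have := Fintype.ofFinite (GaloisField 2 n)
  have cF : Fintype.card (GaloisField 2 n) = 2 ^ n := by
    rw [← Nat.card_eq_fintype_card, GaloisField.card 2 n (by omega)]
  have KH : K ≤ stabilizer G α := fun k hk => ((hK k).1 hk).1.1
  have SQ := H2.pCoreOf_le 2 Q
  obtain ⟨φ, k, hk, -⟩ := P2.exists_secField (GaloisField 2 n) (M := Av G α) (N := ⊥) (K := K)
    (by rw [relIndex_bot_left, cA, cF]) (KH.trans (h.mc.norm_A α)) (norm_bot (G := G) ▸ le_top)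
    (fun x hx y hy => mem_bot.mpr
      (commutatorElement_eq_one_iff_mul_comm.mpr (mem_cent.1 (h.mc.A_comm α hy) x hx)))
    (norm_bot (G := G) ▸ le_top) ⟨⟨fun x y => Subtype.ext (hc u hu eu x ((hK x).1 x.2).1
      ((hK x).1 x.2).2 y ((hK y).1 y.2).1 ((hK y).1 y.2).2)⟩⟩ (e := a) ha a1
    (fun x hx x1 => by
      obtain ⟨k, hk, e1, e2, -⟩ := h.se.exists_K hu eu h.ne (h.mc.inv ha a1) (h.mc.inv hx x1)
        (h.mc.fix ha) (h.mc.fix hx)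
      exact ⟨k, (hK k).2 ⟨hk, e1⟩, by rw [e2]; simp⟩)
    (fun k hk e => by
      by_contra k1
      refine a1 (semiReg_iff.mp hf.reg k hk k1 a (h.Ale ha) ?_)
      exact mul_inv_eq_iff_eq_mul.mp (inv_mul_eq_one.mp (mem_bot.mp e)))
  refine P2.Suz.sq_mem (K := K) (φ := φ) (k := k) ⟨H2.isPGroup_pCoreOf 2 Q, KH.trans h.norm_core,
    hf.reg.mono SQ le_rfl, fun x => ⟨fun hx => ⟨h.A_le_core hx, h.mc.sq hx⟩,
      fun hx => h.mc.mem_Av.2 ⟨hx.2, h.QH (SQ hx.1)⟩⟩,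
    fun x hx z hz => (mem_cent.1 (h.le (SQ hx)) z hz).symm, hk, ?_⟩ hna
  rw [cF, ← cA]
  exact lt_of_lt_of_le (by norm_num) (h.mc.four_le α)

/-- If the squares of a `D`-invariant `T` cover `A`, then an odd element centralizing `T`
centralizes `O₂(Q)`. -/
theorem core_le_cent {T : Subgroup G} (pT : IsPGroup 2 T) (AT : Av G α < T) (TQ : T ≤ Q)
    (DT : St2 G α β ≤ 𝐍(T)) {x : G} (hx : x ∈ St2 G α β) (hc : T ≤ 𝐂[x]) :
    pCoreOf 2 Q ≤ 𝐂[x] := by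
  have pS := H2.isPGroup_pCoreOf 2 Q
  have SQ := H2.pCoreOf_le 2 Q
  have ox := odd_orderOf_of_mem (h.se.odd_St2 h.ne) hx
  have xS := h.norm_core hx.1
  have := Fact.mk Nat.prime_two
  by_cases hab : IsMulCommutative (pCoreOf 2 Q)
  · exact mem_cent_iff_cent1.1 (H5.mem_centralizer_of_omega pS xS (Nat.coprime_two_right.2 ox)
      fun z hz e => (mem_cent1.1 (hc (AT.le (h.mc.mem_Av.2
        ⟨by rw [← pow_two, e], h.QH (SQ hz)⟩)))).symm)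
  have sq := h.sq_mem hab
  have TS := h.le_core pT TQ
  obtain ⟨t, ht, t1⟩ := SetLike.exists_of_lt AT
  have tt : t * t ≠ 1 := fun e => t1 (h.mc.mem_Av.2 ⟨e, h.QH (TQ ht)⟩)
  have XT : zpowers x ≤ 𝐂(T) := zpowers_le.2 (mem_cent_iff_cent1.2 hc)
  have RT : ⁅⁅zpowers x, pCoreOf 2 Q⁆, T⁆ = ⊥ := by
    refine commutator_commutator_eq_bot_of_rotate ?_ ?_
    · refine H1.commutator_eq_bot_iff_le_centralizer'.2 (XT.trans (cent_anti ?_))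
      exact commutator_le.2 fun a ha b hb => AT.le (P2.comm_mem_of_sq_mem sq ha (TS hb))
    · rw [H1.commutator_eq_bot_iff_le_centralizer'.2 XT, commutator_bot_left]
  have RS : ⁅pCoreOf 2 Q, zpowers x⁆ ≤ pCoreOf 2 Q :=
    comm_le_left_iff.2 (zpowers_le.2 xS)
  rw [commutator_comm (zpowers x), commutator_eq_bot_iff_le_centralizer] at RT
  refine mem_cent_iff_cent1.1 (zpowers_le.1 (H1.le_centralizer_of_commutator_le (H := T)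
    (zpowers_le.2 xS) ?_ (fun y hy => ?_) XT))
  · obtain ⟨k, hk⟩ := IsPGroup.iff_card.1 pS
    rw [Nat.card_zpowers, hk]
    exact (Nat.coprime_two_right.2 ox).pow_right k
  by_cases yy : y * y = 1
  · exact AT.le (h.mc.mem_Av.2 ⟨yy, h.QH (SQ (RS hy))⟩)
  obtain ⟨d, hd, e⟩ := (h.mc.gl1 h.ne).trans _ (sq t (TS ht)) tt _ (sq y (RS hy)) yy
  have hs := H1.conj_mem_of_le_normalizer DT hd ht
  have e1 : d * t * d⁻¹ * (d * t * d⁻¹) = y * y := by rw [← e]; group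
  generalize d * t * d⁻¹ = s at hs e1
  have c : Commute s⁻¹ y := mem_cent.1 (RT hy) _ (inv_mem hs)
  rw [← mul_inv_cancel_left s y]
  refine mul_mem hs (AT.le (h.mc.mem_Av.2 ⟨?_, h.QH (mul_mem (inv_mem (TQ hs)) (SQ (RS hy)))⟩))
  rw [← pow_two, c.mul_pow, pow_two y, ← e1]
  group

end Bp

theorem e2Stmt : E2Stmt.{u} := by
  intro G Ω _ _ _ h α β hne
  obtain ⟨T, pT, AT, TC, DT, fx⟩ := h.exists_T hne
  obtain ⟨Q, b, TQ⟩ := h.exists_bp hne pT AT TC DT fun w hw w1 => (fx w hw w1).2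
  refine ⟨Q, b, fun x hx x1 => ?_⟩
  obtain ⟨cT, f⟩ := fx x hx x1
  have Tx : T ≤ 𝐂[x] := (TC.trans inf_le_right).trans (cent_le_cent1 hx)
  have e1 : Q ⊓ 𝐂[x] ≤ T := fun z hz => by
    obtain ⟨s, hs, e⟩ := f (z • β) (by
      rw [← mul_smul, mem_cent1.1 hz.2, mul_smul, hx.1.2]) (b.smul_ne (b.QH hz.1))
    exact b.eq_of_smul (TQ hs) hz.1 e ▸ hs
  have h4 := h.four_le α
  have e2 := b.core_le_cent pT (AT.lt_of_ne fun e => by rw [← e] at cT; nlinarith) TQ DT hx.1 Tx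
  have e3 := le_inf (H2.pCoreOf_le 2 Q) e2
  exact ⟨le_antisymm (e1.trans (b.le_core pT TQ)) e3,
    le_antisymm (e3.trans e1) (b.le_core pT TQ) ▸ cT⟩

end Cfsg.Agent.P14
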