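/-
P14, endgame: assembly.
-/
import Cfsg.Agent.P14.E1
import Cfsg.Agent.P14.E2
import Cfsg.Agent.P14.E3

set_option autoImplicit false
set_option linter.unusedSectionVars false

namespace Cfsg.Agent.P14

open Subgroup Cfsg Cfsg.Agent Cfsg.Agent.FT MulAction
open Cfsg.Agent.P6
open scoped commutatorElement

universe u

variable {G Ω : Type u} [Group G] [Finite G] [MulAction G Ω]

namespace Bp

variable {α β : Ω} {Q : Subgroup G} (h : Bp α β Q)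
include h

theorem two_le {T : Subgroup G} (hT : IsPGroup 2 T) (hH : T ≤ stabilizer G α) : T ≤ Q := by
  have := Fact.mk Nat.prime_two
  obtain ⟨n, hn⟩ := IsPGroup.iff_card.1 hT
  obtain ⟨k, -, hk⟩ := (Nat.dvd_prime_pow Nat.prime_two).1 (hn ▸ relIndex_dvd_card' Q T)
  have h1 := rel_dvd_rel hH h.QH h.norm
  rw [← h.sd.sup, relIndex_sup_of_norm h.sd.norm] at h1
  have := ((h.se.odd_St2 h.ne).of_dvd_nat (relIndex_dvd_card' Q _)).of_dvd_nat h1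
  rw [← relIndex_eq_one, hk]
  rcases k with _ | k
  · rfl
  · rw [hk] at this
    exact absurd this (Nat.not_odd_iff_even.2 (even_iff_two_dvd.2 (dvd_pow_self 2 k.succ_ne_zero)))

theorem mem_Fx {y a : G} (hy : y ∈ St2 G α β) (hp : (orderOf y).Prime) (ha : a ∈ Av G α)
    (a1 : a ≠ 1) (hc : a ∈ 𝐂[y]) {γ : Ω} (e : y • γ = γ) : γ ∈ Fx Ω 𝐂[y] := by
  rw [← cent_zpowers] at hc ⊢
  exact h.mc.L1 hp (Nat.card_zpowers y ▸ h.ne_two (zpowers_le.2 hy))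
    (isPGroup_of_card_prime (Nat.card_zpowers y)) ha a1 hc (zpowers_le.2 e)

theorem QC_two {y a : G} (hy : y ∈ St2 G α β) (hp : (orderOf y).Prime) (ha : a ∈ Av G α)
    (a1 : a ≠ 1) (hc : a ∈ 𝐂[y]) (hk : Rk2 𝐂[y]) : IsPGroup 2 (Q ⊓ 𝐂[y] : Subgroup G) ∧
      𝐨((Q ⊓ 𝐂[y] : Subgroup G)) = 𝐨((Av G α ⊓ 𝐂[y] : Subgroup G)) ^ 2 := by
  have fa := h.mem_Fx hy hp ha a1 hc hy.1
  have fb := h.mem_Fx hy hp ha a1 hc hy.2
  obtain ⟨c0, T, hT, pT, tr⟩ := h.mc.bt _ (cent_zpowers y ▸ h.mc.cent_ne_top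
    (ne_bot_of_card_prime (Nat.card_zpowers y ▸ hp)) (zpowers_le.2 hy.1)) hk α fa β fb h.ne.symm
  have TQ := h.two_le pT (hT.trans inf_le_right)
  refine ⟨pT.to_le fun z hz => ?_, ?_⟩
  · obtain ⟨s, hs, e⟩ := tr _ (smul_mem_Fx' hz.2 fb) (h.smul_ne (h.QH hz.1))
    exact h.eq_of_smul (TQ hs) hz.1 e ▸ hs
  rw [← h.ncard_orb inf_le_left, ← Nat.add_right_cancel_iff (n := 1), ← c0,
    ← Set.ncard_sdiff_singleton_add_one fa (h.se.finite_Fx _)]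
  congr 2
  ext γ
  refine ⟨?_, fun hγ => ?_⟩
  · rintro ⟨z, hz, rfl⟩
    exact ⟨smul_mem_Fx' hz.2 fb, h.smul_ne (h.QH hz.1)⟩
  · obtain ⟨s, hs, e⟩ := tr γ hγ.1 hγ.2
    exact ⟨s, ⟨TQ hs, (hT hs).1⟩, e⟩

theorem card_core {y a : G} (hy : y ∈ St2 G α β) (hp : (orderOf y).Prime) (ha : a ∈ Av G α)
    (a1 : a ≠ 1) (hc : a ∈ 𝐂[y]) (hk : Rk2 𝐂[y]) (yC : y ∉ 𝐂(Av G α)) :
    𝐨(pCoreOf 2 Q) = 𝐨(Av G α) ^ 2 := by
  obtain ⟨p2, cq⟩ := h.QC_two hy hp ha a1 hc hk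
  have prX : 𝐨(zpowers y).Prime := Nat.card_zpowers y ▸ hp
  have XD := zpowers_le.2 hy
  have cA : 𝐨(Av G α) = 𝐨((Av G α ⊓ 𝐂[y] : Subgroup G)) ^ 𝐨(zpowers y) := by
    have := H1.card_inf_mul_relIndex 𝐂(Av G α) (zpowers y)
    rw [inf_comm, (inf_eq_bot_or_le_of_card_prime prX _).resolve_right fun e =>
      yC (zpowers_le.1 e), card_bot, one_mul] at this
    rw [(h.mc.gl1 h.ne).card_eq_pow XD ha a1 (zpowers_le.2 (mem_cent1_comm.1 hc)), this,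
      cent_zpowers]
  obtain ⟨u, uy, hu, eu⟩ := h.se.exists_swap_Fx (h.mem_Fx hy hp ha a1 hc hy.1)
    (h.mem_Fx hy hp ha a1 hc hy.2) h.ne
  obtain ⟨K, hK, cK, hf⟩ := h.exists_K hu eu
  obtain ⟨F, -, -, -, cm⟩ := h.exists_F
  obtain ⟨n, hn, n3, cA'⟩ := h.mc.card_A' α
  obtain ⟨l, hl, l2, hd, ho⟩ := exists_zsig hn (by omega)
  obtain ⟨P, hP⟩ := exists_isSyl hl K
  have KD : K ≤ St2 G α β := fun k hk => ((hK k).1 hk).1
  have yK : y ∈ 𝐍(K) := mem_norm_of_conj_le (by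
    rintro _ ⟨k, hk, rfl⟩
    obtain ⟨h1, h2⟩ := (hK k).1 hk
    refine (hK _).2 ⟨mul_mem (mul_mem hy h1) (inv_mem hy), ?_⟩
    have c1 := mem_cent1.1 uy
    have c2 := mem_cent1.1 (cent1_inv y ▸ uy)
    calc u * (y * k * y⁻¹) * u = u * y * k * (y⁻¹ * u) := by group
      _ = y * (u * k * u) * y⁻¹ := by rw [← c1, c2]; group
      _ = _ := by rw [h2]; simp [mul_assoc])
  have cK' : IsMulCommutative K := ⟨⟨fun x y => Subtype.ext (cm u hu eu x ((hK x).1 x.2).1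
    ((hK x).1 x.2).2 y ((hK y).1 y.2).1 ((hK y).1 y.2).2)⟩⟩
  have P1 : P ≠ ⊥ := hP.ne_bot hl (by rw [cK, cA']; exact hd)
  have fr : Frob P (zpowers y) := by
    refine ⟨P1, ne_bot_of_card_prime prX, zpowers_le.2
      (hP.norm_le_of_isNilpotent hl (L.isNilpotent_of_isMulCommutative K) yK),
      semiReg_of_card_prime prX (eq_bot_iff.2 fun k hk => ?_)⟩
    by_contra k1
    obtain ⟨j, hj⟩ := hP.pgrp ⟨k, hk.1⟩
    have kA := h.mc.norm_A α (KD (hP.le hk.1)).1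
    refine yC (mem_cent_iff_cent1.2 ((zsig_irr hl l2 ho (elemAb_isPGroup (h.mc.elem α)) cA'
      (congrArg Subtype.val hj) kA (fun e => a1 (semiReg_iff.1 hf.reg k (hP.le hk.1) k1 a
        (h.Ale ha) (mem_cent.1 e a ha).symm)) (B := Av G α ⊓ 𝐂[y]) inf_le_left
      (inf_normalizer_le_normalizer_inf ⟨kA, le_norm_self _ (cent_zpowers y ▸ hk.2)⟩)
      fun e => a1 (mem_bot.1 (e ▸ ⟨ha, hc⟩))).1.ge.trans inf_le_right))
  have pS := H2.isPGroup_pCoreOf 2 Q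
  have SQ := H2.pCoreOf_le 2 Q
  have nS := inf_le_left.trans h.norm_core (a := St2 G α β)
  have := fr.wielandt_fix ((hP.le.trans KD).trans nS) (XD.trans nS) (by
    obtain ⟨k, hk⟩ := exists_card_eq_pow Nat.prime_two pS
    rw [hk]
    exact (Nat.coprime_two_left.2 (odd_of_le (sup_le (hP.le.trans KD) XD)
      (h.se.odd_St2 h.ne))).pow_left k)
    (isSolvable_of_isNilpotent (isNilpotent_of_isPGroup Nat.prime_two pS))
  rw [cent_sup, ← inf_assoc, (hf.reg.mono SQ le_rfl).cent_eq_bot hP.le P1, bot_inf_eq, card_bot,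
    one_pow, one_mul, mul_one, cent_zpowers, show pCoreOf 2 Q ⊓ 𝐂[y] = Q ⊓ 𝐂[y] from
      le_antisymm (inf_le_inf_right _ SQ) (le_inf (h.le_core p2 inf_le_left) inf_le_right), cq,
    ← pow_mul, mul_comm, pow_mul, ← cA] at this
  exact this

end Bp

theorem Ms.ztg (h4 : E4Stmt.{u}) (h : Ms G Ω) : ZTG G := by
  have := h.two
  obtain ⟨α, β, hne⟩ := exists_pair_ne Ω
  obtain ⟨Q, b⟩ := e2Stmt G Ω h α β hne
  refine b.toBp.zt fun X hX hp a ha a1 hc => ?_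
  obtain ⟨y, hy, y1⟩ := (bot_or_exists_ne_one X).resolve_left (ne_bot_of_card_prime hp)
  obtain ⟨x, hx, px⟩ := exists_prime_pow_mem y1
  have xX : x ∈ X := zpowers_le.2 hy hx
  have ax : a ∈ 𝐂[x] := cent_le_cent1 xX hc
  have x1 : x ≠ 1 := fun e => px.one_lt.ne' (by rw [e, orderOf_one])
  refine x1 (mem_bot.1 (h4 G Ω α β Q b.toBp ?_ (fun d hd d1 => ?_) a ha a1 ▸
    ⟨hX xX, mem_cent1_comm.1 ax⟩))
  · by_cases xC : x ∈ 𝐂(Av G α)
    · exact (b.wc x ⟨hX xX, xC⟩ x1).2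
    · exact b.toBp.card_core (hX xX) px ha a1 ax (e3Stmt G Ω α β Q b x (hX xX) px a ha a1 ax) xC
  obtain ⟨w, hw, pw⟩ := exists_prime_pow_mem d1
  have wD : w ∈ St2 G α β := zpowers_le.2 hd hw
  have le : H7.SC.od Q ⊓ 𝐂[d] ≤ Q ⊓ 𝐂[w] := inf_le_inf (Od_normal Q).1
    ((cent_zpowers d).ge.trans (cent_le_cent1 hw))
  by_cases hn : ∀ a ∈ Av G α, a ≠ 1 → a ∉ 𝐂(zpowers w)
  · rw [eq_bot_iff, ← b.toBp.QC_eq_bot pw (Nat.card_zpowers w ▸ b.toBp.ne_two (zpowers_le.2 wD))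
      (isPGroup_of_card_prime (Nat.card_zpowers w)) (zpowers_le.2 wD) hn, cent_zpowers]
    exact le
  push Not at hn
  obtain ⟨c, hc, c1, cw⟩ := hn
  rw [cent_zpowers] at cw
  exact eq_bot_iff.2 fun z hz => eq_one_of_two_odd (b.toBp.QC_two wD pw hc c1 cw
    (e3Stmt G Ω α β Q b w wD pw c hc c1 cw)).1 (odd_Od Q) (le hz) hz.1

theorem endStmt (h4 : E4Stmt.{u}) : C.EndStmt.{u} := fun _ _ _ _ _ _ h => h.ms.ztg h4

end Cfsg.Agent.P14
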