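/-
P14: the induction and S4045, given chapters A, B, C.
-/
import Cfsg.Agent.P14.Z
import Cfsg.Agent.H5.PiClosed
import Cfsg.Agent.P4.Basic

set_option autoImplicit false
set_option linter.unusedSectionVars false
set_option linter.style.haveILetI false

namespace Cfsg.Agent.P14

open Subgroup Cfsg Cfsg.Agent Cfsg.Agent.FT Cfsg.Agent.L
open Cfsg.Agent.H5 (PiHom)

universe u

theorem kh_all (hA : AStmt.{u}) (hB : BStmt.{u}) (hC : CStmt.{u}) (n : ℕ) : KH.{u} n := by
  induction n with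
  | zero => exact fun _ _ _ h => absurd h (Nat.not_lt_zero _)
  | succ n ih =>
    intro L _ _ hn h3 hs na
    have kh := ih.mono (Nat.le_of_lt_succ hn)
    have h2 : 2 ∣ Nat.card L := by
      by_contra h0
      exact na ⟨⟨IsSimpleGroup.comm_iff_isSolvable.2
        (feit_thompson L (P4.odd_iff_not_dvd.2 h0))⟩⟩
    obtain ⟨A, a1, a2, a3⟩ := hA L h3 kh h2
    obtain ⟨A, W, h⟩ := hB L hs na h3 kh A a1 a2 a3
    exact hC L hs h3 kh A W h

variable {G : Type u} [Group G] [Finite G]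

theorem piHom_subgroup {σ : Set ℕ} (h : PiHom σ G) (N : Subgroup G) : PiHom σ N :=
  fun H hH g hg ho x hx => Subtype.ext (h (H.map N.subtype)
    (fun p hp hd => hH p hp (by rwa [card_map_inj N.subtype_injective] at hd)) g
    (le_normalizer_map _ (mem_map_of_mem _ hg)) (by rwa [orderOf_coe]) x (mem_map_of_mem _ hx))

theorem piHom_quotient {σ : Set ℕ} (h : PiHom σ G) (N : Subgroup G) [N.Normal]
    (hN : IsPiSubgroup σᶜ N) : PiHom σ (G ⧸ N) := fun M hM y hy ho => by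
  obtain ⟨x, rfl, h1⟩ := H5.exists_lift_orderOf_eq N y (IsPiNum.coprime ho hN)
  have h2 := h (M.comap (QuotientGroup.mk' N)) (IsPiSubgroup.comap_mk' hN hM) x
    (le_normalizer_comap _ hy) (h1 ▸ ho)
  intro m hm
  obtain ⟨m, rfl⟩ := QuotientGroup.mk'_surjective N m
  rw [← map_mul, ← map_mul, h2 m hm]

theorem piSep_of_kh (kh : ∀ n, KH.{u} n) {σ : Set ℕ} (h2 : 2 ∈ σ) (G : Type u) [Group G]
    [Finite G] : ¬ 3 ∣ Nat.card G → PiHom σ G → PiSep σ G := by
  refine induction_on_card (P := fun G _ _ => ¬ 3 ∣ Nat.card G → PiHom σ G → PiSep σ G) G ?_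
  intro G _ _ ih h3 h
  rcases subsingleton_or_nontrivial G with h0 | h0
  · exact piSep_of_isPiNum (by rw [Nat.card_unique]; exact isPiNum_one σ)
  obtain ⟨N, hN, -⟩ := exists_isMinNormal_le (⊤ : Subgroup G) top_ne_bot
  haveI := hN.1
  by_cases e : N = ⊤
  · subst e
    haveI hs : IsSimpleGroup G := ⟨fun K hK => hN.2.2 K hK le_top⟩
    by_cases na : IsMulCommutative G
    · haveI := H1.isSolvable_of_isMulCommutative na
      exact piSep_of_isSolvable σ
    refine piSep_of_isPiNum fun p hp hd => ?_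
    by_contra h4
    have p2 : p ≠ 2 := fun e => h4 (e ▸ h2)
    obtain ⟨y, w, hy, ww, hw⟩ := (kh _ G (Nat.lt_succ_self _) h3 hs na).exists_inverted h3 hp p2 hd
    have wi := inv_eq_of_mul_eq_one_right ww
    have h5 := h (zpowers y) (fun q hq hqd => by
      rw [Nat.card_zpowers, hy, Nat.prime_dvd_prime_iff_eq hq hp] at hqd
      exact hqd ▸ h4) w (mem_norm_of_conj_le (by
        rw [← zpowers_conj, wi, hw]; exact zpowers_le_of_mem (inv_mem (mem_zpowers y))))
      (fun q hq hqd => (Nat.prime_dvd_prime_iff_eq hq Nat.prime_two).1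
        (hqd.trans (orderOf_dvd_of_pow_eq_one (by rw [pow_two, ww]))) ▸ h2) y (mem_zpowers y)
    rw [← h5, mul_assoc, ww, mul_one] at hw
    have := orderOf_dvd_of_pow_eq_one (show y ^ 2 = 1 by rw [pow_two]; nth_rewrite 1 [hw]; simp)
    exact p2 ((Nat.prime_dvd_prime_iff_eq hp Nat.prime_two).1 (hy ▸ this))
  · have h4 := ih N (card_lt_of_ne_top e) (fun d => h3 (d.trans (card_subgroup_dvd_card N)))
      (piHom_subgroup h N)
    exact h4.of_normal_of_quotient N (ih _ (card_quotient_lt N hN.2.1)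
      (fun d => h3 (d.trans (card_quotient_dvd_card N)))
      ((hN.isPiSubgroup_or h4).elim (h.quotient N) (piHom_quotient h N)))

theorem s4045 (hA : AStmt.{u}) (hB : BStmt.{u}) (hC : CStmt.{u}) (π : Set ℕ)
    (hodd : ∀ p ∈ π, p.Prime ∧ p ≠ 2) (h3 : ¬ 3 ∣ Nat.card G)
    (hhom : (∀ H : Subgroup G, H ≠ ⊥ → (∀ p : ℕ, p.Prime → p ∣ Nat.card ↥H → p ∈ π) →
      ∀ p : ℕ, p.Prime → p ∣ (centralizer (H : Set G)).relIndex (normalizer (H : Set G)) → p ∈ π)) :
    ∃ K : Subgroup G, ∀ x : G, x ∈ K ↔ ∀ p : ℕ, p.Prime → p ∣ orderOf x → p ∉ π := by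
  have h : PiHom πᶜ G := H5.piHom_iff.2 (by simpa using hhom)
  exact H5.closed_iff.2 ⟨piSep_of_kh (σ := πᶜ) (kh_all hA hB hC) (fun e => (hodd 2 e).2 rfl) G h3 h, h⟩

end Cfsg.Agent.P14
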