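/-
P14, chapter N: elements of odd prime power order inverted by an involution of `A` (semisimple case).
-/
import Cfsg.Agent.P14.Defs

set_option autoImplicit false
set_option linter.unusedSectionVars false

namespace Cfsg.Agent.P14

open Subgroup Cfsg Cfsg.Agent Cfsg.Agent.FT
open Cfsg.Agent.H2 (CompIn)
open scoped commutatorElement

universe u

variable {G : Type u} [Group G] [Finite G]

/-- `y ≠ 1` is an `r`-element inverted by `t ∈ A`, and `|A : C_A(y)|` is small. -/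
structure Ex (A : Subgroup G) (y t : G) (r : ℕ) : Prop where
  rp : r.Prime
  r2 : r ≠ 2
  tA : t ∈ A
  y1 : y ≠ 1
  yo : ∃ k : ℕ, y ^ r ^ k = 1
  inv : t * y * t⁻¹ = y⁻¹
  bd : ∀ d : ℕ, 0 < d → r ∣ 2 ^ d - 1 → (𝐂[y] : Subgroup G).relIndex A ^ 4 < 4 * 2 ^ d

namespace N

/-- The span of the conjugates of `L` under `D`. -/
def W (L D : Subgroup G) : Subgroup G := ⨆ d : D, L ^ᵍ (d : G)

theorem le_W (L : Subgroup G) {D : Subgroup G} {d : G} (hd : d ∈ D) : L ^ᵍ d ≤ W L D :=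
  le_iSup (fun d : D => L ^ᵍ (d : G)) ⟨d, hd⟩

theorem W_le {L D K : Subgroup G} (h : ∀ d ∈ D, L ^ᵍ d ≤ K) : W L D ≤ K :=
  iSup_le fun d => h d d.2

theorem comm {A : Subgroup G} (hA : IsElementaryAbelian 2 A) {a b : G} (ha : a ∈ A) (hb : b ∈ A) :
    Commute a b := (mem_cent.1 (isMulComm_iff_le_cent.1 hA.1 hb) a ha)

theorem sq {A : Subgroup G} (hA : IsElementaryAbelian 2 A) {a : G} (ha : a ∈ A) : a * a = 1 :=
  (pow_two a).symm.trans (hA.2 a ha)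

section

variable {X A L : Subgroup G} (hA : IsElementaryAbelian 2 A) (hAX : A ≤ X) (hL : CompIn X L)
include hAX hL

theorem W_cent {D : Subgroup G} (h1 : A ⊓ 𝐍(L) ≤ D) (h2 : D ≤ A) {b : G} (hb : b ∈ A)
    (hn : b ∉ D) : W L D ≤ 𝐂(L ^ᵍ b) := W_le fun d hd =>
  (hL.conj_of_mem_normalizer (le_norm_self X (hAX (h2 hd)))).le_centralizer_of_ne
    (hL.conj_of_mem_normalizer (le_norm_self X (hAX hb))) fun e => hn (by
      have h3 : L ^ᵍ (d⁻¹ * b) = L := by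
        rw [← conj_conj, ← (show L ^ᵍ d = L ^ᵍ b from e), conj_conj_inv]
      simpa using mul_mem hd (h1 (mem_inf.2 ⟨mul_mem (inv_mem (h2 hd)) hb, conj_eq_self_iff.1 h3⟩)))

include hA

theorem extend (D : Subgroup G) (h1 : A ⊓ 𝐍(L) ≤ D) (h2 : D ≤ A) (y : G) (hy : y ∈ W L D) :
    ∃ z ∈ W L A, A ≤ (A ⊓ 𝐂[z]) ⊔ D ∧ A ⊓ 𝐂[y] ≤ 𝐂[z] ∧ y⁻¹ * z ∈ 𝐂(L) ∧
      (∀ r : ℕ, y ^ r = 1 → z ^ r = 1) ∧ ∀ t ∈ A, t * y * t⁻¹ = y⁻¹ → t * z * t⁻¹ = z⁻¹ := by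
  induction D using WellFoundedGT.induction generalizing y with
  | ind D ih =>
  by_cases hD : A ≤ D
  · exact ⟨y, W_le (fun d hd => le_W L (h2 hd)) hy, hD.trans le_sup_right, inf_le_right,
      by simp, fun _ h => h, fun _ _ h => h⟩
  obtain ⟨a, ha, hn⟩ := not_forall₂.1 hD
  have h3 : ∀ d ∈ D, a * y * a⁻¹ ∈ 𝐂(L ^ᵍ d) := fun d hd => by
    have := conj_mem_conj (W_cent hAX hL h1 h2 (mul_mem (inv_mem ha) (h2 hd))
      (by rwa [mul_mem_cancel_right hd, inv_mem_iff]) hy) a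
    rwa [← cent_conj, conj_conj, mul_inv_cancel_left] at this
  have hc : Commute y (a * y * a⁻¹) :=
    (mem_cent1.1 (W_le (fun d hd => mem_cent_iff_cent1.1 (h3 d hd)) hy)).symm
  have h4 : ∀ c ∈ A, c * (y * (a * y * a⁻¹)) * c⁻¹ = c * y * c⁻¹ * (a * (c * y * c⁻¹) * a⁻¹) :=
    fun c hc => by
      rw [← conj_mul]
      congr 1
      calc _ = c * a * y * (c * a)⁻¹ := by group
        _ = _ := by rw [(comm hA hc ha).eq]; group
  obtain ⟨z, hz, k1, k2, k3, k4, k5⟩ := ih (D ⊔ zpowers a)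
    (lt_of_le_of_ne le_sup_left fun e => hn (e ▸ mem_sup_right (mem_zpowers a)))
    (h1.trans le_sup_left) (sup_le h2 (zpowers_le_of_mem ha)) (y * (a * y * a⁻¹))
    (mul_mem (W_le (fun d hd => le_W L (mem_sup_left hd)) hy) (by
      refine conj_le_iff.2 (W_le fun d hd => conj_le_iff.1 ?_) (conj_mem_conj hy a)
      rw [conj_conj]
      exact le_W L (mul_mem (mem_sup_right (mem_zpowers a)) (mem_sup_left hd))))
  refine ⟨z, hz, k1.trans (sup_le le_sup_left (sup_le le_sup_right (zpowers_le_of_mem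
    (mem_sup_left ⟨ha, k2 ⟨ha, mem_cent1_iff_conj.2 ?_⟩⟩)))),
    fun c hc => k2 ⟨hc.1, mem_cent1_iff_conj.2 ?_⟩, ?_, fun r hr => k4 r ?_,
    fun t ht e => k5 t ht ?_⟩
  · rw [h4 a ha, hc.eq]
    congr 1
    calc _ = a * a * y * (a * a)⁻¹ := by group
      _ = y := by rw [sq hA ha]; group
  · rw [h4 c hc.1, mem_cent1_iff_conj.1 hc.2]
  · have := mul_mem (conj_one L ▸ h3 1 (one_mem D)) k3
    rwa [mul_inv_rev y, mul_assoc (a * y * a⁻¹)⁻¹, mul_inv_cancel_left] at this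
  · rw [hc.mul_pow, conj_pow, hr]; group
  · rw [h4 t ht, e, hc.eq]; group

end

end N

open N

theorem syl_comp {X T L : Subgroup G} (hT : IsSyl 2 T X) (hL : CompIn X L) : IsSyl 2 (T ⊓ L) L := by
  have h1 := (hT.inf_normal Nat.prime_two ⟨H2.layerOf_le X, H2.le_normalizer_layerOf X⟩).inf_normal
    Nat.prime_two ⟨hL.le_layerOf, hL.layerOf_le_normalizer⟩
  rwa [inf_assoc, inf_eq_right.2 hL.le_layerOf] at h1

/-- The semisimple case. -/
theorem ex_ss (hZ : ZStmt.{u}) {X T A L : Subgroup G} (hT : IsSyl 2 T X)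
    (hA : IsElementaryAbelian 2 A) (hAT : A ≤ T) (hL : CompIn X L) (hc : L ⊓ 𝐂(L) = ⊥)
    (h3 : ¬ 3 ∣ 𝐨(L)) (hK : KH.{u} (𝐨(L) + 1)) (hn : ¬ A ≤ 𝐂(L)) :
    ∃ y ∈ H2.layerOf X, ∃ t r, Ex A y t r ∧ y ^ r = 1 ∧ ∀ K, T ⊓ L ≤ K → y ∈ K → L ≤ K := by
  have hAX := hAT.trans hT.le
  obtain ⟨Zh, n, r, h⟩ := hZ G L (T ⊓ L) hL.2 (hc ▸ IsPGroup.of_bot) h3 (hK.mono
    (Nat.succ_le_succ (Nat.le_of_dvd Nat.card_pos (relIndex_dvd_card' _ _)))) (syl_comp hT hL)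
  have ZL : Zh ≤ T ⊓ L := fun x hx => ((h.zh x).1 hx).1
  have one : ∀ x ∈ L, x ∈ 𝐂(L) → x = 1 := fun x h1 h2 => mem_bot.1 (hc ▸ mem_inf.2 ⟨h1, h2⟩)
  have CN : 𝐂(L) ≤ 𝐍(T ⊓ L) := (cent_anti inf_le_right).trans (cent_le_norm _)
  have inv0 : ∀ s ∈ Zh, s ∉ 𝐂(L) → ∃ y ∈ L, y ∉ 𝐍(T ⊓ L) ∧ y ^ r = 1 ∧ s * y * s⁻¹ = y⁻¹ ∧
      r ≠ 2 := fun s hs hs' => by
    obtain ⟨y, hy, h1, h2, h4⟩ := h.inv s hs hs'
    have sL := (ZL hs).2
    replace h2 := one _ (pow_mem hy r) h2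
    replace h4 := eq_inv_of_mul_eq_one_left
      (one _ (mul_mem (mul_mem (mul_mem sL hy) (inv_mem sL)) hy) h4)
    refine ⟨y, hy, h1, h2, h4, ?_⟩
    rintro rfl
    refine h1 (le_norm_self _ (h.cent s (ZL hs) hs' y hy ?_))
    rw [← eq_inv_of_mul_eq_one_left ((pow_two y).symm.trans h2), mul_inv_eq_iff_eq_mul] at h4
    rw [commutatorElement_eq_one_iff_mul_comm.2 h4.symm]
    exact one_mem _
  have fin : ∀ y₁ ∈ L, y₁ ∉ 𝐍(T ⊓ L) → r ≠ 2 → ∀ D, A ⊓ 𝐍(L) ≤ D → D ≤ A → ∀ y ∈ W L D,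
      y₁⁻¹ * y ∈ 𝐂(L) → y ^ r = 1 → (𝐂[y] : Subgroup G).relIndex D ≤ 2 ^ n → ∀ t ∈ A,
      t * y * t⁻¹ = y⁻¹ → ∃ y ∈ H2.layerOf X, ∃ t r, Ex A y t r ∧ y ^ r = 1 ∧
        ∀ K, T ⊓ L ≤ K → y ∈ K → L ≤ K := fun y₁ hy₁ h1 r2 D h2 h4 y hy h5 h6 h7 t ht h8 => by
    obtain ⟨z, hz, k1, k2, k3, k4, k5⟩ := extend hA hAX hL D h2 h4 y hy
    have k6 := mul_mem h5 k3
    rw [mul_assoc, mul_inv_cancel_left] at k6
    refine ⟨z, W_le (fun d hd => (hL.conj_of_mem_normalizer (le_norm_self X (hAX hd))).le_layerOf)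
      hz, t, r, ⟨h.prime, r2, ht, fun e => h1 (CN (by simpa [e] using k6)),
        ⟨1, by rw [pow_one, k4 r h6]⟩, k5 t ht h8, fun d hd e => ?_⟩, k4 r h6, fun K hK hz => ?_⟩
    · have h9 : (𝐂[z] : Subgroup G).relIndex A ≤ 2 ^ n := by
        rw [← inf_relIndex_left]
        nth_rw 2 [le_antisymm k1 (sup_le inf_le_left h4)]
        rw [relIndex_sup_of_norm (h4.trans ((isMulComm_iff_le_cent.1 hA.1).trans
          ((cent_anti inf_le_left).trans (cent_le_norm _))))]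
        refine le_trans (relIndex_le_of_le_left (le_inf (inf_le_left.trans h4)
          ((inf_le_inf_right _ h4).trans k2)) FiniteIndex.index_ne_zero) ?_
        rwa [inf_relIndex_left]
      calc _ ≤ (2 ^ n) ^ 4 := Nat.pow_le_pow_left h9 4
        _ ≤ 2 ^ d := by rw [← pow_mul, mul_comm]; exact Nat.pow_le_pow_right two_pos (h.ord d hd e)
        _ < _ := by have := Nat.two_pow_pos d; omega
    · refine (h.ovr (K ⊓ L) (le_inf hK inf_le_right) inf_le_right).elim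
        (fun e => e.ge.trans inf_le_left) fun e => absurd ?_ h1
      have zL : z ∈ 𝐍(L) := (mul_mem_cancel_left (inv_mem (le_norm_self L hy₁))).1
        (cent_le_norm L k6)
      have h9 := mul_mem (H1.le_normalizer_inf (zpowers_le_of_mem (le_norm_self K hz))
        (zpowers_le_of_mem zL) (mem_zpowers z))
        (inv_mem (cent_le_norm _ (cent_anti (inf_le_right : K ⊓ L ≤ L) k6)))
      rw [mul_inv_rev, mul_inv_cancel_left, inv_inv] at h9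
      have h10 := (h.syl.of_le (le_inf hK inf_le_right) inf_le_right).pCoreOf_eq Nat.prime_two e
      exact h10 ▸ H2.normalizer_le_normalizer_pCoreOf 2 _ h9
  by_cases h1 : A ⊓ 𝐍(L) ≤ 𝐂(L)
  · obtain ⟨t, ht, h2⟩ := not_forall₂.1 hn
    obtain ⟨s, hs, h4⟩ := not_forall₂.1 fun e : Zh ≤ 𝐂(L) => by
      have := h.cardZ ▸ relIndex_eq_one.2 e
      have := h.three
      have := Nat.pow_eq_one.1 ‹_ = 1›
      omega
    obtain ⟨y, hy, h5, h6, -, r2⟩ := inv0 s hs h4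
    have h7 : t * y * t⁻¹ ∈ 𝐂(L) := cent_comm.1 (((conj_one L).ge.trans (le_W L (one_mem _))).trans
      (W_cent hAX hL le_rfl inf_le_left ht fun e => h2 (h1 e))) (conj_mem_conj hy t)
    refine fin y hy h5 r2 (A ⊓ 𝐍(L) ⊔ zpowers t) le_sup_left
      (sup_le inf_le_left (zpowers_le_of_mem ht)) (y * (t * y * t⁻¹)⁻¹) (mul_mem (le_W L
        (one_mem _) ((conj_one L).symm ▸ hy)) (inv_mem (le_W L (mem_sup_right (mem_zpowers t))
          (conj_mem_conj hy t)))) (by rw [inv_mul_cancel_left]; exact inv_mem h7) ?_ ?_ t ht ?_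
    · rw [(show Commute y _ from mem_cent.1 (inv_mem h7) y hy).mul_pow, inv_pow, conj_pow, h6]
      group
    · refine (relIndex_le_of_le_left (H := A ⊓ 𝐍(L)) (fun c hc => mem_cent1_comm.1 ?_)
        FiniteIndex.index_ne_zero).trans ?_
      · have h8 := mem_cent1_comm.1 (cent_le_cent1 hy (h1 hc))
        have h9 : t ∈ 𝐂[c] := mem_cent1.2 (comm hA hc.1 ht)
        exact mul_mem h8 (inv_mem (mul_mem (mul_mem h9 h8) (inv_mem h9)))
      · rw [relIndex_sup_of_norm ((zpowers_le_of_mem ht).trans ((isMulComm_iff_le_cent.1 hA.1).trans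
          ((cent_anti inf_le_left).trans (cent_le_norm _))))]
        refine (Nat.le_of_dvd two_pos ((relIndex_dvd_card' _ _).trans ?_)).trans
          (Nat.le_self_pow (by have := h.three; omega) 2)
        rw [Nat.card_zpowers]
        exact orderOf_dvd_of_pow_eq_one (hA.2 t ht)
    · calc _ = t * y * t⁻¹ * (t * t * y * (t * t)⁻¹)⁻¹ := by group
        _ = _ := by rw [sq hA ht]; group
  have dec : ∀ t ∈ A ⊓ 𝐍(L), ∃ s ∈ Zh, ∃ c ∈ 𝐂(L), s * c = t := fun t ht => by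
    obtain ⟨s, hs, c, hc', e⟩ := (mem_sup_of_norm (cent_le_norm L)).1 (h.inner t ht.2
      ⟨1, by rw [pow_one, hA.2 t ht.1]; exact one_mem _⟩)
    have h2 : s * s ∈ 𝐂(L) := by
      have h4 := sq hA ht.1
      rw [← e, (show Commute s c from mem_cent.1 hc' s hs).symm.mul_mul_mul_comm] at h4
      rw [eq_inv_of_mul_eq_one_left h4]
      exact inv_mem (mul_mem hc' hc')
    refine ⟨s, (h.zh s).2 ⟨h.syl.le_of_norm Nat.prime_two (Q := zpowers s) (IsPGroup.iff_card.2 ?_)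
      (zpowers_le_of_mem hs) (zpowers_le_of_mem ?_) (mem_zpowers s), h2⟩, c, hc', e⟩
    · rw [Nat.card_zpowers]
      exact ((Nat.dvd_prime_pow Nat.prime_two (m := 1)).1 (orderOf_dvd_of_pow_eq_one
        ((pow_two s).trans (one _ (mul_mem hs hs) h2)))).imp fun _ h => h.2
    · refine (mul_mem_cancel_right (CN hc')).1 (e ▸ H1.le_normalizer_inf
        (zpowers_le_of_mem (le_norm_self T (hAT ht.1))) (zpowers_le_of_mem ht.2) (mem_zpowers t))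
  obtain ⟨t, ht, h2⟩ := not_forall₂.1 h1
  obtain ⟨s, hs, c, hc', rfl⟩ := dec t ht
  obtain ⟨y, hy, h5, h6, h7, r2⟩ := inv0 s hs (by rwa [mul_mem_cancel_right hc'] at h2)
  refine fin y hy h5 r2 _ le_rfl inf_le_left y (le_W L (one_mem _) ((conj_one L).symm ▸ hy))
    (by simp) h6 ?_ _ ht.1 ?_
  · refine (relIndex_le_of_le_left (cent_le_cent1 hy) FiniteIndex.index_ne_zero).trans
      ((relIndex_le_of_le_right (L := 𝐂(L) ⊔ Zh) (fun t ht => ?_) FiniteIndex.index_ne_zero).trans ?_)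
    · obtain ⟨s, hs, c, hc', rfl⟩ := dec t ht
      exact mul_mem (mem_sup_right hs) (mem_sup_left hc')
    · rw [relIndex_sup_of_norm ((ZL.trans inf_le_right).trans
        (H1.le_normalizer_centralizer (le_norm_self L))), h.cardZ]
  · rw [← h7, ← mem_cent1_iff_conj.1 (cent_le_cent1 hy hc')]
    nth_rw 1 [mem_cent1_iff_conj.1 (cent_le_cent1 hy hc')]
    group

/-- The form used in chapter P. -/
theorem ss (hZ : ZStmt.{u}) {T A L : Subgroup G} (hT : IsSyl 2 T ⊤)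
    (hA : IsElementaryAbelian 2 A) (hAT : A ≤ T) (hL : CompIn ⊤ L) (hc : L ⊓ 𝐂(L) = ⊥)
    (h3 : ¬ 3 ∣ 𝐨(L)) (hK : KH.{u} (𝐨(L) + 1)) (hn : ¬ A ≤ 𝐂(L)) :
    ∃ (r : ℕ) (y t : G) (A0 : Subgroup G), r.Prime ∧ r ≠ 2 ∧ y ^ r = 1 ∧ t ∈ A ∧
      t * y * t⁻¹ = y⁻¹ ∧ A0 ≤ A ∧ y ∈ 𝐂(A0) ∧
      (∀ d, 0 < d → r ∣ 2 ^ d - 1 → A0.relIndex A ^ 4 < 4 * 2 ^ d) ∧
      ∀ K, T ≤ K → y ∈ K → L ≤ K := by
  obtain ⟨y, -, t, r, h, h1, h2⟩ := ex_ss hZ hT hA hAT hL hc h3 hK hn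
  exact ⟨r, y, t, A ⊓ 𝐂[y], h.rp, h.r2, h1, h.tA, h.inv, inf_le_left,
    mem_cent_iff_cent1.2 inf_le_right, by simpa only [inf_relIndex_left] using h.bd,
    fun K hK => h2 K (inf_le_left.trans hK)⟩

end Cfsg.Agent.P14
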