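/-
P14, chapter N: no offenders.
-/
import Cfsg.Agent.P14.N1
import Cfsg.Agent.P14.FP

set_option autoImplicit false
set_option linter.unusedSectionVars false

namespace Cfsg.Agent.P14

open Subgroup Cfsg Cfsg.Agent Cfsg.Agent.FT
open Cfsg.Agent.H2 (CompIn)
open scoped commutatorElement

universe u

variable {G : Type u} [Group G] [Finite G]

open N

theorem N.inv_zp {t g x : G} (h : t * g * t⁻¹ = g⁻¹) (hx : x ∈ zpowers g) : t * x * t⁻¹ = x⁻¹ := by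
  obtain ⟨n, rfl⟩ := mem_zpowers_iff.1 hx
  rw [← conj_zpow, h, inv_zpow]

theorem N.inv_two {t : G} (h : t * t = 1) (w : G) :
    t * (w * (t * w * t⁻¹)⁻¹) * t⁻¹ = (w * (t * w * t⁻¹)⁻¹)⁻¹ := by
  calc _ = t * w * t⁻¹ * (t * t * w * (t * t)⁻¹)⁻¹ := by group
    _ = _ := by rw [h]; group

theorem Ex.of_zp {A : Subgroup G} {y t z : G} {r : ℕ} (h : Ex A y t r)
    (e : zpowers z = zpowers y) : Ex A z t r := by
  obtain ⟨k, hk⟩ := h.yo
  refine ⟨h.rp, h.r2, h.tA, fun e' => h.y1 (zpowers_eq_bot.1 (e ▸ zpowers_eq_bot.2 e')), ⟨k, ?_⟩,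
    inv_zp h.inv (e.le (mem_zpowers z)), by rw [← cent_zpowers, e, cent_zpowers]; exact h.bd⟩
  rwa [← orderOf_dvd_iff_pow_eq_one, ← Nat.card_zpowers, e, Nat.card_zpowers,
    orderOf_dvd_iff_pow_eq_one]

theorem Ex.notMem {A : Subgroup G} {y t : G} {r : ℕ} (h : Ex A y t r) : t ∉ 𝐂[y] := fun e => by
  obtain ⟨k, hk⟩ := h.yo
  have h1 := h.inv
  rw [mem_cent1_iff_conj.1 e, ← mul_eq_one_iff_eq_inv] at h1
  exact h.y1 (mem_bot.1 (fp_mem_of_sq (fp_cop h.rp h.r2 hk) (K := ⊥) (mem_bot.2 h1)))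

/-- Lifting `y` to an `r`-element. -/
theorem exists_lift {H : Type u} [Group H] [Finite H] (f : G →* H) {r k : ℕ} (hr : r.Prime)
    (r2 : r ≠ 2) {w t : G} (hw : f w ^ r ^ k = 1) (hi : f t * f w * (f t)⁻¹ = (f w)⁻¹) :
    ∃ x ∈ zpowers (w * (t * w * t⁻¹)⁻¹), (∃ k : ℕ, x ^ r ^ k = 1) ∧
      zpowers (f x) = zpowers (f w) ∧ (t * t = 1 → t * x * t⁻¹ = x⁻¹) := by
  obtain ⟨a, b, ha, hb, e, -, ⟨j, hj⟩, h1⟩ := H8.exists_pPart_pPrimePart hr (w * (t * w * t⁻¹)⁻¹)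
  have h2 : f (w * (t * w * t⁻¹)⁻¹) = f w * f w := by simp only [map_mul, map_inv, hi, inv_inv]
  have h3 : f b = 1 := by
    have h4 : f b ∈ zpowers (f w) := zpowers_le_of_mem (mul_mem (mem_zpowers _) (mem_zpowers _))
      (by rw [← h2, ← MonoidHom.map_zpowers]; exact mem_map_of_mem f hb)
    exact orderOf_eq_one_iff.1 (Nat.eq_one_of_dvd_coprimes (h1.pow_right k) (orderOf_map_dvd f b)
      ((orderOf_dvd_of_mem_zpowers h4).trans (orderOf_dvd_of_pow_eq_one hw)))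
  refine ⟨a, ha, ⟨j, hj ▸ pow_orderOf_eq_one a⟩, ?_, fun h => inv_zp (inv_two h w) ha⟩
  rw [e, map_mul, h3, mul_one] at h2
  rw [h2]
  exact le_antisymm (zpowers_le_of_mem (mul_mem (mem_zpowers _) (mem_zpowers _)))
    (zpowers_le_of_mem (fp_mem_of_sq (fp_cop hr r2 hw) (mem_zpowers _)))

/-- The case of a normalized subgroup of odd order. -/
theorem ex_odd {A N : Subgroup G} (hA : IsElementaryAbelian 2 A) (hAN : A ≤ 𝐍(N))
    (hN : 𝐨(N).Coprime 2) (h3 : ¬ 3 ∣ 𝐨(N)) (hn : ¬ N ≤ 𝐂(A)) : ∃ y ∈ N, ∃ t r, Ex A y t r := by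
  obtain ⟨B, hB, h1, h2⟩ : ∃ B ≤ A, B.relIndex A = 2 ∧ ¬ N ⊓ 𝐂(B) ≤ 𝐂(A) := by
    by_contra! h
    exact hn (H1.le_of_forall_hyperplane Nat.prime_two hA (fun e => hn (cent_comm.1 (e.trans_le bot_le))) hAN
      (H1.coprime_card_of_isPGroup (H2.isPGroup_of_elemAb hA) hN).symm h)
  obtain ⟨c, hc, h4⟩ := not_forall₂.1 h2
  obtain ⟨t, ht, h5⟩ := not_forall₂.1 (mt mem_cent.2 h4)
  have h6 : c * (t * c * t⁻¹)⁻¹ ∈ N ⊓ 𝐂(B) := mul_mem hc (inv_mem ((mem_normalizer_iff.1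
    (H1.le_normalizer_inf_centralizer_of_comm hA.1 hB hAN ht) c).1 hc))
  have h7 := inv_two (sq hA ht) c
  have h8 : orderOf (c * (t * c * t⁻¹)⁻¹) ≠ 1 := fun e => h5 (by
    rw [orderOf_eq_one_iff, mul_inv_eq_one, eq_mul_inv_iff_mul_eq] at e
    exact e.symm)
  generalize c * (t * c * t⁻¹)⁻¹ = g at h6 h7 h8
  obtain ⟨r, hr, h9⟩ := Nat.exists_prime_and_dvd h8
  have ho := orderOf_pow_orderOf_div (orderOf_pos g).ne' h9
  have h10 := h9.trans (orderOf_dvd_card_of_mem h6.1)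
  have r2 : r ≠ 2 := fun e => Nat.prime_two.coprime_iff_not_dvd.1 hN.symm (e ▸ h10)
  refine ⟨_, pow_mem h6.1 _, t, r, hr, r2, ht, fun e => hr.one_lt.ne' (by rw [← ho, e, orderOf_one]),
    ⟨1, by rw [pow_one]; exact orderOf_dvd_iff_pow_eq_one.1 ho.dvd⟩,
    inv_zp h7 (npow_mem_zpowers _ _), fun d hd e => ?_⟩
  have h11 := h1 ▸ relIndex_le_of_le_left (L := A) (mem_cent_iff_cent1.1
    (pow_mem h6.2 (orderOf g / r))) FiniteIndex.index_ne_zero
  have h12 : 3 ≤ d := by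
    by_contra h
    interval_cases d
    · exact hr.one_lt.ne' (Nat.dvd_one.1 e)
    · exact h3 ((Nat.prime_dvd_prime_iff_eq hr Nat.prime_three).1 e ▸ h10)
  have := Nat.pow_le_pow_left h11 4
  have := Nat.pow_le_pow_right two_pos h12
  omega

/-- Lifting through a kernel of odd order. -/
theorem Ex.lift_odd {H : Type u} [Group H] [Finite H] {f : G →* H} (hf : Function.Surjective f)
    (ho : 𝐨(f.ker).Coprime 2) {A : Subgroup G} (hA : IsElementaryAbelian 2 A) {y s : H} {r : ℕ}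
    (h : Ex (A.map f) y s r) : ∃ x t, Ex A x t r ∧ zpowers (f x) = zpowers y ∧ f t = s := by
  obtain ⟨t, ht, rfl⟩ := h.tA
  have hp : IsPGroup 2 (A ⊓ (𝐂[y]).comap f : Subgroup G) := (H2.isPGroup_of_elemAb hA).to_inf_left
  obtain ⟨w, hw, rfl⟩ := (H1.centralizer_map_of_coprime_ker hf (H1.coprime_card_of_isPGroup hp ho).symm
    (Or.inl (H1.isSolvable_of_isPGroup hp))).le
      (mem_cent_iff_cent1.2 (map_le_iff_le_comap.2 inf_le_right))
  obtain ⟨k, hk⟩ := h.yo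
  obtain ⟨x, hx, h1, h2, h3⟩ := exists_lift f h.rp h.r2 hk h.inv
  have h4 := cent_anti (inf_le_left : A ⊓ (𝐂[f w]).comap f ≤ A) (isMulComm_iff_le_cent.1 hA.1 ht)
  refine ⟨x, t, ⟨h.rp, h.r2, ht, fun e => (h.of_zp h2).y1 (by rw [e, map_one]), h1, h3 (sq hA ht),
    fun d hd e => lt_of_le_of_lt (Nat.pow_le_pow_left ?_ 4) (h.bd d hd e)⟩, h2, rfl⟩
  rw [← relIndex_comap]
  exact H2.relIndex_le_of_inf_le (inf_comm A _ ▸ mem_cent_iff_cent1.1 (zpowers_le_of_mem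
    (mul_mem hw (inv_mem (mul_mem (mul_mem h4 hw) (inv_mem h4)))) hx))

/-- The general case. -/
theorem ex_gen (hZ : ZStmt.{u}) (h3 : ¬ 3 ∣ Nat.card G) (hK : KH.{u} (Nat.card G + 1))
    (hO : pCore 2 G = ⊥) {A : Subgroup G} (hA : IsElementaryAbelian 2 A) (h0 : A ≠ ⊥) :
    ∃ y t r, Ex A y t r := by
  have nO := pPrimeCoreOf_normal 2 (⊤ : Subgroup G)
  have hN : 𝐨(H2.pPrimeCoreOf 2 (⊤ : Subgroup G)).Coprime 2 :=
    (Nat.prime_two.coprime_iff_not_dvd.2 (not_dvd_card_pPrimeCoreOf Nat.prime_two _)).symm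
  have hF := H2.fittingOf_le_sup Nat.prime_two (⊤ : Subgroup G)
  rw [H2.pCoreOf_top, hO, bot_sup_eq] at hF
  have hmax : ∀ K, H2.SnIn ⊤ K → 𝐨(K).Coprime 2 → K ≤ H2.pPrimeCoreOf 2 (⊤ : Subgroup G) :=
    fun K => H2.SnIn.le_pPrimeCoreOf
  generalize H2.pPrimeCoreOf 2 (⊤ : Subgroup G) = N at nO hN hF hmax
  by_cases h1 : N ≤ 𝐂(A)
  swap
  · obtain ⟨y, -, h⟩ := ex_odd hA (le_top.trans nO.2) hN
      (fun e => h3 (e.trans (card_subgroup_dvd_card N))) h1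
    exact ⟨y, h⟩
  have hAp := H2.isPGroup_of_elemAb hA
  obtain ⟨L, hL, h2⟩ : ∃ L, CompIn ⊤ L ∧ ¬ A ≤ 𝐂(L) := by
    by_contra! h
    refine h0 (eq_bot_iff.2 ((le_inf le_rfl (le_trans ?_ hF)).trans
      (H1.inf_eq_bot_of_coprime' (H1.coprime_card_of_isPGroup hAp hN).symm).le))
    refine le_trans (le_inf le_top ?_) (H2.inf_centralizer_fstarOf_le_fittingOf ⊤)
    rw [H2.fstarOf_eq, cent_sup, H2.layerOf_eq_sSup]
    exact le_inf (cent_comm.1 (sSup_le fun K hK => cent_comm.1 (h K hK)))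
      (cent_comm.1 (hF.trans h1))
  haveI : N.Normal := normal_iff_top_le.2 nO.2
  have LN : L ≤ 𝐂(N) := (hL.le_or_le_centralizer (H2.SnIn.of_normal nO.1 nO.2)).resolve_left
    fun e => h2 (cent_comm.1 (e.trans h1))
  have key : ∀ B : Subgroup G, B.map (QuotientGroup.mk' N) ≤ 𝐂(L.map (QuotientGroup.mk' N)) →
      B ≤ 𝐂(L) := fun B hB => by
    have h4 : ⁅L, B⁆ ≤ 𝐂(L) := by
      refine le_trans ?_ (cent_comm.1 LN)
      rw [← QuotientGroup.ker_mk' N, ← Subgroup.map_eq_bot_iff, map_commutator,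
        commutator_eq_bot_iff_le_centralizer]
      exact cent_comm.1 hB
    have h5 := commutator_eq_bot_iff_le_centralizer.2 h4
    exact H1.commutator_eq_bot_iff_le_centralizer'.1 (H2.QS.commutator_eq hL.2 ▸
      commutator_commutator_eq_bot_of_rotate h5 (by rwa [commutator_comm B]))
  have hL' : CompIn ⊤ (L.map (QuotientGroup.mk' N)) := ⟨by
    simpa only [Subgroup.map_top_of_surjective _ (QuotientGroup.mk'_surjective N)] using
      hL.1.map (QuotientGroup.mk' N), H2.QS.map _ hL.2 fun e =>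
      H2.QS.not_le_centralizer hL.2 (key L (e.trans_le bot_le))⟩
  obtain ⟨T, hT, hAT⟩ := exists_isSyl_ge Nat.prime_two (hAp.map (QuotientGroup.mk' N)) le_top
  have hd : 𝐨(L.map (QuotientGroup.mk' N)) ∣ Nat.card G :=
    (card_map_dvd L _).trans (card_subgroup_dvd_card L)
  obtain ⟨y, -, s, r, h, -⟩ := ex_ss hZ hT (H5.elemAb_map _ hA) hAT hL' (by
      refine eq_bot_iff.2 ?_
      rintro _ ⟨⟨x, hx, rfl⟩, h4⟩
      exact mem_bot.2 ((QuotientGroup.eq_one_iff x).2 (hF (hL.inf_centralizer_le_fittingOf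
        ⟨hx, key (zpowers x) (by
          rw [MonoidHom.map_zpowers]; exact zpowers_le_of_mem h4) (mem_zpowers x)⟩))))
    (fun e => h3 (e.trans hd)) (hK.mono (Nat.succ_le_succ (Nat.le_of_dvd Nat.card_pos hd)))
    (mt (key A) h2)
  obtain ⟨x, t, h4, -⟩ := h.lift_odd (QuotientGroup.mk'_surjective N)
    (by rwa [QuotientGroup.ker_mk']) hA
  exact ⟨x, t, r, h4⟩

theorem nStmt (hZ : ZStmt.{u}) : NStmt.{u} := by
  intro G _ _ L V B h3 hK hR hV hn hB hBp A hA h1 h2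
  haveI hN := H1.normal_subgroupOf_of_le (H1.le_normalizer_centralizer hn)
  have hO : pCore 2 (L ⧸ (𝐂(V)).subgroupOf L) = ⊥ := by
    have h3 := hR (H1.unbar L 𝐂(V) (pCore 2 _)) ⟨H1.unbar_le _, H1.le_normalizer_unbar_of_normal _⟩
      fun k hk => by
        obtain ⟨hk1, hk2⟩ := H1.mem_unbar.1 hk
        obtain ⟨n, hn'⟩ := Agent.L.isPGroup_pCore 2 ⟨_, hk2⟩
        refine ⟨n, (H1.qmk_eq_one_iff (y := (⟨k, hk1⟩ : L) ^ 2 ^ n)).1 ?_⟩
        rw [map_pow]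
        exact congrArg Subtype.val hn'
    rw [← H1.bar_unbar (pCore 2 _), H1.bar_eq_bot_iff (H1.unbar_le _)]
    exact h3
  replace hBp := hBp.to_le hA
  replace hA := hA.trans hB
  clear hB B
  induction A using WellFoundedLT.induction with
  | ind A ih =>
  by_cases hAC : A ≤ 𝐂(V)
  · rw [relIndex_eq_one.2 hAC, one_pow]
    exact Nat.one_le_iff_ne_zero.2 FiniteIndex.index_ne_zero
  obtain ⟨y, s, r, h⟩ := ex_gen hZ (fun e => h3 (e.trans (card_quotient_dvd_card _))) hK hO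
    (A := (A.subgroupOf L).map (H1.qmk L 𝐂(V))) ⟨by
      rw [isMulComm_iff_le_cent, ← commutator_eq_bot_iff_le_centralizer, ← map_commutator,
        Subgroup.map_eq_bot_iff]
      exact commutator_le.2 fun a ha b hb => H1.qmk_eq_one_iff.2
        (h1 (commutator_mem_commutator ha hb)), by
      rintro _ ⟨a, ha, rfl⟩
      rw [← map_pow]
      exact H1.qmk_eq_one_iff.2 (h2 a ha)⟩ fun e => hAC fun a ha => H1.qmk_eq_one_iff.1
        (mem_bot.1 (e ▸ mem_map_of_mem (H1.qmk L 𝐂(V)) (x := ⟨a, hA ha⟩) ha))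
  obtain ⟨t, ht, rfl⟩ := h.tA
  obtain ⟨w, rfl⟩ := H1.qmk_surjective y
  obtain ⟨k, hk⟩ := h.yo
  obtain ⟨x, -, ⟨j, hj⟩, h4, -⟩ := exists_lift _ h.rp h.r2 hk h.inv
  replace h := h.of_zp h4
  clear h4 hk w
  obtain ⟨B, hB⟩ : ∃ B, B = A ⊓ ((𝐂[H1.qmk L 𝐂(V) x]).comap (H1.qmk L 𝐂(V))).map L.subtype :=
    ⟨_, rfl⟩
  have hBA : B ≤ A := hB ▸ inf_le_left
  have mB : ∀ a (ha : a ∈ A), a ∈ B ↔ ⁅(x : G), a⁆ ∈ 𝐂(V) := fun a ha => by
    rw [hB, mem_inf, and_iff_right ha, ← show L.subtype ⟨a, hA ha⟩ = a from rfl,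
      mem_map_iff_mem L.subtype_injective, mem_comap, mem_cent1_iff_commute,
      ← commutatorElement_eq_one_iff_commute, ← map_commutatorElement, H1.qmk_eq_one_iff]
    rfl
  have k3 : B.relIndex A = (𝐂[H1.qmk L 𝐂(V) x] : Subgroup _).relIndex
      ((A.subgroupOf L).map (H1.qmk L 𝐂(V))) := by
    rw [hB, inf_relIndex_left, ← relIndex_comap]
    nth_rw 1 [← map_subgroupOf_eq_of_le hA]
    exact relIndex_map_map_of_injective _ _ L.subtype_injective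
  have k4 : A ⊓ 𝐂(V) ≤ B := fun a ha => (mB a ha.1).2 (mul_mem ((mem_normalizer_iff.1
    (H1.le_normalizer_centralizer hn x.2) a).1 ha.2) (inv_mem ha.2))
  have k5 : ⁅zpowers (x : G), B⁆ ≤ 𝐂(V) := by
    rw [commutator_comm]
    refine (H1.le_commStab_iff.1 (zpowers_le_of_mem (H1.mem_commStab.2
      ⟨H1.le_normalizer_centralizer hn x.2, fun b hb => ?_⟩))).2
    simpa using inv_mem ((mB b (hBA hb)).1 hb)
  have hlt : B < A := lt_of_le_of_ne hBA fun e => h.notMem (by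
    have h5 := e.ge ht
    rw [hB] at h5
    exact (mem_map_iff_mem L.subtype_injective).1 h5.2)
  have ih' := ih B hlt ((commutator_mono hBA hBA).trans h1) (fun a ha => h2 a (hBA ha))
    (hBp.to_le hBA) (hBA.trans hA)
  have e1 : 𝐂(V).relIndex A = 𝐂(V).relIndex B * B.relIndex A := by
    rw [← inf_relIndex_left A, ← relIndex_mul_relIndex _ _ _ k4 hBA, inf_comm,
      ← inf_relIndex_right, inf_assoc, inf_eq_right.2 hBA, inf_relIndex_right]
  have e2 : 𝐂(A).relIndex V = 𝐂(A).relIndex (V ⊓ 𝐂(B)) * 𝐂(B).relIndex V := by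
    rw [← inf_relIndex_left V 𝐂(B), ← inf_relIndex_left (V ⊓ 𝐂(B)), relIndex_mul_relIndex _ _ _
      inf_le_left inf_le_left, inf_assoc, inf_eq_right.2 (cent_anti hBA), inf_relIndex_left]
  have hVp := H2.isPGroup_of_elemAb hV
  have hx : (x : G) ^ r ^ j = 1 := congrArg Subtype.val hj
  have key : B.relIndex A ^ 2 ≤ 𝐂(A).relIndex (V ⊓ 𝐂(B)) := by
    by_contra hcon
    have e : V ⊓ 𝐂(B) = V ⊓ 𝐂(B ⊔ 𝐂(V)) := by
      rw [cent_sup, inf_comm 𝐂(B), ← inf_assoc, inf_eq_left.2 (cent_comm.1 le_rfl)]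
    obtain ⟨i, hi⟩ := fp_relIndex_pow hBp B
    have h7 : (x : G) ∈ 𝐍(V ⊓ 𝐂(B)) := by
      rw [e]
      refine H1.le_normalizer_inf (zpowers_le_of_mem (hn x.2))
        (H1.le_normalizer_centralizer (H2.le_normalizer_sup_of_commutator_le
          (zpowers_le_of_mem (H1.le_normalizer_centralizer hn x.2)) ?_)) (mem_zpowers _)
      rw [commutator_comm]
      exact k5.trans le_sup_right
    have h8 := h.bd
    rw [← k3] at h8
    have h9 : ∀ g : G, g ∈ 𝐍((⊥ : Subgroup G)) := fun g => normal_iff_top_le.1 inferInstance (mem_top g)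
    have h5 := fp' h.rp h.r2 (t := (t : G)) hx (Y := V ⊓ 𝐂(B)) (Y0 := ⊥) (C := 𝐂(A))
      hVp.to_inf_left h7 (h9 _) (fun g _ => h9 g) (h9 _) (fun y hy => ?_) (fun c hc => ?_) hi h8
      (not_le.1 hcon)
    · refine h.y1 (H1.qmk_eq_one_iff.2 (H2.mem_centralizer_of_commutator_le_centralizer hV.1 hVp
        (hBp.to_le hBA) (hBA.trans (hA.trans hn)) (hn x.2) (fp_cop h.rp h.r2 hx) k5 fun y hy => ?_))
      rw [cent_zpowers, mem_cent1_comm, mem_cent1_iff_commute]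
      exact commutatorElement_eq_one_iff_commute.1 (mem_bot.1 (h5 y hy))
    · have h6 : ((t * x * t⁻¹ * x : L) : G) ∈ 𝐂(V) := H1.qmk_eq_one_iff.1 (by
        simp only [map_mul, map_inv, h.inv, inv_mul_cancel])
      exact mem_bot.2 (commutatorElement_eq_one_iff_mul_comm.2 (mem_cent.1 h6 y hy.1))
    · exact mem_bot.2 (commutatorElement_eq_one_iff_mul_comm.2 (mem_cent.1 hc t ht).symm)
  rw [e1, e2, mul_pow, mul_comm]
  exact Nat.mul_le_mul key ih'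

end Cfsg.Agent.P14
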