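/-
P14, chapter P, step (P1): `V ≤ O₂(G)`.
-/
import Cfsg.Agent.P14.FP

set_option autoImplicit false
set_option linter.unusedSectionVars false

namespace Cfsg.Agent.P14

open Subgroup Cfsg Cfsg.Agent Cfsg.Agent.FT
open scoped commutatorElement Pointwise

universe u

variable {G : Type u} [Group G] [Finite G]

/-- `x` is an `r`-element inverted by `t ∈ A`, `[A₀, x] ≤ Q`, and `|A : A₀|` is small. -/
structure PuDat (Q A A0 : Subgroup G) (x t : G) (r k : ℕ) : Prop where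
  hr : r.Prime
  hr2 : r ≠ 2
  hx : x ^ r ^ k = 1
  ht : t ∈ A
  inv : t * x * t⁻¹ = x⁻¹
  le : A0 ≤ A
  comm : ∀ a ∈ A0, ⁅a, x⁆ ∈ Q
  big : ∀ d : ℕ, 0 < d → r ∣ 2 ^ d - 1 → A0.relIndex A ^ 4 < 4 * 2 ^ d

namespace PuDat

variable {Q A A0 : Subgroup G} {x t : G} {r k : ℕ}

theorem cop (D : PuDat Q A A0 x t r k) : (orderOf x).Coprime 2 := fp_cop D.hr D.hr2 D.hx

theorem cop' (D : PuDat Q A A0 x t r k) {Y : Subgroup G} (hY : IsPGroup 2 Y) :
    (Nat.card (zpowers x)).Coprime (Nat.card Y) :=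
  have := Fact.mk Nat.prime_two
  H1.coprime_card_of_isPGroup hY (by rw [Nat.card_zpowers]; exact D.cop)

theorem inv' (D : PuDat Q A A0 x t r k) (Y Y0 : Subgroup G) :
    ∀ y ∈ Y, ⁅y, t * x * t⁻¹ * x⁆ ∈ Y0 := fun y _ => by
  rw [D.inv, inv_mul_cancel, commutatorElement_one_right]
  exact one_mem _

/-- `x ∈ ⟨t, t ^ x⟩` -/
theorem mem (D : PuDat Q A A0 x t r k) {K : Subgroup G} (h1 : t ∈ K) (h2 : x * t * x⁻¹ ∈ K) :
    x ∈ K := by
  refine fp_mem_of_sq D.cop ?_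
  convert mul_mem h2 (inv_mem h1) using 1
  calc x * x = x * (t * x * t⁻¹)⁻¹ := by rw [D.inv, inv_inv]
    _ = _ := by group

theorem mem_norm [hQ : Q.Normal] (D : PuDat Q A A0 x t r k) : x ∈ 𝐍(A0 ⊔ Q) :=
  zpowers_le.1 (H2.le_normalizer_sup_of_commutator_le (le_top.trans (normalizer_eq_top Q).ge)
    ((H1.commutator_zpowers_le (le_top.trans (normalizer_eq_top Q).ge (mem_top x)) D.comm).trans
      le_sup_right))

theorem mem_of_mem [hQ : Q.Normal] (D : PuDat Q A A0 x t r k) (h : t ∈ A0 ⊔ Q) : x ∈ Q := by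
  have hn : ∀ K : Subgroup G, K ≤ 𝐍(Q) := fun K => le_top.trans (normalizer_eq_top Q).ge
  have h1 : ⁅A0 ⊔ Q, zpowers x⁆ ≤ Q := by
    rw [commutator_comm]
    refine H1.commutator_sup_le (hn _) (hn _) ?_ (commutator_le_right _ _)
    rw [commutator_comm]
    exact H1.commutator_zpowers_le (hn _ (mem_top x)) D.comm
  have h2 := h1 (commutator_mem_commutator h (mem_zpowers x))
  rw [commutatorElement_def, D.inv, ← mul_inv_rev] at h2
  exact fp_mem_of_sq D.cop (inv_mem_iff.1 h2)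

theorem enlarge [hQ : Q.Normal] (D : PuDat Q A A0 x t r k) :
    PuDat Q A (A ⊓ (A0 ⊔ Q)) x t r k := by
  have hn : ∀ K : Subgroup G, K ≤ 𝐍(Q) := fun K => le_top.trans (normalizer_eq_top Q).ge
  refine ⟨D.hr, D.hr2, D.hx, D.ht, D.inv, inf_le_left, fun a ha => ?_, fun d h1 h2 => ?_⟩
  · have h1 : ⁅A0 ⊔ Q, zpowers x⁆ ≤ Q := by
      rw [commutator_comm]
      refine H1.commutator_sup_le (hn _) (hn _) ?_ (commutator_le_right _ _)
      rw [commutator_comm]
      exact H1.commutator_zpowers_le (hn _ (mem_top x)) D.comm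
    exact h1 (commutator_mem_commutator ha.2 (mem_zpowers x))
  · refine lt_of_le_of_lt (Nat.pow_le_pow_left ?_ 4) (D.big d h1 h2)
    exact relIndex_le_of_le_left (le_inf D.le le_sup_left) (H2.relIndex_pos _ _).ne'

theorem two_le [hQ : Q.Normal] (D : PuDat Q A A0 x t r k) (hx : x ∉ Q) : 2 ≤ A0.relIndex A := by
  have h1 := H2.relIndex_pos A0 A
  have h2 : A0.relIndex A ≠ 1 := fun h =>
    hx (D.mem_of_mem (mem_sup_left (relIndex_eq_one.1 h D.ht)))
  omega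

end PuDat

theorem pu_one {S V Q V1 : Subgroup G} [hQ : Q.Normal] (hc : 𝐂(Q) ≤ Q) (hQS : Q ≤ S)
    (hS : IsPGroup 2 S) (hVS : V ≤ S) (hV : IsElementaryAbelian 2 V) (hSV : S ≤ 𝐍(V))
    (hNF : H2.NF S V) {x t : G} {r k : ℕ} (D1 : PuDat Q V V1 x t r k) : x ∈ Q := by
  by_contra k2
  have D := D1.enlarge
  have k6 : V ⊓ (V ⊓ (V1 ⊔ Q) ⊔ Q) = V ⊓ (V1 ⊔ Q) :=
    le_antisymm (inf_le_inf_left _ (sup_le inf_le_right le_sup_right))
      (le_inf inf_le_left le_sup_left)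
  generalize V ⊓ (V1 ⊔ Q) = V0 at D k6
  have hn : ∀ K : Subgroup G, K ≤ 𝐍(Q) := fun K => le_top.trans (normalizer_eq_top Q).ge
  have hV0 := D.le
  have k3 := D.two_le k2
  set E := V ⊔ MulAut.conj x • V with hE
  have hxE : x ∈ E := D.mem (mem_sup_left D.ht) (mem_sup_right (H2.conj_mem_conj_smul D.ht))
  have hRB : V0 ⊔ Q ≤ S := sup_le (hV0.trans hVS) hQS
  have hxR := H2.mem_normalizer_iff_conj_smul.1 D.mem_norm
  have hVc : V ≤ 𝐂(V) := H2.le_centralizer_of_comm hV.1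
  have hVR : V ≤ 𝐍(V0 ⊔ Q) := H1.le_normalizer_sup
    (H1.le_normalizer_of_le_centralizer (hVc.trans (cent_anti hV0))) (hn _)
  have b1 : ⁅V0 ⊔ Q, V⁆ ≤ V0 :=
    (le_inf (le_normalizer_iff_commutator_le_right.1 (hRB.trans hSV))
      (le_normalizer_iff_commutator_le_left.1 hVR)).trans k6.le
  have b2 : ⁅V0 ⊔ Q, MulAut.conj x • V⁆ ≤ MulAut.conj x • V0 := by
    rw [← hxR, ← H2.conj_smul_commutator]
    exact H2.conj_smul_mono x b1
  have hV0x : MulAut.conj x • V0 ≤ V0 ⊔ Q := hxR ▸ H2.conj_smul_mono x le_sup_left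
  set Y := MulAut.conj x • V0 ⊔ V0 with hY
  have hYR : Y ≤ V0 ⊔ Q := sup_le hV0x le_sup_left
  have n1 : V ≤ 𝐍(Y) := le_normalizer_iff_commutator_le_left.2
    ((commutator_mono hYR le_rfl).trans (b1.trans le_sup_right))
  have n2 : MulAut.conj x • V ≤ 𝐍(Y) := le_normalizer_iff_commutator_le_left.2
    ((commutator_mono hYR le_rfl).trans (b2.trans le_sup_left))
  have b3 : ⁅V0 ⊔ Q, E⁆ ≤ Y :=
    H1.commutator_sup_le n1 n2 (b1.trans le_sup_right) (b2.trans le_sup_left)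
  have hVx := H2.elemAb_conj_smul hV x
  have hV0xe : IsElementaryAbelian 2 (MulAut.conj x • V0) :=
    H5.elemAb_mono (H2.conj_smul_mono x hV0) hVx
  have hZ : 𝐂(V) ⊓ MulAut.conj x • V0 ≤ V0 := by
    intro z hz
    have h1 : E ≤ centralizer ({z} : Set G) := by
      refine sup_le (fun v hv => ?_) fun v hv => ?_
      · rw [mem_centralizer_singleton_iff]
        exact hz.1 v hv
      · rw [mem_centralizer_singleton_iff]
        exact H2.le_centralizer_of_comm hVx.1 (H2.conj_smul_mono x hV0 hz.2) v hv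
    have h2 := H2.mem_conj_smul.1 hz.2
    rwa [mul_assoc, ← mem_centralizer_singleton_iff.1 (h1 hxE), inv_mul_cancel_left] at h2
  have h1 := hNF.of_elemAb (hV0x.trans hRB) hV0xe
  have h2 : 𝐂(MulAut.conj x • V0).relIndex V ≤ (𝐂(V) ⊓ MulAut.conj x • V0).relIndex V :=
    H2.relIndex_le_of_inf_le
      (inf_le_left.trans (inf_le_right.trans (H2.le_centralizer_of_comm hV0xe.1)))
  have h3 := H1.card_inf_mul_relIndex 𝐂(V) (MulAut.conj x • V0)
  have h4 := H1.card_mul_relIndex (hZ.trans hV0)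
  rw [← H1.card_mul_relIndex hV0, ← H2.card_conj_smul V0 x, ← h3, mul_assoc] at h4
  have h5 := Nat.eq_of_mul_eq_mul_left Nat.card_pos h4
  have h6 : 𝐂(V).relIndex (MulAut.conj x • V0) ≤ V0.relIndex V := by
    have := H2.relIndex_pos 𝐂(V) (MulAut.conj x • V0)
    nlinarith
  have h7 : V0.relIndex Y ≤ V0.relIndex V := by
    rw [hY, H1.relIndex_sup_of_le_normalizer (le_normalizer_iff_commutator_le_right.2
      ((commutator_mono hV0x hV0).trans b1))]
    exact (H2.relIndex_le_of_inf_le hZ).trans h6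
  have hb : ∀ K : Subgroup G, K ≤ 𝐍((⊥ : Subgroup G)) := fun K =>
    le_top.trans (normalizer_eq_top ⊥).ge
  obtain ⟨j, hj⟩ := fp_relIndex_pow (H2.isPGroup_of_elemAb hV) V0
  have h8 := fp' D.hr D.hr2 D.hx (hS.to_le (hYR.trans hRB)) (sup_le n1 n2 hxE) (hb _ (mem_top x))
    (hb _) (hb _ (mem_top t)) (D.inv' _ _) (C := V0) (fun c hc' => by
      rw [mem_bot, commutatorElement_eq_one_iff_mul_comm]
      exact hVc D.ht c (hV0 hc')) hj D.big (by nlinarith)
  have h9 : zpowers x ≤ 𝐂(Q) := H1.le_centralizer_of_commutator_le (hn _) (D.cop' (hS.to_le hQS))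
    ((commutator_mono le_sup_right (zpowers_le.2 hxE)).trans b3)
    (H1.commutator_eq_bot_iff_le_centralizer'.1 (le_bot_iff.1
      (H1.commutator_zpowers_le (hb _ (mem_top x)) h8)))
  exact k2 (hc (h9 (mem_zpowers x)))

end Cfsg.Agent.P14
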