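/-
P14, chapter P, step (P2): pushing up with the datum `PuDat`.
-/
import Cfsg.Agent.P14.P1

set_option autoImplicit false
set_option linter.unusedSectionVars false

namespace Cfsg.Agent.P14

open Subgroup Cfsg Cfsg.Agent Cfsg.Agent.FT
open scoped commutatorElement Pointwise

universe u

variable {G : Type u} [Group G] [Finite G]

theorem pu_nf_sup {R U1 U2 : Subgroup G} (h1 : H2.NF R U1) (h2 : H2.NF R U2) :
    H2.NF R (U1 ⊔ U2) := by
  intro X hX k1 k2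
  have c1 : 𝐂(U1 ⊔ U2) ≤ 𝐂(U1) := cent_anti le_sup_left
  have c2 : 𝐂(U1 ⊔ U2) ≤ 𝐂(U2) := cent_anti le_sup_right
  have a1 := h1 X hX (k1.trans c1) fun a ha => c1 (k2 a ha)
  have a2 := h2 (𝐂(U1) ⊓ X) (inf_le_right.trans hX)
    ((commutator_mono inf_le_right inf_le_right).trans (k1.trans c2)) fun a ha => c2 (k2 a ha.2)
  have e1 := relIndex_inf_mul_relIndex 𝐂(U2) 𝐂(U1) X
  have e2 := relIndex_inf_mul_relIndex 𝐂(X) 𝐂(𝐂(U1) ⊓ X) (U1 ⊔ U2)
  rw [inf_eq_left.2 (cent_anti inf_le_right)] at e2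
  have e3 : 𝐂(U2) ⊓ 𝐂(U1) = 𝐂(U1 ⊔ U2) := le_antisymm
    (cent_comm.1 (sup_le (cent_comm.1 inf_le_right) (cent_comm.1 inf_le_left))) (le_inf c2 c1)
  have b1 : 𝐂(X).relIndex U1 ≤ 𝐂(X).relIndex (𝐂(𝐂(U1) ⊓ X) ⊓ (U1 ⊔ U2)) :=
    relIndex_le_of_le_right (le_inf (cent_comm.1 inf_le_left) le_sup_left)
      (H2.relIndex_pos _ _).ne'
  have b2 : 𝐂(𝐂(U1) ⊓ X).relIndex U2 ≤ 𝐂(𝐂(U1) ⊓ X).relIndex (U1 ⊔ U2) :=
    relIndex_le_of_le_right le_sup_right (H2.relIndex_pos _ _).ne'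
  rw [← e3, ← e1, ← e2, mul_pow, mul_comm]
  exact Nat.mul_le_mul (a1.trans b1) (a2.trans b2)

theorem pu_comm {S V Q : Subgroup G} [hQ : Q.Normal] (hQS : Q ≤ S) (hVQ : V ≤ Q)
    (hV : IsElementaryAbelian 2 V) (hNF : H2.NF S V) (l m : G) :
    MulAut.conj l • V ≤ 𝐂(MulAut.conj m • V) := by
  have key : ∀ g : G, MulAut.conj g • Q = Q := fun g =>
    H2.mem_normalizer_iff_conj_smul.1 ((normalizer_eq_top Q).ge (mem_top g))
  have k1 : ∀ g h : G, MulAut.conj g • V ≤ MulAut.conj h • S := fun g h =>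
    ((H2.conj_smul_mono g hVQ).trans ((key g).trans (key h).symm).le).trans
      (H2.conj_smul_mono h hQS)
  have h1 := (hNF.conj m).of_elemAb (k1 l m) (H2.elemAb_conj_smul hV l)
  have h2 := (hNF.conj l).of_elemAb (k1 m l) (H2.elemAb_conj_smul hV m)
  have h3 := H2.relIndex_pos 𝐂(MulAut.conj m • V) (MulAut.conj l • V)
  refine relIndex_eq_one.1 ?_
  generalize 𝐂(MulAut.conj m • V).relIndex (MulAut.conj l • V) = a at h1 h2 h3 ⊢
  generalize 𝐂(MulAut.conj l • V).relIndex (MulAut.conj m • V) = b at h1 h2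
  by_contra h
  have h4 : 2 ≤ a := by omega
  have h5 : 2 * a ≤ b := by nlinarith
  nlinarith

theorem pu_nclIn {E R V : Subgroup G} (hV : IsElementaryAbelian 2 V)
    (hc : ∀ l ∈ E, ∀ m ∈ E, MulAut.conj l • V ≤ 𝐂(MulAut.conj m • V))
    (h1 : ∀ l ∈ E, H2.NF R (MulAut.conj l • V)) (h2 : ∀ l ∈ E, R ≤ 𝐍(MulAut.conj l • V)) :
    IsElementaryAbelian 2 (H2.nclIn E V) ∧ H2.NF R (H2.nclIn E V) ∧ R ≤ 𝐍(H2.nclIn E V) := by
  obtain ⟨W, ⟨w1, w2, w3, w4⟩, hmax⟩ := (wellFounded_gt (α := Subgroup G)).has_min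
    {W | W ≤ H2.nclIn E V ∧ IsElementaryAbelian 2 W ∧ H2.NF R W ∧ R ≤ 𝐍(W)}
    ⟨MulAut.conj (1 : G) • V, H2.conj_le_nclIn V (one_mem E), H2.elemAb_conj_smul hV 1,
      h1 1 (one_mem E), h2 1 (one_mem E)⟩
  have h3 : H2.nclIn E V ≤ W := H2.nclIn_le_iff.2 fun l hl => by
    by_contra hn
    refine hmax (W ⊔ MulAut.conj l • V) ⟨sup_le w1 (H2.conj_le_nclIn V hl),
      H2.elemAb_sup_of_le_centralizer w2 (H2.elemAb_conj_smul hV l)
        (w1.trans (H2.nclIn_le_iff.2 fun m hm => hc m hm l hl)),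
      pu_nf_sup w3 (h1 l hl), H1.le_normalizer_sup w4 (h2 l hl)⟩ ?_
    exact lt_of_le_of_ne le_sup_left fun e => hn (e ▸ le_sup_right)
  rw [le_antisymm h3 w1]
  exact ⟨w2, w3, w4⟩

theorem pu_le_of_le_sup_comm {U V R : Subgroup G} (hU : IsPGroup 2 U) (hR : IsPGroup 2 R)
    (hRU : R ≤ 𝐍(U)) (hUV : U ≤ 𝐍(V)) (hRV : R ≤ 𝐍(V)) (h : U ≤ ⁅U, R⁆ ⊔ V) : U ≤ V := by
  have := Fact.mk Nat.prime_two
  have hN := H1.normal_subgroupOf_of_le (le_refl 𝐍(V))
  by_contra hn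
  have h1 := H2.commutator_lt_of_isPGroup (H1.isPGroup_bar (Y := 𝐍(V)) (N := V) hU)
    (H1.isPGroup_bar hR) (H1.bar_le_normalizer hRU) fun e => hn ((H1.bar_eq_bot_iff hUV).1 e)
  rw [← H1.bar_commutator hUV hRV] at h1
  exact h1.not_ge ((H1.bar_le_bar_iff (le_norm_self V) hUV
    ((H1.commutator_le_of_le_normalizer hRU).trans hUV)).2 h)

theorem pu_two {S V Q A A0 : Subgroup G} [hQ : Q.Normal] (hQS : Q ≤ S)
    (hS : IsPGroup 2 S) (hVQ : V ≤ Q) (hV : IsElementaryAbelian 2 V) (hSV : S ≤ 𝐍(V))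
    (hNF : H2.NF S V) (hA : A ∈ H5.elemMax 2 S) {x t : G} {r k : ℕ}
    (D : PuDat Q A A0 x t r k) : x ∈ 𝐍(V) := by
  by_contra hxV
  have hn : ∀ K : Subgroup G, K ≤ 𝐍(Q) := fun K => le_top.trans (normalizer_eq_top Q).ge
  have hb : ∀ K : Subgroup G, K ≤ 𝐍((⊥ : Subgroup G)) := fun K =>
    le_top.trans (normalizer_eq_top ⊥).ge
  have k3 := D.two_le fun h => hxV (hSV (hQS h))
  have hAe := hA.2.1
  have hA0 := D.le
  have hAc : A ≤ 𝐂(A) := H2.le_centralizer_of_comm hAe.1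
  have hVA : V ≤ A := hNF.le_of_mem_elemMax (hVQ.trans hQS) hV hA
  obtain ⟨j, hj⟩ := fp_relIndex_pow (H2.isPGroup_of_elemAb hAe) A0
  set X := zpowers x with hX
  set E := A ⊔ X with hE
  set R := A0 ⊔ Q with hR
  have hxE : x ∈ E := mem_sup_right (mem_zpowers x)
  have htE : t ∈ E := mem_sup_left D.ht
  have hER : E ≤ 𝐍(R) := sup_le (H1.le_normalizer_sup
    (H1.le_normalizer_of_le_centralizer (hAc.trans (cent_anti hA0))) (hn _))
    (zpowers_le.2 D.mem_norm)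
  have hRS : R ≤ S := sup_le (hA0.trans hA.1) hQS
  have hRp : IsPGroup 2 R := hS.to_le hRS
  have hRl : ∀ l ∈ E, R ≤ MulAut.conj l • S := fun l hl => by
    rw [← H2.mem_normalizer_iff_conj_smul.1 (hER hl)]
    exact H2.conj_smul_mono l hRS
  obtain ⟨hUe, hUN, hRU⟩ := pu_nclIn (E := E) (R := R) hV
    (fun l _ m _ => pu_comm hQS hVQ hV hNF l m)
    (fun l hl Y hY => hNF.conj l Y (hY.trans (hRl l hl))) fun l hl => (hRl l hl).trans (by
      rw [H2.normalizer_conj_smul]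
      exact H2.conj_smul_mono l hSV)
  have hEU := H2.le_normalizer_nclIn E V
  have hVU := H2.le_nclIn E V
  have hUQ : H2.nclIn E V ≤ Q := H2.nclIn_le_of_normal hVQ (hn _)
  have hUmin : ∀ W : Subgroup G, V ≤ W → E ≤ 𝐍(W) → H2.nclIn E V ≤ W := fun W =>
    H2.nclIn_le_of_normal
  generalize H2.nclIn E V = U at hUe hUN hRU hEU hVU hUQ hUmin
  have hUp := H2.isPGroup_of_elemAb hUe
  have hUc : U ≤ 𝐂(U) := H2.le_centralizer_of_comm hUe.1
  have hA0e := H5.elemAb_mono hA0 hAe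
  set A1 := 𝐂(U) ⊓ A0 with hA1
  have hA1c : A1 ≤ 𝐂(A) := (inf_le_right.trans hA0).trans hAc
  have hA1t : ∀ c ∈ A1, ⁅c, t⁆ ∈ (⊥ : Subgroup G) := fun c hc => by
    rw [mem_bot, commutatorElement_eq_one_iff_mul_comm]
    exact (hA1c hc t D.ht).symm
  have s1 := hUN.of_elemAb le_sup_left hA0e
  have s2 : 𝐂(A0).relIndex U ≤ A1.relIndex U :=
    H2.relIndex_le_of_inf_le (inf_le_left.trans (hA1c.trans (cent_anti hA0)))
  have s3 := H2.card_sup_eq_mul_relIndex (A := A1) (N := U)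
    (H1.le_normalizer_of_le_centralizer inf_le_left)
  have s4 := H1.card_inf_mul_relIndex 𝐂(U) A0
  have s5 := H1.card_mul_relIndex hA0
  have s6 := hA.2.2 _ (sup_le (inf_le_right.trans (hA0.trans hA.1)) (hUQ.trans hQS))
    (H2.elemAb_sup_of_le_centralizer (H5.elemAb_mono inf_le_right hA0e) hUe
      (inf_le_left : A1 ≤ _))
  rw [← s4, mul_assoc] at s5
  rw [s3, ← s5] at s6
  have s7 := Nat.le_of_mul_le_mul_left s6 Nat.card_pos
  have s8 : 𝐂(U).relIndex A0 ≤ A0.relIndex A := by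
    have := H2.relIndex_pos 𝐂(U) A0
    nlinarith
  have s9 : A1.relIndex U ≤ A0.relIndex A ^ 2 := by nlinarith
  have s10 : A0.relIndex A ^ 2 ≤ A1.relIndex U := by
    by_contra h
    have h1 := fp' D.hr D.hr2 D.hx hUp (hEU hxE) (hb _ (mem_top x)) (hb _) (hb _ (mem_top t))
      (D.inv' _ _) hA1t hj D.big (not_le.1 h)
    exact hxV (H1.le_normalizer_of_le_centralizer (H1.commutator_eq_bot_iff_le_centralizer'.1
      (le_bot_iff.1 (H1.commutator_zpowers_le (hb _ (mem_top x)) fun v hv => h1 v (hVU hv))))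
      (mem_zpowers x))
  set Z := ⁅U, R⁆ with hZ
  have hZU : Z ≤ U := H1.commutator_le_of_le_normalizer hRU
  have hEZ : E ≤ 𝐍(Z) := H1.le_normalizer_commutator hEU hER
  have hUZ : U ≤ 𝐍(Z) := H1.le_normalizer_of_le_centralizer (hUc.trans (cent_anti hZU))
  have hZx : X ≤ 𝐂(Z) := by
    obtain ⟨C, hC, -⟩ := H2.exists_commKer (Y := U) (K := Z)
      ((commutator_eq_bot_iff_le_centralizer.2 hUc).le.trans bot_le) hUZ (hEU htE)
    have c1 : ¬ C.relIndex U < A0.relIndex A ^ 2 := fun h => by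
      have h1 := fp' D.hr D.hr2 D.hx hUp (hEU hxE) (hEZ hxE) hUZ (hEZ htE) (D.inv' _ _)
        (fun c hc => ((hC c).1 hc).2) hj D.big h
      have h2 : U ≤ Z ⊔ V := hUmin _ le_sup_right (sup_le (H1.le_normalizer_sup
        (le_sup_left.trans hEZ) (H1.le_normalizer_of_le_centralizer (hAc.trans (cent_anti hVA))))
        (le_normalizer_iff_commutator_le_left.2 ((commutator_mono (sup_le hZU hVU) le_rfl).trans
          ((H1.commutator_zpowers_le (hEZ hxE) h1).trans le_sup_left))))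
      have h3 := pu_le_of_le_sup_comm hUp hRp hRU
        (H1.le_normalizer_of_le_centralizer (hUc.trans (cent_anti hVU))) (hRS.trans hSV) h2
      exact hxV (le_antisymm h3 hVU ▸ hEU hxE)
    have c2 := relIndex_inf_mul_relIndex A1 C U
    have c3 : (A1 ⊓ C).relIndex U ≤ A1.relIndex U := H2.relIndex_le_of_inf_le
      (le_inf inf_le_left fun c hc => (hC c).2 ⟨hc.2, by
        rw [mem_bot.1 (hA1t c hc.1)]; exact one_mem _⟩)
    have c4 : A1.relIndex Z ≤ A1.relIndex (C ⊓ U) := relIndex_le_of_le_right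
      (le_inf (fun z hz => (hC z).2 ⟨hZU hz, le_normalizer_iff_commutator_le_left.1 hEZ
        (commutator_mem_commutator hz htE)⟩) hZU) (H2.relIndex_pos _ _).ne'
    have c5 : A1.relIndex Z < A0.relIndex A ^ 2 := by
      have h1 : A1.relIndex Z * A0.relIndex A ^ 2 ≤ 1 * A0.relIndex A ^ 2 := by
        rw [one_mul]
        exact (Nat.mul_le_mul c4 (not_lt.1 c1)).trans (c2.le.trans (c3.trans s9))
      have h2 := Nat.le_of_mul_le_mul_right h1 (by positivity)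
      nlinarith
    have h1 := fp' D.hr D.hr2 D.hx (hUp.to_le hZU) (hEZ hxE) (hb _ (mem_top x)) (hb _)
      (hb _ (mem_top t)) (D.inv' _ _) hA1t hj D.big c5
    exact H1.commutator_eq_bot_iff_le_centralizer'.1
      (le_bot_iff.1 (H1.commutator_zpowers_le (hb _ (mem_top x)) h1))
  have hXR : X ≤ 𝐍(R) := le_sup_right.trans hER
  set N := ⁅R, X⁆ with hN
  have hNR : N ≤ R := H1.commutator_le_of_le_normalizer hXR
  have v0 : ∀ W : Subgroup G, X ≤ 𝐂(W) → ⁅W, R⁆ ≤ Z → N ≤ 𝐂(W) := fun W h1 h2 =>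
    commutator_eq_bot_iff_le_centralizer.1 (commutator_commutator_eq_bot_of_rotate
      (by rw [commutator_eq_bot_iff_le_centralizer.2 h1, commutator_bot_left])
      (H1.commutator_eq_bot_iff_le_centralizer'.2 (hZx.trans (cent_anti h2))))
  have v1 : N ≤ 𝐂(Z) := v0 Z hZx (commutator_mono hZU le_rfl)
  have v2 : N ≤ 𝐂(U ⊓ 𝐂(X)) := v0 _ (cent_comm.1 inf_le_right) (commutator_mono inf_le_left le_rfl)
  have v2' : ⁅⁅U, N⁆, N⁆ = ⊥ :=
    H1.commutator_eq_bot_iff_le_centralizer'.2 (v1.trans (cent_anti (commutator_mono le_rfl hNR)))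
  have v3 : ⁅N, N⁆ ≤ 𝐂(U) := commutator_eq_bot_iff_le_centralizer.1
    (commutator_commutator_eq_bot_of_rotate (by rw [commutator_comm N U]; exact v2') v2')
  have v4 : ∀ t ∈ N, t ^ 2 ∈ 𝐂(U) := fun t ht u hu => by
    have h1 : ⁅u⁻¹, t⁆ ∈ Z := commutator_mem_commutator (inv_mem hu) (hNR ht)
    have h2 : t * ⁅u⁻¹, t⁆ = ⁅u⁻¹, t⁆ * t := (v1 ht _ h1).symm
    have h3 := hUe.2 _ (hZU h1)
    have h4 : t * u = u * ⁅u⁻¹, t⁆ * t := by rw [commutatorElement_def]; group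
    generalize ⁅u⁻¹, t⁆ = c at h2 h3 h4
    calc u * t ^ 2 = u * (c ^ 2) * t * t := by rw [h3, pow_two, mul_one, mul_assoc]
      _ = u * c * (c * t) * t := by simp only [pow_two, mul_assoc]
      _ = u * c * (t * c) * t := by rw [h2]
      _ = (u * c * t) * c * t := by simp only [mul_assoc]
      _ = (t * u) * c * t := by rw [h4]
      _ = t * (u * c * t) := by simp only [mul_assoc]
      _ = t ^ 2 * u := by rw [← h4, pow_two, mul_assoc]
  have w1 := hUN N hNR v3 v4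
  have w2 : 𝐂(N).relIndex U ≤ (A1 ⊓ MulAut.conj x • A1).relIndex U := by
    refine H2.relIndex_le_of_inf_le (le_trans (le_inf inf_le_right ?_) (cent_comm.1 v2))
    rw [cent_comm]
    exact H1.commutator_eq_bot_iff_le_centralizer'.1 (le_bot_iff.1 (H1.commutator_zpowers_le
      (hb _ (mem_top x)) fun c hc => fp_two D.cop (hb _ (mem_top x)) (hb _ (mem_top t))
        (D.inv' U _) hA1t c hc.1 hc.2))
  have w3 : 𝐂(U).relIndex N ≤ A0.relIndex A ^ 2 :=
    (pow_le_pow_iff_left₀ (Nat.zero_le _) (Nat.zero_le _) two_ne_zero).1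
      (w1.trans (w2.trans ((fp_relIndex_le (hEU hxE)).trans (Nat.pow_le_pow_left s9 2))))
  have hEC : E ≤ 𝐍(𝐂(U)) := H1.le_normalizer_centralizer hEU
  have w4 := fp0 D.hr D.hr2 D.hx (hRp.to_le hNR) (H1.le_normalizer_commutator_self (mem_zpowers x))
    (hEC hxE) (hNR.trans (H1.le_normalizer_centralizer hRU)) (D := 𝐂(U))
    (fun c hc _ => le_normalizer_iff_commutator_le_left.1 hEC (commutator_mem_commutator hc hxE))
    fun d h1 h2 => by
      have h3 := D.big d h1 h2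
      have h4 : 4 * A0.relIndex A ^ 2 ≤ A0.relIndex A ^ 4 := by
        rw [show A0.relIndex A ^ 4 = A0.relIndex A ^ 2 * A0.relIndex A ^ 2 by ring]
        exact Nat.mul_le_mul_right _ (Nat.pow_le_pow_left k3 2)
      omega
  have w5 : N ≤ 𝐂(U) := by
    rw [hN, ← H1.commutator_commutator_eq hXR (D.cop' hRp)]
    exact H1.commutator_zpowers_le (hEC hxE) w4
  have w6 : E ≤ 𝐍(A0 ⊔ 𝐂(U)) := sup_le (H1.le_normalizer_sup
    (H1.le_normalizer_of_le_centralizer (hAc.trans (cent_anti hA0))) (le_sup_left.trans hEC))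
    (H2.le_normalizer_sup_of_commutator_le (le_sup_right.trans hEC)
      ((commutator_mono le_sup_left le_rfl).trans (w5.trans le_sup_right)))
  have w7 : A0 ≤ 𝐂(U) := le_sup_left.trans (cent_comm.1 (hUmin _ (cent_comm.1
    (sup_le (hA0.trans (hAc.trans (cent_anti hVA))) (cent_anti hVU)))
    (H1.le_normalizer_centralizer w6)))
  rw [relIndex_eq_one.2 w7] at s7
  nlinarith

end Cfsg.Agent.P14
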