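/-
P14, chapter P: pushing up without solvability.
-/
import Cfsg.Agent.P14.P2
import Cfsg.Agent.P14.N1
import Cfsg.Agent.FT.Final

set_option autoImplicit false
set_option linter.unusedSectionVars false

namespace Cfsg.Agent.P14

open Subgroup Cfsg Cfsg.Agent Cfsg.Agent.FT
open scoped commutatorElement Pointwise

universe u

variable {G : Type u} [Group G] [Finite G]

theorem pu_noS3 (h : ¬ 3 ∣ Nat.card G) : H2.NoS3 (⊤ : Subgroup G) := fun E _ φ hφ => h (by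
  refine (Dvd.dvd.trans ?_ (card_dvd_of_surjective φ hφ)).trans (card_subgroup_dvd_card E)
  rw [Nat.card_perm, Nat.card_fin]
  decide)

/-- a normal subgroup `E` that is not in `K`, or whose Sylow subgroup is trivial -/
theorem pu_frattini (h2 : pCore 2 G = ⊥) {S K E : Subgroup G} (hS : IsSyl 2 S ⊤) (hK : K ≠ ⊤)
    (hmin : ∀ Y : Subgroup G, Y ≠ ⊤ → S ≤ Y → Y ≤ K) (hE : E ⊲ ⊤)
    (hEK : E ≤ K) : S ⊓ E = ⊥ := by
  have hT := hS.inf_normal Nat.prime_two hE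
  by_cases h3 : 𝐍(S ⊓ E) = ⊤
  · have h4 := le_pCoreOf (H := ⊤) ⟨le_top, h3.ge⟩ hT.pgrp
    rwa [H2.pCoreOf_top, h2, le_bot_iff] at h4
  · refine (hK (top_le_iff.1 ?_)).elim
    rw [← hT.frattini Nat.prime_two hE]
    exact sup_le hEK (inf_le_right.trans (hmin _ h3
      (H1.le_normalizer_inf (le_norm_self S) (le_top.trans hE.2))))

theorem pu_comp (h2 : pCore 2 G = ⊥) (ho : pPrimeCore 2 G = ⊥) {S K B : Subgroup G}
    (hS : IsSyl 2 S ⊤) (hK : K ≠ ⊤) (hSK : S ≤ K)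
    (hmin : ∀ Y : Subgroup G, Y ≠ ⊤ → S ≤ Y → Y ≤ K) (hB : IsPGroup 2 B) (hSB : S ≤ 𝐍(B))
    (hB0 : B ≠ ⊥) : ∃ L, H2.CompIn ⊤ L ∧ L ⊓ 𝐂(L) = ⊥ ∧ ¬ L ≤ K ∧ ¬ B ≤ 𝐂(L) := by
  have hF : fittingOf (⊤ : Subgroup G) = ⊥ := le_bot_iff.1 (by
    have := H2.fittingOf_le_sup Nat.prime_two (⊤ : Subgroup G)
    rwa [H2.pCoreOf_top, H2.pPrimeCoreOf_top, h2, ho, bot_sup_eq] at this)
  have hE : H2.layerOf (⊤ : Subgroup G) ⊲ ⊤ := ⟨le_top, H2.le_normalizer_layerOf ⊤⟩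
  have hEK : ¬ H2.layerOf (⊤ : Subgroup G) ≤ K := fun h => by
    have h1 := pu_frattini h2 hS hK hmin hE h
    have h3 := (hS.inf_normal Nat.prime_two hE).ndvd
    rw [h1, relIndex_bot_left] at h3
    have h4 := le_pPrimeCoreOf hE ((Nat.coprime_comm.1
      ((Nat.Prime.coprime_iff_not_dvd Nat.prime_two).2 h3)))
    rw [H2.pPrimeCoreOf_top, ho, le_bot_iff] at h4
    have h5 := H2.inf_centralizer_fittingOf_le_of_layerOf_eq_bot h4
    rw [hF, cent_bot, inf_idem] at h5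
    exact hK (top_le_iff.1 (h5.trans bot_le))
  by_contra hcon
  push Not at hcon
  have hc : ∀ L, H2.CompIn ⊤ L → ¬ L ≤ K → B ≤ 𝐂(L) := fun L hL =>
    hcon L hL (le_bot_iff.1 (hF ▸ hL.inf_centralizer_le_fittingOf))
  have h1 : ¬ sSup {L | H2.CompIn ⊤ L ∧ ¬ L ≤ K} ≤ K := fun h => hEK (by
    rw [H2.layerOf_eq_sSup]
    refine sSup_le fun L hL => ?_
    by_contra hn
    exact hn ((le_sSup (show L ∈ {L | H2.CompIn ⊤ L ∧ ¬ L ≤ K} from ⟨hL, hn⟩)).trans h))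
  have h3 : sSup {L | H2.CompIn ⊤ L ∧ ¬ L ≤ K} ⊔ S = ⊤ := by
    by_contra h
    exact h1 (le_sup_left.trans (hmin _ h le_sup_right))
  have h4 := le_pCoreOf (H := ⊤) (N := B) ⟨le_top, h3.ge.trans (sup_le
    (H1.le_normalizer_of_le_centralizer (sSup_le fun L hL => cent_comm.1 (hc L hL.1 hL.2))) hSB)⟩ hB
  rw [H2.pCoreOf_top, h2, le_bot_iff] at h4
  exact hB0 h4

theorem pu_lift {H H' : Type u} [Group H] [Finite H] [Group H'] [Finite H'] (f : G →* H)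
    (hf : Function.Surjective f) (g : H →* H') (hg : Function.Surjective g)
    (hk : (Nat.card g.ker).Coprime 2) {A : Subgroup G} (hA : IsElementaryAbelian 2 A) {r : ℕ}
    {y t : H'} {B : Subgroup H'} (hr : r.Prime) (hr2 : r ≠ 2) (hy : y ^ r = 1)
    (ht : t ∈ (A.map f).map g) (hinv : t * y * t⁻¹ = y⁻¹) (hB : B ≤ (A.map f).map g)
    (hyB : y ∈ 𝐂(B))
    (hb : ∀ d, 0 < d → r ∣ 2 ^ d - 1 → B.relIndex ((A.map f).map g) ^ 4 < 4 * 2 ^ d) :
    ∃ x t A0 k, PuDat f.ker A A0 x t r k ∧ y ∈ zpowers (g (f x)) := by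
  have := Fact.mk Nat.prime_two
  obtain ⟨_, ⟨t, ht, rfl⟩, rfl⟩ := ht
  have hA' := H5.elemAb_map f hA
  have hp : IsPGroup 2 (A.map f ⊓ B.comap g : Subgroup H) :=
    (H2.isPGroup_of_elemAb hA').to_le inf_le_left
  have e1 : (A.map f ⊓ B.comap g).map g = B := by
    rw [inf_comm]
    exact H5.map_comap_inf_eq g hB
  rw [← e1, H1.centralizer_map_of_coprime_ker hg (H1.coprime_card_of_isPGroup hp hk).symm
    (Or.inl (H1.isSolvable_of_isPGroup hp))] at hyB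
  obtain ⟨w, hw, rfl⟩ := hyB
  obtain ⟨v, rfl⟩ := hf w
  have ht2 : t * t = 1 := by rw [← pow_two]; exact hA.2 t ht
  have htc : f t ∈ 𝐂(A.map f ⊓ B.comap g) :=
    cent_anti inf_le_left (H2.le_centralizer_of_comm hA'.1 (mem_map_of_mem f ht))
  obtain ⟨z, hz⟩ : ∃ z, z = v * (t * v⁻¹ * t⁻¹) := ⟨_, rfl⟩
  have z1 : t * z * t⁻¹ = z⁻¹ := by
    rw [hz]
    calc _ = t * v * (t * t) * t⁻¹ * v⁻¹ * (t * t)⁻¹ := by group
      _ = _ := by rw [ht2]; group
  have z2 : f z ∈ 𝐂(A.map f ⊓ B.comap g) := by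
    rw [hz, map_mul, map_mul, map_mul, map_inv, map_inv]
    exact mul_mem hw (mul_mem (mul_mem htc (inv_mem hw)) (inv_mem htc))
  have z3 : g (f z) = g (f v) ^ 2 := by
    rw [hz]
    simp only [map_mul, map_inv]
    rw [pow_two]
    congr 1
    calc _ = (g (f t) * g (f v) * (g (f t))⁻¹)⁻¹ := by group
      _ = _ := by rw [hinv, inv_inv]
  obtain ⟨k, m, hm, hkm⟩ := Nat.exists_eq_pow_mul_and_not_dvd (orderOf_pos z).ne' r hr.ne_one
  refine ⟨z ^ m, t, A ⊓ (B.comap g).comap f, k, ⟨hr, hr2, ?_, ht, ?_, inf_le_left,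
    fun a ha => ?_, fun d h1 h2 => ?_⟩, ?_⟩
  · rw [← pow_mul, mul_comm, ← hkm, pow_orderOf_eq_one]
  · rw [← conj_pow, z1, inv_pow]
  · rw [MonoidHom.mem_ker, map_commutatorElement, commutatorElement_eq_one_iff_mul_comm, map_pow]
    exact pow_mem z2 m _ ⟨mem_map_of_mem f ha.1, ha.2⟩
  · rw [inf_relIndex_left, relIndex_comap, relIndex_comap]
    exact hb d h1 h2
  · rw [map_pow, map_pow, z3, ← pow_mul, mem_zpowers_pow_iff]
    refine Nat.Coprime.coprime_dvd_right (orderOf_dvd_of_pow_eq_one hy) ?_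
    exact Nat.Coprime.mul_left ((Nat.coprime_primes Nat.prime_two hr).2 hr2.symm)
      ((Nat.Prime.coprime_iff_not_dvd hr).2 hm).symm

theorem pu_min {H : Type u} [Group H] [Finite H] {f : G →* H} (hf : Function.Surjective f)
    {S K : Subgroup G} (hmin : ∀ Y : Subgroup G, Y ≠ ⊤ → S ≤ Y → Y ≤ K) :
    ∀ Y : Subgroup H, Y ≠ ⊤ → S.map f ≤ Y → Y ≤ K.map f := fun Y h1 h3 => by
  rw [← map_comap_eq_self_of_surjective hf Y]
  refine map_mono (hmin _ (fun e => h1 ?_) (map_le_iff_le_comap.1 h3))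
  rw [← map_comap_eq_self_of_surjective hf Y, e, map_top_of_surjective f hf]

theorem pu_main (hZ : ZStmt.{u}) {H H' : Type u} [Group H] [Finite H] [Group H'] [Finite H']
    (f : G →* H) (hf : Function.Surjective f) (g : H →* H') (hg : Function.Surjective g)
    (hk : (Nat.card g.ker).Coprime 2) (h2 : pCore 2 H = ⊥) (ho : pPrimeCore 2 H' = ⊥)
    (h3 : ¬ 3 ∣ Nat.card H') (hKH : KH.{u} (Nat.card H' + 1)) {S V : Subgroup G}
    (hc : 𝐂(f.ker) ≤ f.ker) (hQS : f.ker ≤ S) (hS : IsSyl 2 S ⊤) (hVS : V ≤ S)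
    (hV : IsElementaryAbelian 2 V) (hSV : S ≤ 𝐍(V)) (hNF : H2.NF S V)
    (hmin : ∀ Y : Subgroup G, Y ≠ ⊤ → S ≤ Y → Y ≤ 𝐍(V)) (hJ : 𝐍(H7.SC.jj S) ≤ 𝐍(V))
    (hN : g.ker ≤ 𝐍(V).map f) : ⊤ ≤ 𝐍(V) := by
  have := Fact.mk Nat.prime_two
  by_contra hn
  have hK : (𝐍(V).map f).comap f = 𝐍(V) := comap_map_eq_self (hQS.trans hSV)
  have hK' : ((𝐍(V).map f).map g).comap g = 𝐍(V).map f := comap_map_eq_self hN
  have hS1 := H7.SC.isSyl_map hf hS
  have hS2 := H7.SC.isSyl_map hg hS1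
  have hmin1 := pu_min hf hmin
  have hmin2 := pu_min hg hmin1
  have hne1 : 𝐍(V).map f ≠ ⊤ := fun e => hn (by rw [← hK, e, comap_top])
  have hne2 : (𝐍(V).map f).map g ≠ ⊤ := fun e => hne1 (by rw [← hK', e, comap_top])
  have h2' : pCore 2 H' = ⊥ := by
    have hE : (pCore 2 H').comap g ⊲ ⊤ := ⟨le_top, (normalizer_eq_top _).ge⟩
    have h4 : (pCore 2 H').comap g ≤ 𝐍(V).map f := by
      rw [← hK']
      exact comap_mono ((H2.pCoreOf_top (G := H') 2 ▸ hS2.pCoreOf_le Nat.prime_two).trans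
        (map_mono (map_mono hSV)))
    have h5 := pu_frattini h2 hS1 hne1 hmin1 hE h4
    have h6 := H7.SC.le_sup_syl (C := g.ker) (le_top.trans (normalizer_eq_top _).ge)
      (hS1.inf_normal Nat.prime_two hE) fun k hk => by
        obtain ⟨n, hn⟩ := L.isPGroup_pCore 2 ⟨_, hk⟩
        exact ⟨n, by rw [MonoidHom.mem_ker, map_pow]; exact congrArg Subtype.val hn⟩
    rw [h5, bot_sup_eq, ← Subgroup.map_eq_bot_iff, map_comap_eq_self_of_surjective hg] at h6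
    exact h6
  have key : ∀ B ≤ S, S ≤ 𝐍(B) → ¬ B ≤ f.ker → ∃ L, ¬ (B.map f).map g ≤ 𝐂(L) ∧
      ∀ A ≤ S, IsElementaryAbelian 2 A → ¬ (A.map f).map g ≤ 𝐂(L) →
        ∃ x t A0 r k, PuDat f.ker A A0 x t r k ∧ x ∉ 𝐍(V) := fun B hBS hSB hB => by
    have hp := (hS.pgrp.to_le hBS).map f
    obtain ⟨L, l1, l2, l3, l4⟩ := pu_comp h2' ho hS2 hne2 (map_mono (map_mono hSV)) hmin2
      (hp.map g) ((map_mono ((map_mono hSB).trans (le_normalizer_map f))).trans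
        (le_normalizer_map g)) fun e => hB (by
        rw [Subgroup.map_eq_bot_iff] at e
        rw [← Subgroup.map_eq_bot_iff, ← inf_eq_right.2 e]
        exact H1.inf_eq_bot_of_coprime' (H1.coprime_card_of_isPGroup hp hk))
    refine ⟨L, l4, fun A hAS hA hAL => ?_⟩
    obtain ⟨r, y, t, B, a1, a2, a3, a4, a5, a6, a7, a8, a9⟩ := ss hZ hS2
      (H5.elemAb_map g (H5.elemAb_map f hA)) (map_mono (map_mono hAS)) l1 l2
      (fun h => h3 (h.trans (card_subgroup_dvd_card L)))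
      (hKH.mono (Nat.succ_le_succ (card_le_card_group L))) hAL
    obtain ⟨x, t, A0, k, D, hy⟩ := pu_lift f hf g hg hk hA a1 a2 a3 a4 a5 a6 a7 a8
    exact ⟨x, t, A0, r, k, D, fun hx => l3 (a9 _ (map_mono (map_mono hSV))
      (zpowers_le.2 (mem_map_of_mem g (mem_map_of_mem f hx)) hy))⟩
  have hVQ : V ≤ f.ker := by
    by_contra h
    obtain ⟨L, l1, l2⟩ := key V hVS hSV h
    obtain ⟨x, t, A0, r, k, D, hx⟩ := l2 V hVS hV l1
    exact hx (hSV (hQS (pu_one hc hQS hS.pgrp hVS hV hSV hNF D)))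
  have hJQ : ¬ H7.SC.jj S ≤ f.ker := fun h => hn (le_trans (by
    rw [H7.SC.jj, ← H5.thompsonSubgroupOf_eq_of_le hQS h]
    exact (normalizer_eq_top f.ker).ge.trans (H5.normalizer_le_normalizer_thompsonSubgroupOf _)) hJ)
  obtain ⟨L, l1, l2⟩ := key _ (H5.thompsonSubgroupOf_le S) ((le_norm_self S).trans
    (H5.normalizer_le_normalizer_thompsonSubgroupOf S)) hJQ
  refine l1 ?_
  rw [map_le_iff_le_comap, map_le_iff_le_comap, H5.thompsonSubgroupOf_eq_sSup]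
  refine sSup_le fun A hA => ?_
  rw [← map_le_iff_le_comap, ← map_le_iff_le_comap]
  by_contra h
  obtain ⟨x, t, A0, r, k, D, hx⟩ := l2 A hA.1 hA.2.1 h
  exact hx (pu_two hQS hS.pgrp hVQ hV hSV hNF hA D)

/-- Chapter P. -/
theorem pStmt (hZ : ZStmt.{u}) : PStmt.{u} := by
  intro G _ _ S V h3 hKH hc hS hVS hV hSV hNF hmin hJ
  have := Fact.mk Nat.prime_two
  have hRS := hS.pCoreOf_le Nat.prime_two
  rw [H2.pCoreOf_top] at hRS
  obtain ⟨f, hf⟩ : ∃ f, f = QuotientGroup.mk' (pCore 2 G) := ⟨_, rfl⟩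
  have hfs : Function.Surjective f := hf ▸ QuotientGroup.mk'_surjective _
  have hker : f.ker = pCore 2 G := by rw [hf, QuotientGroup.ker_mk']
  by_cases h4 : pCore 2 G = ⊥
  · rw [H2.pCoreOf_top, h4, cent_bot] at hc
    exact hc.trans bot_le
  have hcard : Nat.card (G ⧸ pCore 2 G) < Nat.card G := by
    rw [card_eq_card_quotient_mul_card_subgroup (pCore 2 G)]
    exact lt_mul_of_one_lt_right Nat.card_pos ((one_lt_card_iff_ne_bot _).2 h4)
  have hNo := L.coprime_card_pPrimeCore (G := G ⧸ pCore 2 G) 2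
  by_cases hN : pPrimeCore 2 (G ⧸ pCore 2 G) ≤ 𝐍(V).map f
  · refine pu_main hZ f hfs (QuotientGroup.mk' (pPrimeCore 2 (G ⧸ pCore 2 G)))
      (QuotientGroup.mk'_surjective _) (by rwa [QuotientGroup.ker_mk'])
      (L.pCore_quotient_pCore Nat.prime_two) (L.pPrimeCore_quotient_pPrimeCore Nat.prime_two)
      (fun h => h3 (h.trans ((card_quotient_dvd_card _).trans (card_quotient_dvd_card _))))
      (hKH.mono (Nat.succ_le_of_lt ((Nat.le_of_dvd Nat.card_pos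
        (card_quotient_dvd_card _)).trans_lt hcard)))
      (by rwa [hker, ← H2.pCoreOf_top]) (hker.le.trans hRS) hS hVS hV hSV hNF hmin hJ
      (by rwa [QuotientGroup.ker_mk'])
  have h5 : pPrimeCore 2 (G ⧸ pCore 2 G) ⊔ S.map f = ⊤ := by
    by_contra h
    exact hN (le_sup_left.trans (pu_min hfs hmin _ h le_sup_right))
  have s1 : Group.IsSolvable (pPrimeCore 2 (G ⧸ pCore 2 G)) :=
    feit_thompson _ (Nat.coprime_two_right.1 hNo)
  have s2 : Group.IsSolvable ((G ⧸ pCore 2 G) ⧸ pPrimeCore 2 (G ⧸ pCore 2 G)) := by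
    refine H1.isSolvable_of_isPGroup (p := 2) (IsPGroup.of_equiv ?_ topEquiv)
    rw [← map_top_of_surjective _ (QuotientGroup.mk'_surjective _), ← h5, Subgroup.map_sup,
      QuotientGroup.map_mk'_self, bot_sup_eq]
    exact (hS.pgrp.map f).map _
  have s3 : Group.IsSolvable (G ⧸ pCore 2 G) := Group.isSolvable_of_ker_le_range
    (pPrimeCore 2 (G ⧸ pCore 2 G)).subtype (QuotientGroup.mk' (pPrimeCore 2 (G ⧸ pCore 2 G)))
    (by rw [QuotientGroup.ker_mk', range_subtype])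
  have s4 : Group.IsSolvable (pCore 2 G) := H1.isSolvable_of_isPGroup (L.isPGroup_pCore 2)
  have s5 : Group.IsSolvable G := Group.isSolvable_of_ker_le_range (pCore 2 G).subtype
    (QuotientGroup.mk' (pCore 2 G)) (by rw [QuotientGroup.ker_mk', range_subtype])
  exact H7.SC.Ch.pu ⟨inferInstance, inf_le_right.trans hc, pu_noS3 h3⟩ hS hVS hV hSV hNF hmin hJ

end Cfsg.Agent.P14
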