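/-
P14, chapter C: assembly, and the classification of the simple groups of order prime to 3.
-/
import Cfsg.Agent.P14.C5
import Cfsg.Agent.P14.CS
import Cfsg.Agent.P14.CT
import Cfsg.Agent.P14.CB3
import Cfsg.Agent.P14.E4x3
import Cfsg.Agent.P14.E5
import Cfsg.Agent.P14.Main0
import Cfsg.Agent.P14.A
import Cfsg.Agent.P14.B4
import Cfsg.Agent.P14.N2
import Cfsg.Agent.P14.P
import Cfsg.Agent.P14.Z

set_option autoImplicit false

namespace Cfsg.Agent.P14

universe u

theorem cStmt : CStmt.{u} := fun G _ _ hs h3 hk _ _ h => by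
  obtain ⟨_, h0⟩ := C.exists_min0 hs h3 hk h
  exact endStmt e4Stmt G _ (C.Min.mc C.caseBStmt ⟨h0, C.btStmt G _ h0⟩)

/-- A nonabelian finite simple group of order prime to 3 is a Zassenhaus group of odd degree. -/
theorem kh_thm (n : ℕ) : KH.{u} n :=
  kh_all (aStmt (nStmt zStmt) (pStmt zStmt)) (bStmt zStmt (nStmt zStmt)) cStmt n

end Cfsg.Agent.P14
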