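/-
P14, chapter E4: the character induced from a linear character of the point stabilizer.
-/
import Cfsg.Agent.P14.E0

set_option autoImplicit false
set_option linter.unusedSectionVars false

namespace Cfsg.Agent.P14

open Subgroup Cfsg Cfsg.Agent Cfsg.Agent.FT
open scoped ComplexConjugate

universe u

variable {G : Type u} [Group G] [Finite G]

/-- `Q ⊲ H` is regular on the conjugates of `H` other than `H`. -/
structure Rg (H Q : Subgroup G) : Prop where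
  nQ : Q ⊲ H
  ex : ∀ g, g ∉ H → ∀ x ∈ H, ∃ z ∈ Q, g⁻¹ * (z * x) * g ∈ H
  ti : ∀ g, ∀ z ∈ Q, z ≠ 1 → g⁻¹ * z * g ∈ H → g ∈ H
  idx : H.index = 𝐨(Q) + 1

/-- `l` is a linear character of `H / Q` invariant under fusion in `G`. -/
structure Lm (H Q : Subgroup G) (l : G → ℂ) : Prop where
  lin : IsLin H l
  ker : Q ≤ cfKer l
  stab : ∀ g, ∀ x ∈ H, g⁻¹ * x * g ∈ H → l (g⁻¹ * x * g) = l x

theorem lm_one {H Q : Subgroup G} (h : Q ≤ H) : Lm H Q (cf1 H) :=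
  ⟨isLin_cf1 H, h.trans (le_cfKer_cf1 H), fun _ _ hx hg => by rw [cf1_of_mem hx, cf1_of_mem hg]⟩

theorem Lm.mem {H Q : Subgroup G} {l : G → ℂ} (m : Lm H Q l) : l ∈ irrKer H Q :=
  mem_irrKer.2 ⟨m.lin.mem_Irr, m.ker⟩

theorem ip_nat_top {χ ψ : G → ℂ} (hχ : IsChar ⊤ χ) {L : Subgroup G} (hψ : IsChar L ψ) :
    ∃ n : ℕ, ip L χ ψ = n := by
  obtain ⟨n, hn⟩ := (hχ.res le_top).ip_nat hψ
  exact ⟨n, by rwa [ip_res_left] at hn⟩

theorem exists_two {φ : G → ℂ} (hφ : IsChar ⊤ φ) (h2 : ip ⊤ φ φ = 2) :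
    ∃ f ∈ Irr (⊤ : Subgroup G), ∃ f' ∈ Irr (⊤ : Subgroup G), f ≠ f' ∧ φ = f + f' := by
  have h0 : φ ≠ 0 := fun e => by simp [e] at h2
  obtain ⟨f, hf⟩ := constt_nonempty hφ.mem_CF h0
  obtain ⟨fi, f0⟩ := mem_constt.1 hf
  obtain ⟨n, hn⟩ := hφ.ip_nat (irr_isChar fi)
  have e := nsq_sub ⊤ φ f
  rw [nsq_eq_of_ip (φ := φ) (r := 2) (by simpa using h2), nsq_irr fi, hn,
    Complex.natCast_re] at e
  have p := nsq_nonneg ⊤ (φ - f)
  have n1 : n = 1 := by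
    have n0 : n ≠ 0 := fun c => f0 (by simp [hn, c])
    have : (2 * n : ℝ) ≤ 3 := by linarith
    have : 2 * n ≤ 3 := by exact_mod_cast this
    omega
  subst n1
  refine ⟨f, fi, φ - f, (hφ.sub_constt hf).mem_Irr_iff.2 (by rw [e]; norm_num), fun c => ?_,
    (add_sub_cancel f φ).symm⟩
  have := ip_irr_self fi
  nth_rw 1 [c] at this
  rw [ip_sub_left, hn, ip_irr_self fi] at this
  norm_num at this

namespace Rg

variable {H Q : Subgroup G} (h : Rg H Q)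
include h

theorem normedTI (ne : Q ≠ ⊥) : NormedTI (sharp Q) ⊤ H := by
  obtain ⟨⟨a, ha⟩, a1⟩ := ne_bot_iff_exists_ne_one.1 ne
  refine ⟨⟨a, ha, fun e => a1 (Subtype.ext e)⟩, fun e => e.2 rfl, fun x hx => h.nQ.1 hx.1, le_top,
    fun g hg x hx => ⟨H1.conj_mem_of_le_normalizer h.nQ.2 hg hx.1, by simpa using hx.2⟩,
    fun g _ x hx hg => ?_⟩
  exact inv_mem_iff.1 (h.ti g⁻¹ x hx.1 hx.2 (by rw [inv_inv]; exact h.nQ.1 hg.1))

theorem card_top : (𝐨((⊤ : Subgroup G)) : ℂ) = (𝐨(Q) + 1) * 𝐨(H) := by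
  rw [Subgroup.card_top, ← H.index_mul_card, h.idx]; push_cast; ring

variable {l : G → ℂ} (m : Lm H Q l)
include m

theorem ind_Q {z : G} (hz : z ∈ Q) (z1 : z ≠ 1) : ind ⊤ H l z = 1 := by
  rw [ind_of_mem H l (mem_top z), ← sum_fs_subset (A := H) (fun x _ => mem_top x) fun g _ hg =>
      res_of_notMem _ fun c => hg (h.ti g z hz z1 c),
    sum_fs_congr (g := fun _ => (1 : ℂ)) fun g hg => by
      have c : g⁻¹ * z * g ∈ H := mul_mem (mul_mem (inv_mem hg) (h.nQ.1 hz)) hg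
      rw [res_of_mem _ c, m.stab g z (h.nQ.1 hz) c, m.lin.mem_cfKer_iff.1 (m.ker hz)],
    sum_fs_const, nsmul_eq_mul, mul_one, inv_mul_cancel₀ (card_ne_zero_C H)]

theorem ind_one' : ind ⊤ H l 1 = 𝐨(Q) + 1 := by
  rw [ind_one le_top, relIndex_top_right, h.idx, m.lin.2.1]; push_cast; ring

theorem sum_ind {x : G} (hx : x ∈ H) :
    ∑ z ∈ fs (Q : Set G), ind ⊤ H l (z * x) = 2 * 𝐨(Q) * l x := by
  classical
  have v : ∀ g, ∀ z ∈ Q, g⁻¹ * (z * x) * g ∈ H → res H l (g⁻¹ * (z * x) * g) = l x :=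
    fun g z hz c => by rw [res_of_mem _ c, m.stab g _ (mul_mem (h.nQ.1 hz) hx) c, m.ker hz]
  have e1 : ∑ g ∈ fs (H : Set G), ∑ z ∈ fs (Q : Set G), res H l (g⁻¹ * (z * x) * g) =
      𝐨(H) * (𝐨(Q) * l x) := by
    rw [sum_fs_congr (g := fun _ => 𝐨(Q) * l x) fun g hg => by
      rw [sum_fs_congr (g := fun _ => l x) fun z hz => v g z hz
        (mul_mem (mul_mem (inv_mem hg) (mul_mem (h.nQ.1 hz) hx)) hg), sum_fs_const, nsmul_eq_mul],
      sum_fs_const, nsmul_eq_mul]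
  have e2 : ∑ g ∈ fs (((⊤ : Subgroup G) : Set G) \ H),
      ∑ z ∈ fs (Q : Set G), res H l (g⁻¹ * (z * x) * g) =
      ∑ g ∈ fs (((⊤ : Subgroup G) : Set G) \ H), l x := sum_fs_congr fun g hg => by
    obtain ⟨z, hz, c⟩ := h.ex g hg.2 x hx
    rw [Finset.sum_eq_single_of_mem z (mem_fs.2 hz) fun w hw n => res_of_notMem _ fun c' =>
      hg.2 (h.ti g (w * z⁻¹) (mul_mem (mem_fs.1 hw) (inv_mem hz)) (by rwa [Ne, mul_inv_eq_one])
        (by convert mul_mem c' (inv_mem c) using 1; group)), v g z hz c]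
  have e3 := sum_fs_diff (A := (H : Set G)) (B := ((⊤ : Subgroup G) : Set G))
    (fun x _ => mem_top x) fun _ => l x
  rw [sum_fs_const, sum_fs_const, nsmul_eq_mul, nsmul_eq_mul, h.card_top] at e3
  rw [sum_fs_congr fun z _ => ind_of_mem H l (mem_top (z * x)), ← Finset.mul_sum, Finset.sum_comm,
    sum_fs_diff (A := (H : Set G)) (fun x _ => mem_top x), e1, e2,
    inv_mul_eq_iff_eq_mul₀ (card_ne_zero_C H)]
  linear_combination -e3

theorem mackey {μ : G → ℂ} (hk : Q ≤ cfKer μ) : ip H (ind ⊤ H l) μ = 2 * ip H l μ := by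
  have e : ∀ z ∈ Q, ∑ x ∈ fs (H : Set G), ind ⊤ H l x * conj (μ x) =
      ∑ x ∈ fs (H : Set G), ind ⊤ H l (z * x) * conj (μ x) := fun z hz => by
    rw [← sum_fs_mul_left (h.nQ.1 hz)]
    exact sum_fs_congr fun x _ => by rw [hk hz]
  have e2 := sum_fs_congr (A := (Q : Set G)) e
  rw [sum_fs_const, nsmul_eq_mul, Finset.sum_comm, sum_fs_congr (A := (H : Set G))
    (f := fun y => ∑ x ∈ fs (Q : Set G), ind ⊤ H l (x * y) * conj (μ y))
    (g := fun y => 2 * 𝐨(Q) * (l y * conj (μ y))) fun x hx => by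
      rw [← Finset.sum_mul, h.sum_ind m hx, mul_assoc], ← Finset.mul_sum] at e2
  rw [ip_def, ip_def, mul_left_comm]
  congr 1
  exact mul_left_cancel₀ (card_ne_zero_C Q) (by linear_combination e2)

theorem ip_ind {μ : G → ℂ} (hμ : μ ∈ irrKer H Q) [Decidable (l = μ)] :
    ip H (ind ⊤ H l) μ = if l = μ then 2 else 0 := by
  rw [h.mackey m (mem_irrKer.1 hμ).2]
  split_ifs with c
  · rw [← c, ip_irr_self m.lin.mem_Irr, mul_one]
  · rw [ip_irr_of_ne m.lin.mem_Irr (mem_irrKer.1 hμ).1 c, mul_zero]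

theorem nsq_ind : ip ⊤ (ind ⊤ H l) (ind ⊤ H l) = 2 := by
  classical
  rw [ip_ind_right le_top (ind_mem_CF _ _ _), h.ip_ind m m.mem, if_pos rfl]

omit m in
theorem sum_pi {t : G} (ht : t ∈ Q) (t1 : t ≠ 1) :
    ∑ a ∈ fs ((⊤ : Subgroup G) : Set G), ind ⊤ H (cf1 H) (a * t * a⁻¹ * t) =
      𝐨((⊤ : Subgroup G)) := by
  have m := lm_one h.nQ.1
  have e : ip ⊤ (ind ⊤ H (cf1 H)) (cf1 ⊤) = 1 := by
    rw [ip_ind_left le_top _ (cf1_mem_CF ⊤), ← ip_res_right, res_cf1 le_top, ip_cf1_cf1]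
  have d : Dirr ⊤ (ind ⊤ H (cf1 H) - cf1 ⊤) := dirr_of_nsq_one
    (sub_mem (vchar_ind le_top (cf1_mem_VChar H)) (cf1_mem_VChar ⊤)) (by
      rw [nsq_sub, nsq_eq_of_ip (r := 2) (by simpa using h.nsq_ind m), nsq_irr (cf1_mem_Irr ⊤), e]
      norm_num)
  have s := P1.BS.dirr_sum_conj_mul (t := t) d
  simp only [Pi.sub_apply, Finset.sum_sub_distrib, cf1_of_mem (mem_top _)] at s
  rw [h.ind_Q m ht t1, h.ind_one' m, sum_fs_const, nsmul_eq_mul] at s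
  exact mul_left_cancel₀ (card_ne_zero_C Q) (by linear_combination s)

theorem ind_prod (od : ∀ x ∈ H, l x ^ 2 = 1 → l x = 1) {s t : G} (hs : s * s = 1)
    (ht : t * t = 1) : ind ⊤ H l (s * t) = ind ⊤ H (cf1 H) (s * t) := by
  rw [ind_of_mem H l (mem_top _), ind_of_mem H _ (mem_top _)]
  congr 1
  refine sum_fs_congr fun y _ => ?_
  by_cases c : y⁻¹ * (s * t) * y ∈ H
  · rw [res_of_mem _ c, res_of_mem _ c, cf1_of_mem c]
    have e : (y⁻¹ * t * y)⁻¹ * (y⁻¹ * (s * t) * y) * (y⁻¹ * t * y) = (y⁻¹ * (s * t) * y)⁻¹ := by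
      have e1 := inv_eq_of_mul_eq_one_right hs
      calc _ = y⁻¹ * t⁻¹ * s * (t * t) * y := by group
        _ = _ := by rw [ht]; nth_rw 1 [← e1]; group
    have := m.stab (y⁻¹ * t * y) _ c (e ▸ inv_mem c)
    rw [e] at this
    exact od _ c (by rw [sq]; nth_rw 2 [← this]; exact m.lin.mul_inv c)
  · rw [res_of_notMem _ c, res_of_notMem _ c]

end Rg

/-- The two constituents of the induced character. -/
structure Two (H Q : Subgroup G) (l f f' : G → ℂ) : Prop where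
  rg : Rg H Q
  lm : Lm H Q l
  l1 : l ≠ cf1 H
  irr : f ∈ Irr ⊤
  irr' : f' ∈ Irr ⊤
  ne : f ≠ f'
  sum : ind ⊤ H l = f + f'

theorem Rg.exists_two {H Q : Subgroup G} (h : Rg H Q) {l : G → ℂ} (m : Lm H Q l)
    (l1 : l ≠ cf1 H) : ∃ f f', Two H Q l f f' := by
  obtain ⟨f, hf, f', hf', ne, e⟩ := P14.exists_two (m.lin.isChar.ind le_top) (h.nsq_ind m)
  exact ⟨f, f', h, m, l1, hf, hf', ne, e⟩

namespace Two

variable {H Q : Subgroup G} {l f f' : G → ℂ} (w : Two H Q l f f')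
include w

theorem symm : Two H Q l f' f :=
  ⟨w.rg, w.lm, w.l1, w.irr', w.irr, w.ne.symm, w.sum.trans (add_comm _ _)⟩

theorem ch : IsChar ⊤ f := irr_isChar w.irr

theorem ip_l : ip H f l = 1 := by
  rw [← ip_ind_right le_top (irr_mem_CF w.irr), w.sum, ip_add_right, ip_irr_self w.irr,
    ip_irr_of_ne w.irr w.irr' w.ne, add_zero]

theorem ip_mu {μ : G → ℂ} (hμ : μ ∈ irrKer H Q) (n : l ≠ μ) : ip H f μ = 0 := by
  classical
  have e := w.rg.ip_ind w.lm hμ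
  obtain ⟨a, ha⟩ := ip_nat_top w.ch (irr_isChar (mem_irrKer.1 hμ).1)
  obtain ⟨b, hb⟩ := ip_nat_top w.symm.ch (irr_isChar (mem_irrKer.1 hμ).1)
  rw [if_neg n, w.sum, ip_add_left, ha, hb] at e
  have : a + b = 0 := by exact_mod_cast e
  rw [ha, show a = 0 by omega, Nat.cast_zero]

theorem ne_one : f ≠ cf1 ⊤ := fun e => by
  have := w.ip_mu (cf1_mem_irrKer w.rg.nQ.1) w.l1
  rw [e, ← ip_res_left, res_cf1 le_top, ip_cf1_cf1] at this
  exact one_ne_zero this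

theorem val_reg {x : G} (hx : x ∈ H) (hc : Q ⊓ 𝐂[x] = ⊥) : f x = l x := by
  rw [← res_of_mem f hx, apply_eq_sum_irr (res_mem_CF le_top (irr_mem_CF w.irr)),
    Finset.sum_eq_single_of_mem l w.lm.lin.mem_Irr fun ρ hρ n => ?_, ip_res_left, w.ip_l, one_mul]
  by_cases k : Q ≤ cfKer ρ
  · rw [ip_res_left, w.ip_mu (mem_irrKer.2 ⟨hρ, k⟩) n.symm, zero_mul]
  · rw [irr_reg_off_ker w.rg.nQ hρ k hc, mul_zero]

theorem add_Q {z : G} (hz : z ∈ Q) (z1 : z ≠ 1) : f z + f' z = 1 := by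
  rw [← Pi.add_apply, ← w.sum, w.rg.ind_Q w.lm hz z1]

theorem add_dg : dg f + dg f' = 𝐨(Q) + 1 := by
  have := w.rg.ind_one' w.lm
  rw [w.sum, Pi.add_apply, irr_one_eq w.irr, irr_one_eq w.irr'] at this
  exact_mod_cast this

theorem str (od : ∀ x ∈ H, l x ^ 2 = 1 → l x = 1) {t : G} (ht : t ∈ Q) (t1 : t ≠ 1)
    (tt : t * t = 1) : f t ^ 2 * dg f' + f' t ^ 2 * dg f = dg f * dg f' := by
  have s := w.rg.sum_pi ht t1
  rw [← sum_fs_congr fun a _ => w.rg.ind_prod w.lm od (s := a * t * a⁻¹)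
    (by rw [conj_mul, tt, mul_one, mul_inv_cancel]) tt, w.sum] at s
  simp only [Pi.add_apply, Finset.sum_add_distrib] at s
  have s1 := P1.BS.dirr_sum_conj_mul (t := t) (Or.inl w.irr)
  have s2 := P1.BS.dirr_sum_conj_mul (t := t) (Or.inl w.irr')
  rw [irr_one_eq w.irr] at s1
  rw [irr_one_eq w.irr'] at s2
  exact mul_left_cancel₀ (card_ne_zero_C ⊤)
    (by linear_combination (dg f * dg f' : ℂ) * s - (dg f' : ℂ) * s1 - (dg f : ℂ) * s2)

end Two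

end Cfsg.Agent.P14
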